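import Mathlib.RingTheory.Extension.Presentation.Core
import Mathlib.RingTheory.Smooth.StandardSmoothOfFree
import Mathlib.RingTheory.Etale.Basic

/-! Etale algebras lift along quotient maps. -/

set_option autoImplicit false
set_option linter.style.haveILetI false
universe u

open TensorProduct

namespace Groth.L27.EtaleLift

/-- A presubmersive presentation with as many relations as variables becomes etale after inverting
any element making the jacobian invertible. -/
theorem etale_away {A M : Type u} [CommRing A] [CommRing M] [Algebra A M] {ι σ : Type} [Finite ι]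
    [Finite σ] (P₀ : Algebra.PreSubmersivePresentation A M ι σ) (hd : Nat.card ι = Nat.card σ)
    (r : M) (hr : IsUnit (algebraMap M (Localization.Away r) P₀.jacobian)) :
    Algebra.Etale A (Localization.Away r) := by
  let Q := (Algebra.PreSubmersivePresentation.localizationAway (Localization.Away r) r).comp P₀
  have hQ : IsUnit Q.jacobian := by
    simp only [Q]
    rw [Algebra.PreSubmersivePresentation.comp_jacobian_eq_jacobian_smul_jacobian,
      Algebra.smul_def, Algebra.PreSubmersivePresentation.localizationAway_jacobian]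
    exact hr.mul (IsLocalization.map_units _ (⟨r, 1, pow_one r⟩ : Submonoid.powers r))
  rw [Algebra.Etale.iff_isStandardSmoothOfRelativeDimension_zero]
  refine Algebra.SubmersivePresentation.isStandardSmoothOfRelativeDimension ⟨Q, hQ⟩ ?_
  simp only [Algebra.Presentation.dimension, Nat.card_sum, hd]
  omega

/-- An etale `R`-algebra has an etale model over any `A` with enough coefficients. -/
theorem exists_model {A R Cb : Type u} [CommRing A] [CommRing R] [CommRing Cb] [Algebra A R]
    [Algebra R Cb] [Algebra A Cb] [IsScalarTower A R Cb] {ι σ : Type} [Finite ι] [Finite σ]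
    (P : Algebra.SubmersivePresentation R Cb ι σ) (hP : P.dimension = 0) [P.HasCoeffs A] :
    ∃ (C : Type u) (_ : CommRing C) (_ : Algebra A C), Algebra.Etale A C ∧
      Nonempty (R ⊗[A] C ≃ₐ[R] Cb) := by
  have hd : Nat.card ι = Nat.card σ := by
    have h1 : Nat.card σ ≤ Nat.card ι := Nat.card_le_card_of_injective P.map P.map_inj
    simp only [Algebra.Presentation.dimension] at hP
    omega
  let M := P.ModelOfHasCoeffs A
  let P₀ : Algebra.PreSubmersivePresentation A M ι σ := P.toPreSubmersivePresentation.ofHasCoeffs A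
  let e : R ⊗[A] M ≃ₐ[R] Cb := P.toPresentation.tensorModelOfHasCoeffsEquiv A
  let ψ : M →ₐ[A] Cb := (e.toAlgHom.restrictScalars A).comp Algebra.TensorProduct.includeRight
  have hψ : IsUnit (ψ P₀.jacobian) := by
    classical
    let : Fintype σ := Fintype.ofFinite σ
    rw [Algebra.PreSubmersivePresentation.jacobian_eq_jacobiMatrix_det]
    change IsUnit (e (1 ⊗ₜ[A] Ideal.Quotient.mk _ P₀.jacobiMatrix.det))
    rw [Algebra.Presentation.tensorModelOfHasCoeffsEquiv_tmul, map_one, one_mul]
    have : P₀.jacobiMatrix.det = P.jacobianOfHasCoeffs A := by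
      simp only [P₀, Algebra.SubmersivePresentation.jacobianOfHasCoeffs]
    rw [this, Algebra.SubmersivePresentation.aeval_jacobianOfHasCoeffs]
    exact P.jacobian_isUnit
  refine ⟨Localization.Away P₀.jacobian, inferInstance, inferInstance, etale_away P₀ hd _
    (IsLocalization.map_units _ (⟨_, 1, pow_one _⟩ : Submonoid.powers P₀.jacobian)), ⟨?_⟩⟩
  have hψ' : ∀ y : Submonoid.powers P₀.jacobian, IsUnit (ψ y) := by
    rintro ⟨_, n, rfl⟩
    rw [map_pow]
    exact hψ.pow n
  let L : Localization.Away P₀.jacobian →ₐ[A] Cb := IsLocalization.liftAlgHom hψ'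
  have hL : ∀ m : M, L (algebraMap M _ m) = e (1 ⊗ₜ m) := fun m => IsLocalization.lift_eq _ m
  refine AlgEquiv.ofAlgHom
    (Algebra.TensorProduct.lift (Algebra.ofId R Cb) L fun _ _ => Commute.all _ _)
    ((Algebra.TensorProduct.map (AlgHom.id R R)
      (IsScalarTower.toAlgHom A M (Localization.Away P₀.jacobian))).comp e.symm.toAlgHom) ?_ ?_
  · ext x
    obtain ⟨y, rfl⟩ := e.surjective x
    induction y using TensorProduct.induction_on with
    | zero => simp
    | add y z hy hz => simp only [map_add, hy, hz]
    | tmul b m =>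
      simp only [AlgHom.comp_apply, AlgEquiv.coe_toAlgHom, AlgEquiv.symm_apply_apply,
        Algebra.TensorProduct.map_tmul, AlgHom.coe_id, id_eq, IsScalarTower.coe_toAlgHom',
        Algebra.TensorProduct.lift_tmul, hL]
      rw [Algebra.ofId_apply, ← e.commutes, ← map_mul]
      congr 1
      simp
  · refine Algebra.TensorProduct.ext (by ext) ?_
    refine IsLocalization.algHom_ext (Submonoid.powers P₀.jacobian) (AlgHom.ext fun m => ?_)
    simp only [AlgHom.comp_apply, AlgEquiv.coe_toAlgHom, AlgHom.coe_restrictScalars',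
      Algebra.TensorProduct.includeRight_apply, Algebra.TensorProduct.lift_tmul, map_one, one_mul,
      AlgHom.coe_id, id_eq]
    change Algebra.TensorProduct.map _ _ (e.symm (L (algebraMap M _ m))) = _
    rw [hL, AlgEquiv.symm_apply_apply]
    rfl

/-- Etale algebras lift along quotient maps. -/
theorem exists_lift (A : Type u) [CommRing A] (I : Ideal A) (Cb : Type u) [CommRing Cb]
    [Algebra (A ⧸ I) Cb] [Algebra.Etale (A ⧸ I) Cb] :
    ∃ (C : Type u) (_ : CommRing C) (_ : Algebra A C), Algebra.Etale A C ∧
      Nonempty ((A ⧸ I) ⊗[A] C ≃ₐ[A ⧸ I] Cb) := by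
  obtain ⟨ι, σ, _, _, P, hP⟩ :=
    ((Algebra.Etale.iff_isStandardSmoothOfRelativeDimension_zero (R := A ⧸ I) (S := Cb)).mp
      inferInstance).out
  letI : Algebra A Cb := ((algebraMap (A ⧸ I) Cb).comp (algebraMap A (A ⧸ I))).toAlgebra
  haveI : IsScalarTower A (A ⧸ I) Cb := .of_algebraMap_eq' rfl
  haveI : P.HasCoeffs A := ⟨fun x _ => Ideal.Quotient.mk_surjective x⟩
  exact exists_model P hP

/-- An etale algebra over a localization comes from one over some `A[1/s]`. -/
theorem exists_model_localization (A B : Type u) [CommRing A] [CommRing B] [Algebra A B]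
    (S : Submonoid A) [IsLocalization S B] (C : Type u) [CommRing C] [Algebra B C]
    [Algebra.Etale B C] :
    ∃ (s : A) (_ : s ∈ S) (_ : Algebra (Localization.Away s) B)
      (_ : IsScalarTower A (Localization.Away s) B)
      (C₀ : Type u) (_ : CommRing C₀) (_ : Algebra (Localization.Away s) C₀),
      Algebra.Etale (Localization.Away s) C₀ ∧
      Nonempty (B ⊗[Localization.Away s] C₀ ≃ₐ[B] C) := by
  obtain ⟨ι, σ, _, _, P, hP⟩ :=
    ((Algebra.Etale.iff_isStandardSmoothOfRelativeDimension_zero (R := B) (S := C)).mp
      inferInstance).out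
  obtain ⟨s, hs⟩ := IsLocalization.exist_integer_multiples_of_finset S P.finite_coeffs.toFinset
  have hu : IsUnit (Algebra.ofId A B (s : A)) := IsLocalization.map_units B s
  let f : Localization.Away (s : A) →ₐ[A] B :=
    IsLocalization.liftAlgHom (M := Submonoid.powers (s : A)) (f := Algebra.ofId A B) fun y => by
      obtain ⟨n, hn⟩ := y.2
      rw [show (y : A) = (s : A) ^ n from hn.symm, map_pow]
      exact hu.pow n
  letI : Algebra (Localization.Away (s : A)) B := f.toRingHom.toAlgebra
  haveI : IsScalarTower A (Localization.Away (s : A)) B :=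
    .of_algebraMap_eq fun a => (f.commutes a).symm
  letI : Algebra (Localization.Away (s : A)) C := ((algebraMap B C).comp f.toRingHom).toAlgebra
  haveI : IsScalarTower (Localization.Away (s : A)) B C := .of_algebraMap_eq' rfl
  haveI : P.HasCoeffs (Localization.Away (s : A)) := ⟨fun b hb => by
    obtain ⟨a, ha⟩ := hs b (P.finite_coeffs.mem_toFinset.mpr hb)
    refine ⟨IsLocalization.Away.invSelf (S := Localization.Away (s : A)) (s : A) *
      algebraMap A _ a, ?_⟩
    change f _ = b
    rw [map_mul, f.commutes, ha, Algebra.smul_def, ← mul_assoc, ← f.commutes (s : A), ← map_mul,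
      mul_comm (IsLocalization.Away.invSelf _), IsLocalization.Away.mul_invSelf, map_one, one_mul]⟩
  obtain ⟨C₀, i₁, i₂, h₁, h₂⟩ := exists_model (A := Localization.Away (s : A)) P hP
  exact ⟨s, s.2, inferInstance, inferInstance, C₀, i₁, i₂, h₁, h₂⟩

end Groth.L27.EtaleLift
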