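import Groth.Prelude.Def_PBC
import Mathlib.Algebra.Category.Ring.FinitePresentation
import Mathlib.Algebra.Category.Ring.Under.Basic
import Mathlib.Algebra.Category.Ring.FilteredColimits
import Mathlib.CategoryTheory.MorphismProperty.Ind
import Mathlib.CategoryTheory.Presentable.StrongGenerator
import Mathlib.CategoryTheory.Limits.Constructions.Over.Connected
import Mathlib.CategoryTheory.Limits.Constructions.Over.Basic
import Mathlib.CategoryTheory.Limits.Types.Filtered
import Mathlib.RingTheory.RingHom.Etale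
import Mathlib.RingTheory.Smooth.NoetherianDescent

/-! Ind-etale algebras: categorical form, factorisation criterion, permanence. -/

set_option autoImplicit false
set_option linter.style.haveILetI false
set_option linter.unusedVariables false
universe u

open CategoryTheory CategoryTheory.Limits TensorProduct

namespace Groth.L27.IndEtale

open MorphismProperty

/-- Jointly surjective + eventually injective cocones under `A` are colimits. -/
noncomputable def isColimitOfElements {A : CommRingCat.{u}} {J : Type u} [SmallCategory J]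
    [IsFiltered J] (D : J ⥤ Under A) (c : Cocone D)
    (hsurj : ∀ x : c.pt.right, ∃ (i : J) (y : (D.obj i).right), (c.ι.app i).right y = x)
    (hinj : ∀ (i : J) (x y : (D.obj i).right), (c.ι.app i).right x = (c.ι.app i).right y →
      ∃ (k : J) (f : i ⟶ k), (D.map f).right x = (D.map f).right y) : IsColimit c := by
  haveI : PreservesColimitsOfShape J (Under.forget A ⋙ forget CommRingCat.{u}) := inferInstance
  haveI : HasColimitsOfShape J (Under A) := inferInstance
  haveI : ReflectsColimitsOfShape J (Under.forget A ⋙ forget CommRingCat.{u}) :=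
    reflectsColimitsOfShape_of_reflectsIsomorphisms
  refine isColimitOfReflects (Under.forget A ⋙ forget CommRingCat.{u}) ?_
  exact Types.FilteredColimit.isColimitOf' _ _
    (fun x => let ⟨i, y, hy⟩ := hsurj x; ⟨i, y, hy.symm⟩) hinj

section factor

variable {Q : MorphismProperty CommRingCat.{u}}

/-- A morphism from a finitely presented algebra to an ind-`Q` algebra factors through a `Q` one. -/
theorem exists_factor {A B P : Type u} [CommRing A] [CommRing B] [CommRing P] [Algebra A B]
    [Algebra A P] [Algebra.FinitePresentation A P]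
    (h : ind.{u} Q (CommRingCat.ofHom (algebraMap A B))) (φ : P →ₐ[A] B) :
    ∃ (E : Type u) (_ : CommRing E) (_ : Algebra A E) (α : P →ₐ[A] E) (β : E →ₐ[A] B),
      Q (CommRingCat.ofHom (algebraMap A E)) ∧ β.comp α = φ := by
  obtain ⟨J, _, _, D, t, s, hs, hst⟩ := h
  have hp : isFinitelyPresentable.{u} CommRingCat.{u} (CommRingCat.ofHom (algebraMap A P)) :=
    CommRingCat.isFinitelyPresentable_hom _
      (RingHom.finitePresentation_algebraMap.mpr inferInstance)
  obtain ⟨j, q, hq₁, hq₂⟩ := exists_hom_of_isFinitelyPresentable hs hp t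
    (CommRingCat.ofHom φ.toRingHom) fun j => by
      rw [(hst j).2]
      exact CommRingCat.hom_ext (RingHom.ext fun a => (φ.commutes a).symm)
  letI : Algebra A (D.obj j) := (t.app j).hom.toAlgebra
  exact ⟨D.obj j, inferInstance, inferInstance,
    ⟨q.hom, fun a => congr($(hq₁).hom a)⟩,
    ⟨(s.app j).hom, fun a => congr($((hst j).2).hom a)⟩, (hst j).1,
    AlgHom.ext fun x => congr($(hq₂).hom x)⟩

variable (Q)

/-- Presented `Q`-algebras over `B`. -/
structure Pres (A B : Type u) [CommRing A] [CommRing B] [Algebra A B] : Type u where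
  n : ℕ
  I : Ideal (MvPolynomial (Fin n) A)
  prop : Q (CommRingCat.ofHom (algebraMap A (MvPolynomial (Fin n) A ⧸ I)))
  map : (MvPolynomial (Fin n) A ⧸ I) →ₐ[A] B

variable {Q} {A B : Type u} [CommRing A] [CommRing B] [Algebra A B]

noncomputable instance : Category (Pres Q A B) where
  Hom X Y := {f : (MvPolynomial (Fin X.n) A ⧸ X.I) →ₐ[A] (MvPolynomial (Fin Y.n) A ⧸ Y.I) //
    Y.map.comp f = X.map}
  id X := ⟨AlgHom.id A _, AlgHom.comp_id _⟩
  comp f g := ⟨g.1.comp f.1, by rw [← AlgHom.comp_assoc, g.2, f.2]⟩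

theorem exists_pres [Q.RespectsIso] (E : Type u) [CommRing E] [Algebra A E]
    [Algebra.FinitePresentation A E] (hE : Q (CommRingCat.ofHom (algebraMap A E)))
    (ψ : E →ₐ[A] B) : ∃ (X : Pres Q A B) (e : E ≃ₐ[A] (MvPolynomial (Fin X.n) A ⧸ X.I)),
      X.map.comp e.toAlgHom = ψ := by
  obtain ⟨n, π, hπ, -⟩ := Algebra.FinitePresentation.out (R := A) (A := E)
  let e := (Ideal.quotientKerAlgEquivOfSurjective hπ).symm
  refine ⟨⟨n, RingHom.ker π, ?_, ψ.comp e.symm.toAlgHom⟩, e, ?_⟩
  · have : CommRingCat.ofHom (algebraMap A (MvPolynomial (Fin n) A ⧸ RingHom.ker π)) =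
        CommRingCat.ofHom (algebraMap A E) ≫ e.toRingEquiv.toCommRingCatIso.hom :=
      CommRingCat.hom_ext (RingHom.ext fun a => (e.commutes a).symm)
    rw [this, MorphismProperty.cancel_right_of_respectsIso Q]
    exact hE
  · ext x
    simp

variable (hQ : ∀ {X Y : CommRingCat.{u}} (f : X ⟶ Y), Q f → f.hom.FinitePresentation)
include hQ

theorem fp_pres (X : Pres Q A B) :
    Algebra.FinitePresentation A (MvPolynomial (Fin X.n) A ⧸ X.I) :=
  RingHom.finitePresentation_algebraMap.mp (hQ _ X.prop)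

variable [Q.RespectsIso]
variable (H : ∀ (P : Type u) [CommRing P] [Algebra A P] [Algebra.FinitePresentation A P]
    (φ : P →ₐ[A] B), ∃ (E : Type u) (_ : CommRing E) (_ : Algebra A E) (α : P →ₐ[A] E)
      (β : E →ₐ[A] B), Q (CommRingCat.ofHom (algebraMap A E)) ∧ β.comp α = φ)
include H

theorem exists_pres_factor (P : Type u) [CommRing P] [Algebra A P]
    [Algebra.FinitePresentation A P] (φ : P →ₐ[A] B) :
    ∃ (X : Pres Q A B) (α : P →ₐ[A] (MvPolynomial (Fin X.n) A ⧸ X.I)), X.map.comp α = φ := by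
  obtain ⟨E, _, _, α, β, hE, hcomp⟩ := H P φ
  haveI : Algebra.FinitePresentation A E := RingHom.finitePresentation_algebraMap.mp (hQ _ hE)
  obtain ⟨X, e, he⟩ := exists_pres E hE β
  exact ⟨X, e.toAlgHom.comp α, by rw [← AlgHom.comp_assoc, he, hcomp]⟩

theorem isFiltered_pres : IsFiltered (Pres Q A B) := by
  refine { cocone_objs := fun X Y => ?_, cocone_maps := fun X Y f g => ?_, nonempty := ?_ }
  · haveI := fp_pres hQ X
    haveI := fp_pres hQ Y
    haveI : Algebra.FinitePresentation A ((MvPolynomial (Fin X.n) A ⧸ X.I) ⊗[A]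
        (MvPolynomial (Fin Y.n) A ⧸ Y.I)) :=
      Algebra.FinitePresentation.trans A (MvPolynomial (Fin X.n) A ⧸ X.I)
        ((MvPolynomial (Fin X.n) A ⧸ X.I) ⊗[A] (MvPolynomial (Fin Y.n) A ⧸ Y.I))
    obtain ⟨Z, α, hα⟩ := exists_pres_factor hQ H ((MvPolynomial (Fin X.n) A ⧸ X.I) ⊗[A]
        (MvPolynomial (Fin Y.n) A ⧸ Y.I))
      (Algebra.TensorProduct.lift X.map Y.map fun _ _ => Commute.all _ _)
    refine ⟨Z, ⟨α.comp Algebra.TensorProduct.includeLeft, ?_⟩,
      ⟨α.comp Algebra.TensorProduct.includeRight, ?_⟩, trivial⟩ <;>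
    · rw [← AlgHom.comp_assoc, hα]
      ext x
      simp
  · classical
    haveI := fp_pres hQ Y
    let J : Ideal (MvPolynomial (Fin Y.n) A ⧸ Y.I) :=
      Ideal.span (Set.range fun i : Fin X.n =>
        f.1 (Ideal.Quotient.mkₐ A X.I (.X i)) - g.1 (Ideal.Quotient.mkₐ A X.I (.X i)))
    haveI : Algebra.FinitePresentation A ((MvPolynomial (Fin Y.n) A ⧸ Y.I) ⧸ J) :=
      Algebra.FinitePresentation.quotient (Submodule.fg_span (Set.finite_range _))
    have hJ : ∀ a ∈ J, Y.map a = 0 := by
      change J ≤ RingHom.ker Y.map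
      rw [Ideal.span_le]
      rintro _ ⟨i, rfl⟩
      simp only [SetLike.mem_coe, RingHom.mem_ker, map_sub]
      rw [← AlgHom.comp_apply, ← AlgHom.comp_apply Y.map g.1, f.2, g.2, sub_self]
    obtain ⟨Z, α, hα⟩ := exists_pres_factor hQ H ((MvPolynomial (Fin Y.n) A ⧸ Y.I) ⧸ J)
      (Ideal.Quotient.liftₐ J Y.map hJ)
    refine ⟨Z, ⟨α.comp (Ideal.Quotient.mkₐ A J), ?_⟩, Subtype.ext ?_⟩
    · rw [← AlgHom.comp_assoc, hα, Ideal.Quotient.liftₐ_comp]
    · refine Ideal.Quotient.algHom_ext A (MvPolynomial.algHom_ext fun i => ?_)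
      change α (Ideal.Quotient.mk J _) = α (Ideal.Quotient.mk J _)
      congr 1
      rw [Ideal.Quotient.mk_eq_mk_iff_sub_mem]
      exact Ideal.subset_span ⟨i, rfl⟩
  · obtain ⟨X, -, -⟩ := exists_pres_factor hQ H A (Algebra.ofId A B)
    exact ⟨X⟩

/-- Converse of `exists_factor`. -/
theorem ind_of_factor : ind.{u} Q (CommRingCat.ofHom (algebraMap A B)) := by
  haveI := isFiltered_pres hQ H
  let D : Pres Q A B ⥤ Under (CommRingCat.of A) :=
    { obj := fun X => CommRingCat.mkUnder (CommRingCat.of A) (MvPolynomial (Fin X.n) A ⧸ X.I)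
      map := fun f => f.1.toUnder }
  let c : Cocone D :=
    { pt := CommRingCat.mkUnder (CommRingCat.of A) B
      ι := { app := fun X => X.map.toUnder
             naturality := fun X Y f => by
              ext x
              exact AlgHom.congr_fun f.2 x } }
  rw [ind_iff_ind_underMk]
  refine ⟨Pres Q A B, inferInstance, inferInstance,
    { diag := D, ι := c.ι, isColimit := isColimitOfElements D c ?_ ?_ }, fun X => X.prop⟩
  · intro (b : B)
    obtain ⟨X, α, hα⟩ := exists_pres_factor hQ H (MvPolynomial (Fin 1) A)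
      (MvPolynomial.aeval fun _ => b)
    exact ⟨X, α (.X 0), (AlgHom.congr_fun hα _).trans (MvPolynomial.aeval_X _ _)⟩
  · intro X (x : MvPolynomial (Fin X.n) A ⧸ X.I) (y : MvPolynomial (Fin X.n) A ⧸ X.I) hxy
    change X.map x = X.map y at hxy
    haveI := fp_pres hQ X
    haveI : Algebra.FinitePresentation A ((MvPolynomial (Fin X.n) A ⧸ X.I) ⧸
        Ideal.span ({x - y} : Set _)) :=
      Algebra.FinitePresentation.quotient (Submodule.fg_span_singleton _)
    obtain ⟨Z, α, hα⟩ := exists_pres_factor hQ H ((MvPolynomial (Fin X.n) A ⧸ X.I) ⧸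
        Ideal.span ({x - y} : Set _))
      (Ideal.Quotient.liftₐ (Ideal.span ({x - y} : Set _)) X.map fun a ha => by
        obtain ⟨r, rfl⟩ := Ideal.mem_span_singleton'.mp ha
        simp [hxy])
    refine ⟨Z, ⟨α.comp (Ideal.Quotient.mkₐ A _), ?_⟩, ?_⟩
    · rw [← AlgHom.comp_assoc, hα, Ideal.Quotient.liftₐ_comp]
    · change α (Ideal.Quotient.mk _ _) = α (Ideal.Quotient.mk _ _)
      congr 1
      rw [Ideal.Quotient.mk_eq_mk_iff_sub_mem]
      exact Ideal.mem_span_singleton_self _

end factor

/-- Etale ring maps as a morphism property. -/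
abbrev EtaleProp : MorphismProperty CommRingCat.{u} :=
  RingHom.toMorphismProperty fun {R S} _ _ f => RingHom.Etale f

theorem etaleProp_iff (A B : Type u) [CommRing A] [CommRing B] [Algebra A B] :
    EtaleProp (CommRingCat.ofHom (algebraMap A B)) ↔ Algebra.Etale A B :=
  RingHom.etale_algebraMap

theorem fp_of_etale {X Y : CommRingCat.{u}} (f : X ⟶ Y) (hf : EtaleProp f) :
    f.hom.FinitePresentation :=
  (RingHom.Etale.iff_flat_and_formallyUnramified.mp hf).2.2

theorem etaleProp_le_fp : EtaleProp.{u} ≤ isFinitelyPresentable.{u} CommRingCat.{u} :=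
  fun _ _ f hf => CommRingCat.isFinitelyPresentable_hom f (fp_of_etale f hf)

instance : EtaleProp.{u}.RespectsIso :=
  RingHom.toMorphismProperty_respectsIso_iff.mp RingHom.Etale.respectsIso

instance : EtaleProp.{u}.IsStableUnderCobaseChange :=
  RingHom.isStableUnderCobaseChange_toMorphismProperty_iff.mpr
    RingHom.Etale.isStableUnderBaseChange

instance : EtaleProp.{u}.IsStableUnderComposition :=
  ⟨fun f g hf hg => RingHom.Etale.stableUnderComposition f.hom g.hom hf hg⟩

theorem isIndEtale_iff (A B : Type u) [CommRing A] [CommRing B] [Algebra A B] :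
    EtPBC.IsIndEtale A B ↔ ind.{u} EtaleProp (CommRingCat.ofHom (algebraMap A B)) := by
  rw [ind_iff_ind_underMk]
  constructor
  · rintro ⟨J, _, _, D, c, hc, hD, ⟨e⟩⟩
    exact ⟨J, inferInstance, inferInstance,
      ({ diag := D, ι := c.ι, isColimit := hc } : ColimitPresentation J c.pt).ofIso e, hD⟩
  · rintro ⟨J, _, _, pres, h⟩
    exact ⟨J, inferInstance, inferInstance, pres.diag, ⟨_, pres.ι⟩, pres.isColimit, h, ⟨Iso.refl _⟩⟩

/-- Ind-etale = maps from finitely presented algebras factor through etale algebras. -/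
theorem isIndEtale_iff_exists_factor (A B : Type u) [CommRing A] [CommRing B] [Algebra A B] :
    EtPBC.IsIndEtale A B ↔ ∀ (P : Type u) [CommRing P] [Algebra A P]
      [Algebra.FinitePresentation A P] (φ : P →ₐ[A] B),
      ∃ (E : Type u) (_ : CommRing E) (_ : Algebra A E) (α : P →ₐ[A] E) (β : E →ₐ[A] B),
        Algebra.Etale A E ∧ β.comp α = φ := by
  rw [isIndEtale_iff]
  constructor
  · intro h P _ _ _ φ
    obtain ⟨E, i₁, i₂, α, β, hE, hc⟩ := exists_factor h φ
    exact ⟨E, i₁, i₂, α, β, (etaleProp_iff A E).mp hE, hc⟩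
  · intro H
    refine ind_of_factor (fun f hf => fp_of_etale f hf) fun P _ _ _ φ => ?_
    obtain ⟨E, i₁, i₂, α, β, hE, hc⟩ := H P φ
    exact ⟨E, i₁, i₂, α, β, (etaleProp_iff A E).mpr hE, hc⟩

theorem of_etale (A B : Type u) [CommRing A] [CommRing B] [Algebra A B] [Algebra.Etale A B] :
    EtPBC.IsIndEtale A B :=
  (isIndEtale_iff A B).mpr (le_ind _ _ ((etaleProp_iff A B).mpr inferInstance))

theorem baseChange (A B A' : Type u) [CommRing A] [CommRing B] [CommRing A'] [Algebra A B]
    [Algebra A A'] (h : EtPBC.IsIndEtale A B) : EtPBC.IsIndEtale A' (A' ⊗[A] B) := by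
  rw [isIndEtale_iff] at h ⊢
  exact MorphismProperty.of_isPushout (CommRingCat.isPushout_tensorProduct A A' B) h

instance isFinitelyAccessibleCategory_under (R : CommRingCat.{u}) :
    IsFinitelyAccessibleCategory.{u} (Under R) := by
  haveI := Cardinal.fact_isRegular_aleph0.{u}
  suffices IsCardinalLocallyPresentable (Under R) Cardinal.aleph0.{u} from inferInstance
  rw [IsCardinalLocallyPresentable.iff_exists_isStrongGenerator]
  let G : Under R := CommRingCat.mkUnder R (MvPolynomial (Fin 1) R)
  refine ⟨ObjectProperty.singleton G, inferInstance, ?_, ?_⟩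
  · have key : ∀ (Y : Under R) (y : Y.right), ∃ h : G ⟶ Y, h.right (MvPolynomial.X 0) = y :=
      fun Y y => ⟨Under.homMk (CommRingCat.ofHom (MvPolynomial.eval₂Hom Y.hom.hom fun _ => y))
        (CommRingCat.hom_ext (RingHom.ext fun r => MvPolynomial.eval₂Hom_C _ _ r)),
        MvPolynomial.eval₂Hom_X' _ _ _⟩
    rw [ObjectProperty.isStrongGenerator_iff]
    constructor
    · intro X Y f g hfg
      refine Under.UnderMorphism.ext (CommRingCat.hom_ext (RingHom.ext fun x => ?_))
      obtain ⟨h, rfl⟩ := key X x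
      exact congr($(hfg G ⟨.unit⟩ h).right (MvPolynomial.X 0))
    · intro X Y i _ hi
      have : IsIso i.right := by
        rw [ConcreteCategory.isIso_iff_bijective]
        refine ⟨fun x y hxy => ?_, fun y => ?_⟩
        · obtain ⟨hx, rfl⟩ := key X x
          obtain ⟨hy, rfl⟩ := key X y
          suffices hx ≫ i = hy ≫ i by rw [(cancel_mono i).mp this]
          refine Under.UnderMorphism.ext (CommRingCat.hom_ext
            (MvPolynomial.ringHom_ext (fun r => ?_) fun j => ?_))
          · exact congr($(Under.w (hx ≫ i)).hom r).trans congr($(Under.w (hy ≫ i)).hom r).symm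
          · obtain rfl := Subsingleton.elim j 0
            exact hxy
        · obtain ⟨h, rfl⟩ := key Y y
          obtain ⟨h', rfl⟩ := hi G ⟨.unit⟩ h
          exact ⟨h'.right (MvPolynomial.X 0), rfl⟩
      haveI : IsIso ((Under.forget R).map i) := this
      exact isIso_of_reflects_iso i (Under.forget R)
  · rw [ObjectProperty.singleton_le_iff]
    exact CommRingCat.isFinitelyPresentable_under R G
      ((RingHom.finitePresentation_algebraMap (A := R) (B := MvPolynomial (Fin 1) R)).mpr inferInstance)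

attribute [local instance] ULift.algebra' in
instance : PreIndSpreads.{u} EtaleProp.{u} where
  exists_isPushout {J _ _ D c} hc {T} f hf := by
    letI : Algebra c.pt T := f.hom.toAlgebra
    haveI : Algebra.Etale c.pt T := (etaleProp_iff c.pt T).mp hf
    haveI : IsScalarTower (ULift.{u} ℤ) c.pt T := .of_algebraMap_eq fun z => by
      change ((z.down : ℤ) : T) = algebraMap c.pt T (z.down : ℤ)
      simp
    haveI : IsNoetherianRing (ULift.{u} ℤ) :=
      isNoetherianRing_of_ringEquiv ℤ ULift.ringEquiv.symm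
    obtain ⟨A₀, B₀, _, _, hA₀, hB₀, ⟨e⟩⟩ :=
      Algebra.Etale.exists_subalgebra_fg (ULift.{u} ℤ) c.pt T
    haveI : Algebra.FiniteType (ULift.{u} ℤ) A₀ := (Subalgebra.fg_iff_finiteType A₀).mp hA₀
    let α : (Functor.const J).obj (CommRingCat.of (ULift.{u} ℤ)) ⟶ D :=
      { app := fun j =>
          CommRingCat.ofHom (algebraMap (ULift.{u} ℤ) (D.obj j))
        naturality := fun i j g => CommRingCat.hom_ext <| RingHom.ext fun z => by
          change ((z.down : ℤ) : D.obj j) = (D.map g).hom ((z.down : ℤ) : D.obj i)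
          simp }
    obtain ⟨j, a, -, ha⟩ := RingHom.EssFiniteType.exists_eq_comp_ι_app_of_isColimit
      (CommRingCat.of (ULift.{u} ℤ)) D α (CommRingCat.ofHom (algebraMap (ULift.{u} ℤ) A₀)) c hc
      (RingHom.finitePresentation_algebraMap.mpr
        (Algebra.FinitePresentation.of_finiteType.mp inferInstance))
      (CommRingCat.ofHom (algebraMap A₀ c.pt)) fun i => CommRingCat.hom_ext <| RingHom.ext fun z => by
        change ((z.down : ℤ) : c.pt) = (c.ι.app i).hom ((z.down : ℤ) : D.obj i)
        simp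
    letI : Algebra A₀ (D.obj j) := a.hom.toAlgebra
    have sq1 := (CommRingCat.isPushout_tensorProduct A₀ (D.obj j) B₀)
    have sq2 := (CommRingCat.isPushout_tensorProduct A₀ c.pt B₀).of_iso (Iso.refl _) (Iso.refl _)
      (Iso.refl _) e.symm.toRingEquiv.toCommRingCatIso (by simp) (by simp)
      (f' := CommRingCat.ofHom (algebraMap A₀ c.pt)) (g' := CommRingCat.ofHom (algebraMap A₀ B₀))
      (inl' := f) (inr' := CommRingCat.ofHom (Algebra.TensorProduct.includeRight.toRingHom) ≫
        e.symm.toRingEquiv.toCommRingCatIso.hom)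
      (CommRingCat.hom_ext <| RingHom.ext fun x => (e.symm.commutes x).symm ▸ rfl) (by simp)
    have ha' : CommRingCat.ofHom (algebraMap A₀ c.pt) =
        CommRingCat.ofHom (algebraMap A₀ (D.obj j)) ≫ c.ι.app j := ha
    rw [ha'] at sq2
    let g : CommRingCat.of ((D.obj j) ⊗[A₀] B₀) ⟶ T :=
      sq1.desc (c.ι.app j ≫ f) (CommRingCat.ofHom (Algebra.TensorProduct.includeRight.toRingHom) ≫
        e.symm.toRingEquiv.toCommRingCatIso.hom) (by rw [← Category.assoc]; exact sq2.w)
    refine ⟨j, CommRingCat.of ((D.obj j) ⊗[A₀] B₀),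
      CommRingCat.ofHom Algebra.TensorProduct.includeLeftRingHom, g, ?_, ?_⟩
    · exact IsPushout.of_left' sq2 sq1
    · exact MorphismProperty.of_isPushout sq1 ((etaleProp_iff A₀ B₀).mpr hB₀)

theorem trans (A B C : Type u) [CommRing A] [CommRing B] [CommRing C] [Algebra A B] [Algebra B C]
    [Algebra A C] [IsScalarTower A B C] (hAB : EtPBC.IsIndEtale A B)
    (hBC : EtPBC.IsIndEtale B C) : EtPBC.IsIndEtale A C := by
  rw [isIndEtale_iff] at *
  rw [IsScalarTower.algebraMap_eq A B C]
  exact (IsStableUnderComposition.ind_of_preIndSpreads etaleProp_le_fp).comp_mem _ _ hAB hBC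

theorem of_isColimit (A B : Type u) [CommRing A] [CommRing B] [Algebra A B] {J : Type u}
    [SmallCategory J] [IsFiltered J] (D : J ⥤ Under (CommRingCat.of A))
    (hD : ∀ j, letI := (D.obj j).hom.hom.toAlgebra; EtPBC.IsIndEtale A ↥(D.obj j).right)
    (c : Cocone D) (hc : IsColimit c)
    (e : c.pt ≅ Under.mk (CommRingCat.ofHom (algebraMap A B))) : EtPBC.IsIndEtale A B := by
  rw [isIndEtale_iff]
  suffices h : ind.{u} (ind.{u} EtaleProp.{u}) (CommRingCat.ofHom (algebraMap A B)) by
    have e := ind_ind.{u} etaleProp_le_fp.{u}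
    exact e ▸ h
  rw [ind_iff_ind_underMk]
  refine ⟨J, inferInstance, inferInstance,
    ({ diag := D, ι := c.ι, isColimit := hc } : ColimitPresentation J c.pt).ofIso e, fun j => ?_⟩
  letI := (D.obj j).hom.hom.toAlgebra
  exact (isIndEtale_iff A (D.obj j).right).mp (hD j)

end Groth.L27.IndEtale
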