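import Groth.Agent.L27.IndEtale
import Mathlib.RingTheory.Etale.Weakly
import Mathlib.RingTheory.Flat.EquationalCriterion
import Mathlib.RingTheory.Extension.Presentation.Core

/-! Cancellation for ind-etale algebras; ind-etale implies weakly etale. -/

set_option autoImplicit false
set_option linter.style.haveILetI false
universe u

open TensorProduct

namespace Groth.L27.IndEtale

theorem of_isScalarTower (A B C : Type u) [CommRing A] [CommRing B] [CommRing C] [Algebra A B]
    [Algebra B C] [Algebra A C] [IsScalarTower A B C] (hB : EtPBC.IsIndEtale A B)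
    (hC : EtPBC.IsIndEtale A C) : EtPBC.IsIndEtale B C := by
  rw [isIndEtale_iff_exists_factor] at hB hC ⊢
  intro P _ _ _ φ
  let Q := Algebra.Presentation.ofFinitePresentation B P
  haveI : Finite Q.coeffs := Q.finite_coeffs
  obtain ⟨n, ⟨ec⟩⟩ := Finite.exists_equiv_fin Q.coeffs
  obtain ⟨F, _, _, α, β, hF, hαβ⟩ := hB (MvPolynomial (Fin n) A)
    (MvPolynomial.aeval fun i => ((ec.symm i : Q.coeffs) : B))
  letI : Algebra F B := β.toRingHom.toAlgebra
  haveI : IsScalarTower A F B := .of_algebraMap_eq fun a => (β.commutes a).symm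
  letI : Algebra F P := ((algebraMap B P).comp (algebraMap F B)).toAlgebra
  haveI : IsScalarTower F B P := .of_algebraMap_eq' rfl
  letI : Algebra F C := ((algebraMap B C).comp (algebraMap F B)).toAlgebra
  haveI : IsScalarTower F B C := .of_algebraMap_eq' rfl
  haveI : IsScalarTower A F C := .of_algebraMap_eq fun a => by
    rw [IsScalarTower.algebraMap_apply F B C, ← IsScalarTower.algebraMap_apply A F B,
      ← IsScalarTower.algebraMap_apply A B C]
  haveI : Q.HasCoeffs F := ⟨fun b hb => ⟨α (.X (ec ⟨b, hb⟩)), by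
    have h := AlgHom.congr_fun hαβ (.X (ec ⟨b, hb⟩))
    simp at h
    exact h⟩⟩
  let P₀ := Q.ModelOfHasCoeffs F
  let e : B ⊗[F] P₀ ≃ₐ[B] P := Q.tensorModelOfHasCoeffsEquiv F
  let φ₀ : P₀ →ₐ[F] C := ((φ.comp e.toAlgHom).restrictScalars F).comp
    Algebra.TensorProduct.includeRight
  haveI : Algebra.FinitePresentation A F := hF.finitePresentation
  haveI : Algebra.FinitePresentation A P₀ := Algebra.FinitePresentation.trans A F P₀
  obtain ⟨E, _, _, α₀, β₀, hE, h₀⟩ := hC P₀ (φ₀.restrictScalars A)
  letI : Algebra F E := (α₀.toRingHom.comp (algebraMap F P₀)).toAlgebra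
  haveI : IsScalarTower A F E := .of_algebraMap_eq fun a => by
    change _ = α₀ (algebraMap F P₀ (algebraMap A F a))
    rw [← IsScalarTower.algebraMap_apply, α₀.commutes]
  haveI : Algebra.Etale F E := Algebra.Etale.of_restrictScalars A F E
  let α' : P₀ →ₐ[F] E := { α₀.toRingHom with commutes' := fun f => rfl }
  let β' : E →ₐ[F] C :=
    { β₀.toRingHom with
      commutes' := fun f => (AlgHom.congr_fun h₀ (algebraMap F P₀ f)).trans (φ₀.commutes f) }
  refine ⟨B ⊗[F] E, inferInstance, inferInstance,
    (Algebra.TensorProduct.map (AlgHom.id B B) α').comp e.symm.toAlgHom,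
    Algebra.TensorProduct.lift (Algebra.ofId B C) β' fun _ _ => Commute.all _ _, inferInstance, ?_⟩
  ext x
  obtain ⟨y, rfl⟩ := e.surjective x
  induction y using TensorProduct.induction_on with
  | zero => simp
  | add y z hy hz => simp only [map_add, hy, hz]
  | tmul b p =>
    have h1 : β₀ (α₀ p) = φ (e (1 ⊗ₜ p)) := AlgHom.congr_fun h₀ p
    simp only [AlgHom.comp_apply, AlgEquiv.coe_toAlgHom, AlgEquiv.symm_apply_apply,
      Algebra.TensorProduct.map_tmul, AlgHom.coe_id, id_eq, Algebra.TensorProduct.lift_tmul]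
    change algebraMap B C b * β₀ (α₀ p) = φ (e (b ⊗ₜ p))
    rw [h1, ← φ.commutes b, ← map_mul, ← e.commutes b, ← map_mul]
    simp

theorem flat (A B : Type u) [CommRing A] [CommRing B] [Algebra A B] (h : EtPBC.IsIndEtale A B) :
    Module.Flat A B := by
  refine Module.Flat.of_forall_isTrivialRelation fun {l f x} hfx => ?_
  let r : MvPolynomial (Fin l) A := ∑ i, f i • MvPolynomial.X i
  haveI : Algebra.FinitePresentation A (MvPolynomial (Fin l) A ⧸ Ideal.span {r}) :=
    Algebra.FinitePresentation.quotient (Submodule.fg_span_singleton r)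
  obtain ⟨E, _, _, α, β, hE, hc⟩ := (isIndEtale_iff_exists_factor A B).mp h
    (MvPolynomial (Fin l) A ⧸ Ideal.span {r})
    (Ideal.Quotient.liftₐ (Ideal.span {r}) (MvPolynomial.aeval x) fun a ha => by
      obtain ⟨b, rfl⟩ := Ideal.mem_span_singleton'.mp ha
      simp [r, hfx])
  haveI : Module.Flat A E := inferInstance
  obtain ⟨k, a, y, hy, ha⟩ := Module.Flat.isTrivialRelation_of_sum_smul_eq_zero
    (R := A) (M := E) (f := f)
    (x := fun i => α (Ideal.Quotient.mkₐ A (Ideal.span {r}) (.X i))) (by
      have : Ideal.Quotient.mkₐ A (Ideal.span {r}) r = 0 :=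
        Ideal.Quotient.eq_zero_iff_mem.mpr (Ideal.mem_span_singleton_self r)
      simpa [r] using congrArg α this)
  refine ⟨k, a, fun j => β (y j), fun i => ?_, ha⟩
  have h1 : x i = β (α (Ideal.Quotient.mkₐ A (Ideal.span {r}) (.X i))) := by
    rw [← AlgHom.comp_apply, hc]
    exact (MvPolynomial.aeval_X x i).symm
  rw [h1, show α (Ideal.Quotient.mkₐ A (Ideal.span {r}) (.X i)) = _ from hy i, map_sum]
  simp

theorem weaklyEtale (A B : Type u) [CommRing A] [CommRing B] [Algebra A B]
    (h : EtPBC.IsIndEtale A B) : Algebra.WeaklyEtale A B := by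
  haveI := flat A B h
  refine ⟨inferInstance, ?_⟩
  letI : Algebra (B ⊗[A] B) B := (Algebra.TensorProduct.lmul' A (S := B)).toRingHom.toAlgebra
  refine Module.Flat.of_forall_isTrivialRelation fun {l f x} hfx => ?_
  classical
  choose S hS using fun i => TensorProduct.exists_finset (f i)
  let G : Finset B := (Finset.univ.biUnion fun i => (S i).image Prod.fst ∪ (S i).image Prod.snd) ∪
    Finset.univ.image x
  obtain ⟨n, ⟨ec⟩⟩ := Finite.exists_equiv_fin G
  let φ : MvPolynomial (Fin n) A →ₐ[A] B := MvPolynomial.aeval fun i => ((ec.symm i : G) : B)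
  have hφ : ∀ b ∈ G, ∃ p, φ p = b := fun b hb => ⟨.X (ec ⟨b, hb⟩), by simp [φ]⟩
  have hf : ∀ i, ∃ F : MvPolynomial (Fin n) A ⊗[A] MvPolynomial (Fin n) A,
      Algebra.TensorProduct.map φ φ F = f i := by
    intro i
    rw [hS i]
    have : ∀ p ∈ S i, p.1 ⊗ₜ[A] p.2 ∈ (Algebra.TensorProduct.map φ φ).range := fun p hp => by
      obtain ⟨a, ha⟩ := hφ p.1 (Finset.mem_union_left _ (Finset.mem_biUnion.mpr
        ⟨i, Finset.mem_univ _, Finset.mem_union_left _ (Finset.mem_image_of_mem _ hp)⟩))
      obtain ⟨b, hb⟩ := hφ p.2 (Finset.mem_union_left _ (Finset.mem_biUnion.mpr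
        ⟨i, Finset.mem_univ _, Finset.mem_union_right _ (Finset.mem_image_of_mem _ hp)⟩))
      exact ⟨a ⊗ₜ b, by simp [ha, hb]⟩
    exact Subalgebra.sum_mem _ this
  choose F hF using hf
  choose X hX using fun i => hφ (x i)
    (Finset.mem_union_right _ (Finset.mem_image_of_mem _ (Finset.mem_univ i)))
  let r : MvPolynomial (Fin n) A := ∑ i, Algebra.TensorProduct.lmul' A (F i) * X i
  have hlmul : ∀ {S T : Type u} [CommRing S] [CommRing T] [Algebra A S] [Algebra A T]
      (g : S →ₐ[A] T) (z : S ⊗[A] S), Algebra.TensorProduct.lmul' A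
        (Algebra.TensorProduct.map g g z) = g (Algebra.TensorProduct.lmul' A z) := by
    intro S T _ _ _ _ g z
    induction z using TensorProduct.induction_on with
    | zero => simp
    | add y z hy hz => simp only [map_add, hy, hz]
    | tmul b p => simp
  haveI : Algebra.FinitePresentation A (MvPolynomial (Fin n) A ⧸ Ideal.span {r}) :=
    Algebra.FinitePresentation.quotient (Submodule.fg_span_singleton r)
  have hr : φ r = 0 := by
    simp only [r, map_sum, map_mul, ← hlmul, hF, hX]
    exact hfx
  obtain ⟨E, _, _, α, β, hE, hc⟩ := (isIndEtale_iff_exists_factor A B).mp h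
    (MvPolynomial (Fin n) A ⧸ Ideal.span {r})
    (Ideal.Quotient.liftₐ (Ideal.span {r}) φ fun a ha => by
      obtain ⟨b, rfl⟩ := Ideal.mem_span_singleton'.mp ha
      simp [hr])
  letI : Algebra (E ⊗[A] E) E := (Algebra.TensorProduct.lmul' A (S := E)).toRingHom.toAlgebra
  haveI : Module.Flat (E ⊗[A] E) E := Algebra.WeaklyEtale.flat_lmul' A E
  let π := α.comp (Ideal.Quotient.mkₐ A (Ideal.span {r}))
  have hπ : β.comp π = φ := by
    rw [← AlgHom.comp_assoc, hc, Ideal.Quotient.liftₐ_comp]
  obtain ⟨k, a, y, hy, ha⟩ := Module.Flat.isTrivialRelation_of_sum_smul_eq_zero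
    (R := E ⊗[A] E) (M := E) (f := fun i => Algebra.TensorProduct.map π π (F i))
    (x := fun i => π (X i)) (by
      change ∑ i, Algebra.TensorProduct.lmul' A (Algebra.TensorProduct.map π π (F i)) * π (X i) = 0
      simp only [hlmul, ← map_mul, ← map_sum]
      change α (Ideal.Quotient.mk _ r) = 0
      rw [Ideal.Quotient.eq_zero_iff_mem.mpr (Ideal.mem_span_singleton_self r), map_zero])
  refine ⟨k, fun i j => Algebra.TensorProduct.map β β (a i j), fun j => β (y j), fun i => ?_,
    fun j => ?_⟩
  · calc x i = φ (X i) := (hX i).symm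
      _ = β (π (X i)) := (AlgHom.congr_fun hπ _).symm
      _ = β (∑ j, a i j • y j) := by rw [← hy i]
      _ = _ := by
        rw [map_sum]
        refine Finset.sum_congr rfl fun j _ => ?_
        change β (Algebra.TensorProduct.lmul' A (a i j) * y j) =
          Algebra.TensorProduct.lmul' A (Algebra.TensorProduct.map β β (a i j)) * β (y j)
        rw [map_mul, hlmul]
  · have h2 : ∀ i, Algebra.TensorProduct.map β β (Algebra.TensorProduct.map π π (F i)) = f i := by
      intro i
      rw [← AlgHom.comp_apply, ← Algebra.TensorProduct.map_comp, hπ, hF]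
    have := congrArg (Algebra.TensorProduct.map β β) (ha j)
    simpa only [map_sum, map_mul, map_zero, h2] using this

end Groth.L27.IndEtale
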