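import Groth.Agent.L27.IndEtalePerm
import Groth.Prelude.Def_ProEtW
import Mathlib.RingTheory.LocalIso
import Mathlib.RingTheory.Localization.Away.Lemmas

/-! Ind-Zariski algebras: factorisation criterion, quotients by idempotents. -/

set_option autoImplicit false
set_option linter.style.haveILetI false
universe u

open CategoryTheory TensorProduct

namespace Groth.L27.IndZariski

open MorphismProperty

/-- Local isomorphisms as a morphism property. -/
abbrev LocalIsoProp : MorphismProperty CommRingCat.{u} :=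
  RingHom.toMorphismProperty fun {R S} _ _ f => @Algebra.IsLocalIso R S _ _ f.toAlgebra

theorem localIsoProp_iff (A B : Type u) [CommRing A] [CommRing B] [Algebra A B] :
    LocalIsoProp (CommRingCat.ofHom (algebraMap A B)) ↔ Algebra.IsLocalIso A B := by
  change @Algebra.IsLocalIso A B _ _ (algebraMap A B).toAlgebra ↔ _
  rw [toAlgebra_algebraMap]

instance : LocalIsoProp.{u}.IsStableUnderComposition := by
  refine ⟨fun {X Y Z} f g hf hg => ?_⟩
  algebraize [f.hom, g.hom, g.hom.comp f.hom]
  haveI : Algebra.IsLocalIso X Y := (localIsoProp_iff X Y).mp hf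
  haveI : Algebra.IsLocalIso Y Z := (localIsoProp_iff Y Z).mp hg
  exact (localIsoProp_iff X Z).mpr (Algebra.IsLocalIso.trans (R := X) (S := Y) (T := Z))

instance : LocalIsoProp.{u}.RespectsIso := by
  refine MorphismProperty.respectsIso_of_isStableUnderComposition ?_
  intro X Y f (hf : IsIso f)
  algebraize [f.hom]
  haveI : Algebra.IsStandardOpenImmersion X Y :=
    .of_bijective ((ConcreteCategory.isIso_iff_bijective f).mp hf)
  exact (localIsoProp_iff X Y).mpr inferInstance

theorem etale_of_localIso (A B : Type u) [CommRing A] [CommRing B] [Algebra A B]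
    [Algebra.IsLocalIso A B] : Algebra.Etale A B := by
  rw [← RingHom.etale_algebraMap]
  refine RingHom.Etale.ofLocalizationSpanTarget _ _
    (Algebra.IsLocalIso.span_isStandardOpenImmersion_eq_top A B) fun g => ?_
  haveI : Algebra.IsStandardOpenImmersion A (Localization.Away (g : B)) := g.2
  obtain ⟨r, hr⟩ := Algebra.IsStandardOpenImmersion.exists_away A (Localization.Away (g : B))
  rw [← IsScalarTower.algebraMap_eq]
  exact RingHom.etale_algebraMap.mpr (Algebra.Etale.of_isLocalizationAway r)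

theorem fp_of_localIso {X Y : CommRingCat.{u}} (f : X ⟶ Y) (hf : LocalIsoProp f) :
    f.hom.FinitePresentation := by
  algebraize [f.hom]
  haveI : Algebra.IsLocalIso X Y := (localIsoProp_iff X Y).mp hf
  haveI := etale_of_localIso X Y
  exact RingHom.finitePresentation_algebraMap.mpr inferInstance

theorem isIndZariski_iff (A B : Type u) [CommRing A] [CommRing B] [Algebra A B] :
    EtPBC.IsIndZariski A B ↔ ind.{u} LocalIsoProp (CommRingCat.ofHom (algebraMap A B)) := by
  rw [ind_iff_ind_underMk]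
  constructor
  · rintro ⟨J, _, _, D, c, hc, hD, ⟨e⟩⟩
    exact ⟨J, inferInstance, inferInstance,
      ({ diag := D, ι := c.ι, isColimit := hc } : Limits.ColimitPresentation J c.pt).ofIso e, hD⟩
  · rintro ⟨J, _, _, pres, h⟩
    exact ⟨J, inferInstance, inferInstance, pres.diag, ⟨_, pres.ι⟩, pres.isColimit, h, ⟨Iso.refl _⟩⟩

/-- Ind-Zariski = maps from finitely presented algebras factor through local isomorphisms. -/
theorem isIndZariski_iff_exists_factor (A B : Type u) [CommRing A] [CommRing B] [Algebra A B] :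
    EtPBC.IsIndZariski A B ↔ ∀ (P : Type u) [CommRing P] [Algebra A P]
      [Algebra.FinitePresentation A P] (φ : P →ₐ[A] B),
      ∃ (E : Type u) (_ : CommRing E) (_ : Algebra A E) (α : P →ₐ[A] E) (β : E →ₐ[A] B),
        Algebra.IsLocalIso A E ∧ β.comp α = φ := by
  rw [isIndZariski_iff]
  constructor
  · intro h P _ _ _ φ
    obtain ⟨E, i₁, i₂, α, β, hE, hc⟩ := IndEtale.exists_factor h φ
    exact ⟨E, i₁, i₂, α, β, (localIsoProp_iff A E).mp hE, hc⟩
  · intro H
    refine IndEtale.ind_of_factor (fun f hf => fp_of_localIso f hf) fun P _ _ _ φ => ?_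
    obtain ⟨E, i₁, i₂, α, β, hE, hc⟩ := H P φ
    exact ⟨E, i₁, i₂, α, β, (localIsoProp_iff A E).mpr hE, hc⟩

theorem isIndEtale (A B : Type u) [CommRing A] [CommRing B] [Algebra A B]
    (h : EtPBC.IsIndZariski A B) : EtPBC.IsIndEtale A B := by
  rw [IndEtale.isIndEtale_iff_exists_factor]
  intro P _ _ _ φ
  obtain ⟨E, i₁, i₂, α, β, hE, hc⟩ := (isIndZariski_iff_exists_factor A B).mp h P φ
  exact ⟨E, i₁, i₂, α, β, etale_of_localIso A E, hc⟩

theorem flat (A B : Type u) [CommRing A] [CommRing B] [Algebra A B]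
    (h : EtPBC.IsIndZariski A B) : Module.Flat A B :=
  IndEtale.flat A B (isIndEtale A B h)

theorem of_localIso (A B : Type u) [CommRing A] [CommRing B] [Algebra A B]
    [Algebra.IsLocalIso A B] : EtPBC.IsIndZariski A B :=
  (isIndZariski_iff A B).mpr (le_ind _ _ ((localIsoProp_iff A B).mpr inferInstance))

theorem refl (A : Type u) [CommRing A] : EtPBC.IsIndZariski A A := of_localIso A A

theorem of_algEquiv (A : Type u) {B B' : Type u} [CommRing A] [CommRing B] [CommRing B'] [Algebra A B]
    [Algebra A B'] (e : B ≃ₐ[A] B') (h : EtPBC.IsIndZariski A B) : EtPBC.IsIndZariski A B' := by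
  rw [isIndZariski_iff_exists_factor] at *
  intro P _ _ _ φ
  obtain ⟨E, i₁, i₂, α, β, hE, hc⟩ := h P (e.symm.toAlgHom.comp φ)
  exact ⟨E, i₁, i₂, α, e.toAlgHom.comp β, hE, by
    rw [AlgHom.comp_assoc, hc, ← AlgHom.comp_assoc]; ext x; simp⟩

/-- In an ideal generated by idempotents every element is fixed by an idempotent of the ideal. -/
theorem exists_idempotent_fix {R : Type u} [CommRing R] {S : Set R}
    (hS : ∀ e ∈ S, IsIdempotentElem e) {x : R} (hx : x ∈ Ideal.span S) :
    ∃ e ∈ Ideal.span S, IsIdempotentElem e ∧ x * e = x := by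
  induction hx using Submodule.span_induction with
  | mem x hx => exact ⟨x, Ideal.subset_span hx, hS x hx, hS x hx⟩
  | zero => exact ⟨0, zero_mem _, IsIdempotentElem.zero, zero_mul _⟩
  | add x y _ _ hx hy =>
    obtain ⟨e, he, he', hxe⟩ := hx
    obtain ⟨f, hf, hf', hyf⟩ := hy
    refine ⟨e + f - e * f, sub_mem (add_mem he hf) (Ideal.mul_mem_right _ _ he),
      he'.add_sub_mul hf', ?_⟩
    linear_combination (1 - f) * hxe + (1 - e) * hyf
  | smul r x _ hx =>
    obtain ⟨e, he, he', hxe⟩ := hx
    exact ⟨e, he, he', by rw [smul_eq_mul, mul_assoc, hxe]⟩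

theorem exists_idempotent_fix_finset {R : Type u} [CommRing R] {S : Set R}
    (hS : ∀ e ∈ S, IsIdempotentElem e) (s : Finset R) (hs : ∀ x ∈ s, x ∈ Ideal.span S) :
    ∃ e ∈ Ideal.span S, IsIdempotentElem e ∧ ∀ x ∈ s, x * e = x := by
  classical
  induction s using Finset.induction_on with
  | empty => exact ⟨0, zero_mem _, IsIdempotentElem.zero, by simp⟩
  | insert a s ha ih =>
    obtain ⟨e, he, he', hse⟩ := ih fun x hx => hs x (Finset.mem_insert_of_mem hx)
    obtain ⟨f, hf, hf', haf⟩ := exists_idempotent_fix hS (hs a (Finset.mem_insert_self a s))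
    refine ⟨e + f - e * f, sub_mem (add_mem he hf) (Ideal.mul_mem_right _ _ he),
      he'.add_sub_mul hf', fun x hx => ?_⟩
    rcases Finset.mem_insert.mp hx with rfl | hx
    · linear_combination (1 - e) * haf
    · linear_combination (1 - f) * hse x hx

/-- A quotient of an ind-Zariski algebra by an ideal generated by idempotents is ind-Zariski. -/
theorem quotient_idempotents (A A' : Type u) [CommRing A] [CommRing A'] [Algebra A A']
    (h : EtPBC.IsIndZariski A A') (I : Ideal A')
    (hI : ∃ S : Set A', (∀ e ∈ S, IsIdempotentElem e) ∧ I = Ideal.span S) :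
    EtPBC.IsIndZariski A (A' ⧸ I) := by
  classical
  rw [isIndZariski_iff_exists_factor] at h ⊢
  obtain ⟨S, hS, rfl⟩ := hI
  intro P _ _ _ φ
  obtain ⟨n, π, hπ, s, hs⟩ := Algebra.FinitePresentation.out (R := A) (A := P)
  choose a ha using fun i : Fin n => Ideal.Quotient.mk_surjective (φ (π (.X i)))
  let g : MvPolynomial (Fin n) A →ₐ[A] A' := MvPolynomial.aeval a
  have hg : (Ideal.Quotient.mkₐ A (Ideal.span S)).comp g = φ.comp π :=
    MvPolynomial.algHom_ext fun i => by simp [g, ha]
  obtain ⟨e, heI, he, hfix⟩ := exists_idempotent_fix_finset hS (s.image g) fun x hx => by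
    obtain ⟨p, hp, rfl⟩ := Finset.mem_image.mp hx
    rw [← Ideal.Quotient.eq_zero_iff_mem]
    have := AlgHom.congr_fun hg p
    simp only [AlgHom.comp_apply, Ideal.Quotient.mkₐ_eq_mk] at this
    rw [this, show π p = 0 from hs.le (Ideal.subset_span hp), map_zero]
  let ιX : MvPolynomial (Fin n) A →ₐ[A] MvPolynomial (Option (Fin n)) A := MvPolynomial.rename some
  let E₀ : MvPolynomial (Option (Fin n)) A := .X none
  let rels : Finset (MvPolynomial (Option (Fin n)) A) :=
    insert (E₀ * E₀ - E₀) (s.image fun p => ιX p * E₀ - ιX p)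
  let g' : MvPolynomial (Option (Fin n)) A →ₐ[A] A' := MvPolynomial.aeval fun o => o.elim e a
  have hg' : ∀ p, g' (ιX p) = g p := fun p => by
    simp [g', ιX, g, MvPolynomial.aeval_rename, Function.comp_def]
  have hrel : Ideal.span (rels : Set (MvPolynomial (Option (Fin n)) A)) ≤ RingHom.ker g' := by
    rw [Ideal.span_le]
    intro x hx
    rcases Finset.mem_insert.mp hx with rfl | hx
    · simp [g', E₀, he.eq]
    · obtain ⟨p, hp, rfl⟩ := Finset.mem_image.mp hx
      have hE : g' E₀ = e := by simp [g', E₀]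
      simp only [SetLike.mem_coe, RingHom.mem_ker, map_sub, map_mul, hg', hE,
        hfix (g p) (Finset.mem_image_of_mem _ hp), sub_self]
  haveI : Algebra.FinitePresentation A (MvPolynomial (Option (Fin n)) A ⧸
      Ideal.span (rels : Set (MvPolynomial (Option (Fin n)) A))) :=
    Algebra.FinitePresentation.quotient ⟨rels, rfl⟩
  obtain ⟨E, _, _, α, β, hE, hc⟩ := h (MvPolynomial (Option (Fin n)) A ⧸
      Ideal.span (rels : Set (MvPolynomial (Option (Fin n)) A)))
    (Ideal.Quotient.liftₐ _ g' fun x hx => hrel hx)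
  let αX : MvPolynomial (Option (Fin n)) A →ₐ[A] E := α.comp (Ideal.Quotient.mkₐ A _)
  have hαrel : ∀ x ∈ rels, αX x = 0 := fun x hx => by
    simp [αX, Ideal.Quotient.eq_zero_iff_mem.mpr (Ideal.subset_span (s := (rels : Set (MvPolynomial (Option (Fin n)) A))) (Finset.mem_coe.mpr hx))]
  have hβ : ∀ x, β (αX x) = g' x := fun x => AlgHom.congr_fun hc (Ideal.Quotient.mk _ x)
  let ε := αX E₀
  have hε : IsIdempotentElem ε := by
    have := hαrel _ (Finset.mem_insert_self _ _)
    rw [map_sub, map_mul, sub_eq_zero] at this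
    exact this
  have key : ∀ x, x = 1 - (1 - ε) → IsLocalization.Away (1 - ε) (E ⧸ Ideal.span {x}) := by
    rintro _ rfl
    exact IsLocalization.Away.quotient_of_isIdempotentElem hε.one_sub
  haveI : IsLocalization.Away (1 - ε) (E ⧸ Ideal.span {ε}) := key ε (sub_sub_cancel 1 ε).symm
  haveI : Algebra.IsStandardOpenImmersion E (E ⧸ Ideal.span {ε}) := ⟨1 - ε, inferInstance⟩
  haveI : Algebra.IsLocalIso A (E ⧸ Ideal.span {ε}) :=
    Algebra.IsLocalIso.trans (R := A) (S := E) (T := E ⧸ Ideal.span {ε})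
  let αQ : MvPolynomial (Fin n) A →ₐ[A] E ⧸ Ideal.span {ε} :=
    (Ideal.Quotient.mkₐ A _).comp (αX.comp ιX)
  have hker : RingHom.ker π ≤ RingHom.ker αQ := by
    refine hs.ge.trans (Ideal.span_le.mpr fun p hp => ?_)
    have h0 := hαrel _ (Finset.mem_insert_of_mem (Finset.mem_image_of_mem _ hp))
    rw [map_sub, map_mul, sub_eq_zero] at h0
    change Ideal.Quotient.mk _ (αX (ιX p)) = 0
    rw [Ideal.Quotient.eq_zero_iff_mem, ← h0]
    exact Ideal.mul_mem_left _ _ (Ideal.mem_span_singleton_self _)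
  refine ⟨E ⧸ Ideal.span {ε}, inferInstance, inferInstance, AlgHom.liftOfSurjective π hπ αQ hker,
    Ideal.Quotient.liftₐ _ ((Ideal.Quotient.mkₐ A (Ideal.span S)).comp β) fun x hx => ?_,
    inferInstance, ?_⟩
  · obtain ⟨r, rfl⟩ := Ideal.mem_span_singleton'.mp hx
    rw [map_mul, show ((Ideal.Quotient.mkₐ A (Ideal.span S)).comp β) ε = 0 from
      Ideal.Quotient.eq_zero_iff_mem.mpr (by simpa [ε, hβ, g', E₀] using heI), mul_zero]
  · refine AlgHom.ext fun x => ?_
    obtain ⟨p, rfl⟩ := hπ x
    rw [AlgHom.comp_apply]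
    change Ideal.Quotient.liftₐ _ _ _ (AlgHom.liftOfSurjective π hπ αQ hker (π p)) = _
    rw [show AlgHom.liftOfSurjective π hπ αQ hker (π p) = αQ p from AlgHom.congr_fun (AlgHom.liftOfSurjective_comp π hπ αQ hker) p]
    change Ideal.Quotient.mk _ (β (αX (ιX p))) = φ (π p)
    rw [hβ, hg']
    exact AlgHom.congr_fun hg p

end Groth.L27.IndZariski
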