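import Groth.Agent.L27.EtaleLift
import Groth.Prelude.Def_ProEtW
import Groth.Prelude.Def_EtBase
import Mathlib.RingTheory.Etale.Pi
import Mathlib.RingTheory.Etale.StandardEtale
import Mathlib.RingTheory.Spectrum.Prime.Chevalley
import Mathlib.RingTheory.Flat.FaithfullyFlat.Algebra
import Mathlib.RingTheory.Henselian
import Mathlib.RingTheory.Smooth.Flat
import Mathlib.RingTheory.LocalRing.ResidueField.Ideal
import Mathlib.FieldTheory.IsSepClosed

/-! Rings all of whose faithfully flat etale algebras have retractions. -/

set_option autoImplicit false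
set_option linter.style.haveILetI false
universe u

open TensorProduct Polynomial

namespace Groth.L27.Retractions

/-- A two-member family of types, used in place of a binary product. -/
abbrev Fam (B C : Type u) : Bool → Type u := fun i => Bool.rec C B i

noncomputable instance instCommRingFam (B C : Type u) [CommRing B] [CommRing C] :
    ∀ i, CommRing (Fam B C i)
  | true => inferInstanceAs (CommRing B)
  | false => inferInstanceAs (CommRing C)

noncomputable instance instAlgebraFam (A B C : Type u) [CommRing A] [CommRing B] [CommRing C]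
    [Algebra A B] [Algebra A C] : ∀ i, Algebra A (Fam B C i)
  | true => inferInstanceAs (Algebra A B)
  | false => inferInstanceAs (Algebra A C)

instance (A B C : Type u) [CommRing A] [CommRing B] [CommRing C]
    [Algebra A B] [Algebra A C] [Algebra.Etale A B] [Algebra.Etale A C] :
    ∀ i, Algebra.Etale A (Fam B C i)
  | true => inferInstanceAs (Algebra.Etale A B)
  | false => inferInstanceAs (Algebra.Etale A C)

/-- If the image of an etale algebra `B` contains `V(I)`, then there is an idempotent `z ∈ I`
with an algebra map `B → T` to every algebra `T` killing `z`. -/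
theorem exists_idem (A : Type u) [CommRing A] (h : ProEtW.HasEtaleRetractions A) (I : Ideal A)
    (B : Type u) [CommRing B] [Algebra A B] [Algebra.Etale A B]
    (hI : PrimeSpectrum.zeroLocus (I : Set A) ⊆ Set.range (PrimeSpectrum.comap (algebraMap A B))) :
    ∃ z ∈ I, IsIdempotentElem z ∧ Nonempty (B →ₐ[A] A ⧸ Ideal.span {z}) := by
  classical
  have hop : IsOpen (Set.range (PrimeSpectrum.comap (algebraMap A B))) :=
    (PrimeSpectrum.isOpenMap_comap_of_hasGoingDown_of_finitePresentation).isOpen_range
  obtain ⟨J, hJ⟩ := (PrimeSpectrum.isClosed_iff_zeroLocus_ideal _).mp hop.isClosed_compl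
  have hIJ : I ⊔ J = ⊤ := by
    rw [← PrimeSpectrum.zeroLocus_empty_iff_eq_top, PrimeSpectrum.zeroLocus_sup]
    rw [Set.eq_empty_iff_forall_notMem]
    rintro x ⟨hx₁, hx₂⟩
    rw [← hJ] at hx₂
    exact hx₂ (hI hx₁)
  obtain ⟨f, hf, g, hg, hfg⟩ := Submodule.mem_sup.mp ((Ideal.eq_top_iff_one _).mp hIJ)
  let B' := ∀ i, Fam B (Localization.Away f) i
  haveI : Algebra.Etale A (Localization.Away f) := Algebra.Etale.of_isLocalizationAway f
  haveI : Algebra.Etale A B' := inferInstance
  have hff : Module.FaithfullyFlat A B' := by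
    refine Module.FaithfullyFlat.of_comap_surjective fun p => ?_
    by_cases hp : p ∈ Set.range (PrimeSpectrum.comap (algebraMap A B))
    · obtain ⟨q, rfl⟩ := hp
      exact ⟨PrimeSpectrum.comap (Pi.evalRingHom (Fam B (Localization.Away f)) true) q, rfl⟩
    · have hp' : J ≤ p.asIdeal := by
        have : p ∈ (Set.range (PrimeSpectrum.comap (algebraMap A B)))ᶜ := hp
        rw [hJ] at this
        exact this
      have hfp : p ∈ Set.range (PrimeSpectrum.comap (algebraMap A (Localization.Away f))) := by
        rw [PrimeSpectrum.localization_away_comap_range _ f]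
        intro hfp
        exact p.isPrime.ne_top ((Ideal.eq_top_iff_one _).mpr (hfg ▸ add_mem hfp (hp' hg)))
      obtain ⟨q, rfl⟩ := hfp
      exact ⟨PrimeSpectrum.comap (Pi.evalRingHom (Fam B (Localization.Away f)) false) q, rfl⟩
  obtain ⟨s⟩ := h B' hff inferInstance
  let e₂ : B' := Pi.single false 1
  have he : e₂ * e₂ = e₂ := by rw [← Pi.single_mul, one_mul]
  have hz : s e₂ ∈ I := by
    have hfe : e₂ = f • (Pi.single false (show Fam B (Localization.Away f) false from
        IsLocalization.Away.invSelf (S := Localization.Away f) f) : B') := by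
      rw [← Pi.single_smul]
      refine congrArg (Pi.single false) ?_
      change (1 : Localization.Away f) = f • IsLocalization.Away.invSelf (S := Localization.Away f) f
      rw [Algebra.smul_def, IsLocalization.Away.mul_invSelf]
    rw [hfe, map_smul, smul_eq_mul]
    exact I.mul_mem_right _ hf
  have hzz : IsIdempotentElem (s e₂) := by
    change s e₂ * s e₂ = s e₂
    rw [← map_mul, he]
  refine ⟨s e₂, hz, hzz, ⟨AlgHom.ofLinearMap ((Ideal.Quotient.mkₐ A _).toLinearMap.comp
    (s.toLinearMap.comp (LinearMap.single A (Fam B (Localization.Away f)) true))) ?_ fun x y => ?_⟩⟩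
  · change Ideal.Quotient.mk _ (s (Pi.single true 1)) = 1
    have h1 : (1 : B') = Pi.single true 1 + e₂ := by
      funext i
      cases i
      · rw [Pi.add_apply, Pi.single_eq_of_ne (by simp : false ≠ true), zero_add]
        exact (Pi.single_eq_same _ _).symm
      · rw [Pi.add_apply, show e₂ true = 0 from Pi.single_eq_of_ne (by simp) _, add_zero,
          Pi.single_eq_same]
        rfl
    rw [← map_one (Ideal.Quotient.mk (Ideal.span {s e₂})), Ideal.Quotient.mk_eq_mk_iff_sub_mem]
    have h2 : (1 : A) = s (Pi.single true 1) + s e₂ := by rw [← map_add, ← h1, map_one]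
    rw [show s (Pi.single true 1) - 1 = -(s e₂) by rw [h2]; ring]
    exact neg_mem (Ideal.mem_span_singleton_self _)
  · change Ideal.Quotient.mk _ (s (Pi.single true (x * y))) =
      Ideal.Quotient.mk _ (s (Pi.single true x)) * Ideal.Quotient.mk _ (s (Pi.single true y))
    rw [Pi.single_mul, map_mul, map_mul]

theorem hasEtaleRetractions_quotient (A : Type u) [CommRing A]
    (h : ProEtW.HasEtaleRetractions A) (I : Ideal A) : ProEtW.HasEtaleRetractions (A ⧸ I) := by
  intro Bb _ _ hff het
  letI : Algebra A Bb := ((algebraMap (A ⧸ I) Bb).comp (algebraMap A (A ⧸ I))).toAlgebra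
  haveI : IsScalarTower A (A ⧸ I) Bb := .of_algebraMap_eq' rfl
  obtain ⟨B, _, _, hB, ⟨e⟩⟩ := EtaleLift.exists_lift A I Bb
  obtain ⟨z, hz, -, ⟨φ⟩⟩ := exists_idem A h I B fun p hp => by
    let pb : PrimeSpectrum (A ⧸ I) := ⟨p.asIdeal.map (Ideal.Quotient.mk I),
      Ideal.map_isPrime_of_surjective Ideal.Quotient.mk_surjective (by simpa using hp)⟩
    obtain ⟨q, hq⟩ := PrimeSpectrum.comap_surjective_of_faithfullyFlat (A := A ⧸ I) (B := Bb) pb
    refine ⟨PrimeSpectrum.comap ((e.toAlgHom.restrictScalars A).comp
      Algebra.TensorProduct.includeRight).toRingHom q, ?_⟩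
    have hp' : PrimeSpectrum.comap (Ideal.Quotient.mk I) pb = p :=
      PrimeSpectrum.ext (by
        simp only [PrimeSpectrum.comap_asIdeal, pb]
        rw [Ideal.comap_map_of_surjective _ Ideal.Quotient.mk_surjective]
        simpa [← RingHom.ker_eq_comap_bot] using hp)
    rw [← hp', ← hq, ← PrimeSpectrum.comap_comp_apply, ← PrimeSpectrum.comap_comp_apply]
    congr 1
    exact AlgHom.comp_algebraMap ((e.toAlgHom.restrictScalars A).comp
      Algebra.TensorProduct.includeRight)
  have hle : Ideal.span {z} ≤ I := by rwa [Ideal.span_singleton_le_iff_mem]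
  exact ⟨(Algebra.TensorProduct.lift (Algebra.ofId (A ⧸ I) (A ⧸ I))
    ((Ideal.Quotient.factorₐ A hle).comp φ) fun _ _ => Commute.all _ _).comp e.symm.toAlgHom⟩

section maximal

variable (A : Type u) [CommRing A] (h : ProEtW.HasEtaleRetractions A) (m : Ideal A) [m.IsMaximal]

local notation "k" => IsLocalRing.ResidueField (Localization.AtPrime m)

theorem surjective_residue : Function.Surjective (algebraMap A k) :=
  m.algebraMap_residueField_surjective

theorem ker_residue : RingHom.ker (algebraMap A k) = m :=
  Ideal.ker_algebraMap_residueField m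

include h in
theorem exists_algHom_localization (P : StandardEtalePair A) {K : Type u} [Field K] [Algebra k K]
    [Algebra A K] [IsScalarTower A k K] (a : K) (ha : P.HasMap a) :
    Nonempty (P.Ring →ₐ[A] Localization.AtPrime m) := by
  obtain ⟨z, hz, hzz, ⟨φ⟩⟩ := exists_idem A h m P.Ring fun p hp => by
    refine ⟨⟨RingHom.ker (P.lift a ha), RingHom.ker_isPrime _⟩, PrimeSpectrum.ext ?_⟩
    have : p.asIdeal = m := (Ideal.IsMaximal.eq_of_le ‹m.IsMaximal› p.isPrime.ne_top hp).symm
    rw [this]
    ext x
    rw [PrimeSpectrum.comap_asIdeal, Ideal.mem_comap, RingHom.mem_ker, AlgHom.commutes,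
      IsScalarTower.algebraMap_apply A k K, map_eq_zero_iff _ (algebraMap k K).injective,
      ← RingHom.mem_ker, ker_residue]
  refine ⟨(Ideal.Quotient.liftₐ (Ideal.span {z}) (Algebra.ofId A (Localization.AtPrime m))
    fun x hx => ?_).comp φ⟩
  obtain ⟨r, rfl⟩ := Ideal.mem_span_singleton'.mp hx
  have hu : IsUnit (algebraMap A (Localization.AtPrime m) (1 - z)) :=
    IsLocalization.map_units (Localization.AtPrime m) (⟨1 - z, fun h1 =>
      ‹m.IsMaximal›.ne_top ((Ideal.eq_top_iff_one _).mpr (by simpa using add_mem h1 hz))⟩ :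
        m.primeCompl)
  rw [map_mul]
  have hz0 : algebraMap A (Localization.AtPrime m) z = 0 := by
    rw [← hu.mul_right_eq_zero, ← map_mul, sub_mul, one_mul, hzz.eq, sub_self, map_zero]
  rw [Algebra.ofId_apply, Algebra.ofId_apply, hz0, mul_zero]

include h in
theorem isSepClosed_residue : IsSepClosed k := by
  refine IsSepClosed.of_exists_root _ fun p hp hirr hsep => ?_
  obtain ⟨F, hFp, -, hF⟩ := Polynomial.lifts_and_natDegree_eq_and_monic
    ((Polynomial.lifts_iff_coeff_lifts _).mpr fun n => surjective_residue A m (p.coeff n)) hp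
  haveI := Fact.mk hirr
  let P : StandardEtalePair A := ⟨F, hF, derivative F, 1, 0, 1, by ring⟩
  have hroot : aeval (AdjoinRoot.root p) p = 0 := by rw [AdjoinRoot.aeval_eq, AdjoinRoot.mk_self]
  have ha : P.HasMap (AdjoinRoot.root p) := by
    refine ⟨?_, ?_⟩
    · rw [← aeval_map_algebraMap k, hFp, hroot]
    · rw [← aeval_map_algebraMap k, ← derivative_map, hFp, isUnit_iff_ne_zero]
      exact hsep.aeval_derivative_ne_zero hroot
  obtain ⟨φ⟩ := exists_algHom_localization A h m P (AdjoinRoot.root p) ha
  refine ⟨algebraMap (Localization.AtPrime m) k (φ P.X), ?_⟩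
  rw [← hFp, eval_map, ← aeval_def,
    Polynomial.aeval_algebraMap_apply, Polynomial.aeval_algHom_apply, P.hasMap_X.1, map_zero,
    map_zero]

include h in
theorem henselian : HenselianLocalRing (Localization.AtPrime m) := by
  classical
  refine { is_henselian := fun f hf a₀ hfa hu => ?_ }
  -- clear denominators
  obtain ⟨s, hs⟩ := IsLocalization.exist_integer_multiples_of_finset m.primeCompl
    ((Finset.range (f.natDegree + 1)).image f.coeff)
  let ι := algebraMap A (Localization.AtPrime m)
  have hsu : IsUnit (ι s) := IsLocalization.map_units _ s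
  obtain ⟨F, hFf, -, hF⟩ := Polynomial.lifts_and_natDegree_eq_and_monic (f := ι)
    (p := f.scaleRoots (ι s)) ((Polynomial.lifts_iff_coeff_lifts _).mpr fun i => by
      rw [coeff_scaleRoots]
      rcases lt_trichotomy i f.natDegree with hi | hi | hi
      · obtain ⟨c, hc⟩ := hs (f.coeff i) (Finset.mem_image_of_mem _ (Finset.mem_range.mpr (by omega)))
        refine ⟨c * s ^ (f.natDegree - i - 1), ?_⟩
        rw [map_mul, map_pow, hc, show f.natDegree - i = f.natDegree - i - 1 + 1 by omega, pow_succ]
        rw [Algebra.smul_def]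
        simp only [ι, Nat.add_sub_cancel]
        ring
      · refine ⟨1, ?_⟩
        subst hi
        rw [map_one, hf.coeff_natDegree, Nat.sub_self, pow_zero, mul_one]
      · exact ⟨0, by rw [coeff_eq_zero_of_natDegree_lt hi, map_zero, zero_mul]⟩)
    ((monic_scaleRoots_iff _).mpr hf)
  -- the simple root over the residue field
  let res := algebraMap (Localization.AtPrime m) k
  let a : k := res (ι s * a₀)
  have hFk : ∀ x : Localization.AtPrime m, aeval (res x) F = res (eval x (F.map ι)) := fun x => by
    rw [eval_map, ← aeval_def, Polynomial.aeval_algebraMap_apply]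
  have hroot : aeval a F = 0 := by
    rw [hFk, hFf, scaleRoots_eval_mul, map_mul,
      (IsLocalRing.residue_eq_zero_iff _).mpr hfa |> fun h => (show res (eval a₀ f) = 0 from h),
      mul_zero]
  have hder : aeval a (derivative F) ≠ 0 := by
    intro h0
    have h1 : res (eval (ι s * a₀) (derivative (F.map ι))) = 0 := by
      rw [derivative_map, eval_map, ← aeval_def, ← Polynomial.aeval_algebraMap_apply]
      exact h0
    rw [hFf] at h1
    let t : Localization.AtPrime m := ↑hsu.unit⁻¹
    have h2 : derivative (f.scaleRoots (ι s)) * C (ι s) =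
        (C (ι s) ^ f.natDegree) * (derivative f).comp (C t * X) := by
      have ht : t * ι s = 1 := hsu.val_inv_mul
      have hcomp : f.scaleRoots (ι s) = C (ι s) ^ f.natDegree * f.comp (C t * X) := by
        refine Polynomial.ext fun i => ?_
        rw [coeff_scaleRoots, ← C_pow, coeff_C_mul, comp_C_mul_X_coeff]
        rcases le_or_gt i f.natDegree with hi | hi
        · rw [← mul_assoc, mul_comm _ (f.coeff i), mul_assoc]
          congr 1
          conv_rhs => rw [← Nat.sub_add_cancel hi, pow_add]
          rw [mul_assoc, ← mul_pow, mul_comm (ι s) t, ht, one_pow, mul_one]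
        · rw [coeff_eq_zero_of_natDegree_lt hi]
          simp
      rw [hcomp, ← C_pow, derivative_C_mul, derivative_comp, derivative_C_mul_X]
      calc C (ι s ^ f.natDegree) * (C t * (derivative f).comp (C t * X)) * C (ι s)
          = C (ι s ^ f.natDegree) * (derivative f).comp (C t * X) *
            (C t * C (ι s)) := by ring
        _ = _ := by rw [← C_mul, ht, C_1, mul_one]
    have h3 := congrArg (fun p => res (eval (ι s * a₀) p)) h2
    simp only [eval_mul, eval_pow, eval_C, eval_comp, eval_X, map_mul, map_pow, h1, zero_mul,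
      ← mul_assoc, show t * ι s = 1 from hsu.val_inv_mul, one_mul] at h3
    exact mul_ne_zero (pow_ne_zero _ (hsu.map res).ne_zero) (hu.map res).ne_zero h3.symm
  obtain ⟨G₀, hG₀⟩ : (X - C a) ∣ F.map (algebraMap A k) :=
    dvd_iff_isRoot.mpr (by rw [IsRoot.def, eval_map, ← aeval_def, hroot])
  obtain ⟨G, hG⟩ := Polynomial.map_surjective (algebraMap A k) (surjective_residue A m) G₀
  have hGa : eval a G₀ = aeval a (derivative F) := by
    have h1 := congrArg (fun p => eval a (derivative p)) hG₀
    simp only [derivative_map, eval_map, ← aeval_def, derivative_mul, derivative_sub,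
      derivative_X, derivative_C, sub_zero, one_mul, eval_add, eval_mul, eval_sub, eval_X, eval_C,
      sub_self, zero_mul, add_zero] at h1
    exact h1.symm
  let P : StandardEtalePair A := ⟨F, hF, derivative F * G, G, 0, 1, by ring⟩
  have ha : P.HasMap a := by
    refine ⟨hroot, isUnit_iff_ne_zero.mpr ?_⟩
    change aeval a (derivative F * G) ≠ 0
    rw [map_mul, show aeval a G = eval a G₀ by rw [← hG, eval_map, aeval_def], hGa]
    exact mul_ne_zero hder hder
  obtain ⟨φ⟩ := exists_algHom_localization A h m P a ha
  obtain ⟨c, hc⟩ := hsu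
  have hx : P.HasMap (φ P.X) := P.hasMap_X.map φ
  refine ⟨↑c⁻¹ * φ P.X, ?_, ?_⟩
  · have h1 : eval (ι s * (↑c⁻¹ * φ P.X)) (f.scaleRoots (ι s)) = 0 := by
      rw [← hc, ← mul_assoc, Units.mul_inv, one_mul, hc, ← hFf, eval_map, ← aeval_def]
      exact hx.1
    rw [scaleRoots_eval_mul] at h1
    exact ((c.isUnit.pow _).mul_right_eq_zero).mp (hc ▸ h1)
  · have hxa : res (φ P.X) = a := by
      by_contra hne
      refine (hx.2.map res).ne_zero ?_
      change res (aeval (φ P.X) (derivative F * G)) = 0
      rw [← Polynomial.aeval_algebraMap_apply, map_mul]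
      have h0 : aeval (res (φ P.X)) F = 0 := by
        rw [Polynomial.aeval_algebraMap_apply]
        exact (congrArg res hx.1).trans (map_zero _)
      rw [aeval_def, ← eval_map, hG₀, eval_mul, eval_sub, eval_X, eval_C] at h0
      rw [show aeval (res (φ P.X)) G = eval (res (φ P.X)) G₀ by rw [← hG, eval_map, aeval_def],
        (mul_eq_zero.mp h0).resolve_left (sub_ne_zero.mpr hne), mul_zero]
    rw [← IsLocalRing.residue_eq_zero_iff]
    change res (↑c⁻¹ * φ P.X - a₀) = 0
    rw [map_sub, map_mul, hxa, ← map_mul, ← mul_assoc, ← hc, Units.inv_mul, one_mul, sub_self]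

include h in
theorem strictlyHenselian : EtCoh.IsStrictlyHenselianLocalRing (Localization.AtPrime m) :=
  ⟨henselian A h m, isSepClosed_residue A h m⟩

end maximal

end Groth.L27.Retractions
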