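import Groth.Agent.L27.Spectral
import Groth.Prelude.Def_ProEtW
import Mathlib.RingTheory.Spectrum.Prime.ConstructibleSet
import Mathlib.RingTheory.Ideal.GoingUp
import Mathlib.Topology.Separation.Profinite

/-! w-local and profinite spectra. -/

set_option autoImplicit false
set_option linter.unusedSectionVars false
universe u
open Topology Set

namespace Groth.L27.WLocal

theorem spectralSpace_closed {X : Type u} [TopologicalSpace X] [SpectralSpace X] (Y : Set X)
    (hY : IsClosed Y) : SpectralSpace Y := by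
  have hemb : IsClosedEmbedding (Subtype.val : Y → X) := hY.isClosedEmbedding_subtypeVal
  have : CompactSpace Y := isCompact_iff_compactSpace.mp hY.isCompact
  have : QuasiSober Y := hemb.quasiSober
  have : PrespectralSpace Y := .of_isClosedEmbedding _ hemb
  have : QuasiSeparatedSpace Y := by
    refine ⟨fun U V hUo hUc hVo hVc => ?_⟩
    have key : ∀ U : Set Y, IsOpen U → IsCompact U →
        ∃ W : Set X, IsOpen W ∧ IsCompact W ∧ Subtype.val ⁻¹' W = U := by
      intro U hUo hUc
      obtain ⟨O, hO, rfl⟩ := isOpen_induced_iff.mp hUo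
      obtain ⟨W, hWc, hWo, hKW, hWO⟩ := PrespectralSpace.exists_isCompact_and_isOpen_between
        (hUc.image continuous_subtype_val) hO (by rintro _ ⟨x, hx, rfl⟩; exact hx)
      exact ⟨W, hWo, hWc, Subset.antisymm (fun x hx => hWO hx) fun x hx => hKW ⟨x, hx, rfl⟩⟩
    obtain ⟨W, hW, hW', rfl⟩ := key U hUo hUc
    obtain ⟨W', hV, hV', rfl⟩ := key V hVo hVc
    exact hemb.isCompact_preimage (hW'.inter_of_isOpen hV' hW hV)
  exact { }

theorem isWLocal_of_isClosed (X : Type u) [TopologicalSpace X] (hX : ProEtW.IsWLocal X) (Y : Set X)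
    (hY : IsClosed Y) : ProEtW.IsWLocal Y := by
  obtain ⟨hs, hc, hu⟩ := hX
  have hemb : IsClosedEmbedding (Subtype.val : Y → X) := hY.isClosedEmbedding_subtypeVal
  have hpt : ∀ y : Y, IsClosed ({y} : Set Y) ↔ IsClosed ({(y : X)} : Set X) := fun y => by
    rw [hemb.isClosed_iff_image_isClosed, image_singleton]
  refine ⟨spectralSpace_closed Y hY, ?_, fun y => ?_⟩
  · have : {y : Y | IsClosed ({y} : Set Y)} = Subtype.val ⁻¹' {x : X | IsClosed ({x} : Set X)} :=
      ext hpt
    rw [this]; exact hc.preimage continuous_subtype_val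
  · obtain ⟨z, ⟨hz, hyz⟩, huz⟩ := hu y
    refine ⟨⟨z, hY.stableUnderSpecialization hyz y.2⟩, ⟨(hpt _).mpr hz, subtype_specializes_iff _ _ |>.mpr hyz⟩, ?_⟩
    rintro w ⟨hw, hyw⟩
    exact Subtype.ext (huz w ⟨(hpt _).mp hw, (subtype_specializes_iff _ _).mp hyw⟩)

theorem isProfinite_of_t1 (X : Type u) [TopologicalSpace X] [SpectralSpace X] [T1Space X] :
    ProEtW.IsProfinite X := by
  have h0 : {x : X | IsClosed ({x} : Set X)} = univ := eq_univ_of_forall fun x => isClosed_singleton
  have hinj := Spectral.components_injective_of_unique_specialization (X := X) (by rw [h0]; exact isClosed_univ)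
    (fun x => ⟨x, ⟨isClosed_singleton, specializes_rfl⟩, fun z hz => (specializes_iff_eq.mp hz.2).symm⟩)
  have htd : TotallyDisconnectedSpace X := by
    rw [totallyDisconnectedSpace_iff_connectedComponent_subsingleton]
    intro x a ha b hb
    have : (⟨a, isClosed_singleton⟩ : {x : X // IsClosed ({x} : Set X)}) = ⟨b, isClosed_singleton⟩ :=
      hinj ((ConnectedComponents.coe_eq_coe'.mpr ha).trans (ConnectedComponents.coe_eq_coe'.mpr hb).symm)
    exact congrArg Subtype.val this
  have hts : TotallySeparatedSpace X := by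
    refine totallySeparatedSpace_iff_exists_isClopen.mpr fun a b hab => ?_
    obtain ⟨W, hW, haW, hWb⟩ := Spectral.exists_clopen_subset_of_component_subset
      (x := a) (O := {b}ᶜ) isClosed_singleton.isOpen_compl (by
        rw [connectedComponent_eq_singleton]; simpa using hab.symm)
    exact ⟨W, hW, haW, fun h => hWb h rfl⟩
  refine ⟨inferInstance, ⟨fun a b hab => ?_⟩, htd⟩
  obtain ⟨W, hW, ha, hb⟩ := exists_isClopen_of_totally_separated hab
  exact ⟨W, Wᶜ, hW.isOpen, hW.compl.isOpen, ha, hb, disjoint_compl_right⟩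

theorem profinite_spec_of_incomparable (A B : Type u) [CommRing A] [CommRing B]
    [Algebra A B] [T2Space (PrimeSpectrum A)]
    (h : ∀ q q' : PrimeSpectrum B, q.asIdeal.comap (algebraMap A B) = q'.asIdeal.comap (algebraMap A B) →
      q.asIdeal ≤ q'.asIdeal → q = q') :
    ProEtW.IsProfinite (PrimeSpectrum B) := by
  have hmax : ∀ q : PrimeSpectrum B, q.asIdeal.IsMaximal := by
    intro q
    obtain ⟨M, hM, hqM⟩ := q.asIdeal.exists_le_maximal q.2.ne_top
    let m : PrimeSpectrum B := ⟨M, hM.isPrime⟩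
    have hle : PrimeSpectrum.comap (algebraMap A B) q ≤ PrimeSpectrum.comap (algebraMap A B) m :=
      Ideal.comap_mono hqM
    rw [PrimeSpectrum.le_iff_specializes, specializes_iff_eq] at hle
    have := h q m (congrArg PrimeSpectrum.asIdeal hle) hqM
    rw [this]; exact hM
  have : T1Space (PrimeSpectrum B) :=
    ⟨fun q => (PrimeSpectrum.isClosed_singleton_iff_isMaximal q).mpr (hmax q)⟩
  exact isProfinite_of_t1 _

theorem incomparable_of_algebraic (A B : Type u) [CommRing A] [CommRing B] [Algebra A B]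
    (h : ProEtW.AlgebraicResidueExtensions A B) (q q' : PrimeSpectrum B)
    (he : q.asIdeal.comap (algebraMap A B) = q'.asIdeal.comap (algebraMap A B))
    (hle : q.asIdeal ≤ q'.asIdeal) : q = q' := by
  refine PrimeSpectrum.ext (le_antisymm hle fun x hx => ?_)
  by_contra hxq
  have hne : Ideal.Quotient.mk q.asIdeal x ≠ 0 := fun h0 => hxq (Ideal.Quotient.eq_zero_iff_mem.mp h0)
  have hmem : Ideal.Quotient.mk q.asIdeal x ∈ q'.asIdeal.map (Ideal.Quotient.mk q.asIdeal) :=
    Ideal.mem_map_of_mem _ hx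
  refine Ideal.comap_ne_bot_of_algebraic_mem hne hmem ((h q.asIdeal).isAlgebraic _) ?_
  rw [eq_bot_iff]
  intro a ha
  obtain ⟨a, rfl⟩ := Ideal.Quotient.mk_surjective a
  rw [Ideal.mem_bot, Ideal.Quotient.eq_zero_iff_mem]
  rw [Ideal.mem_comap] at ha
  change Ideal.Quotient.mk q.asIdeal (algebraMap A B a) ∈ _ at ha
  rw [Ideal.mem_map_iff_of_surjective _ Ideal.Quotient.mk_surjective] at ha
  obtain ⟨b, hb, hba⟩ := ha
  rw [Ideal.mem_comap, ← Ideal.mem_comap, he, Ideal.mem_comap]
  have hdiff := hle (Ideal.Quotient.eq.mp hba)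
  simpa using q'.asIdeal.sub_mem hb hdiff

theorem exists_finset_stratification (A : Type u) [CommRing A] {ι : Type u} [Finite ι]
    (T : ι → Set (PrimeSpectrum A)) (hT : ∀ i, IsConstructible (T i)) (hcov : ⋃ i, T i = univ) :
    ∃ E : Finset A, ∀ E'' : Finset A, E'' ⊆ E →
      ∀ x : PrimeSpectrum A, (∀ f ∈ E, f ∈ x.asIdeal ↔ f ∈ E'') →
        ∃ i, {y : PrimeSpectrum A | ∀ f ∈ E, f ∈ y.asIdeal ↔ f ∈ E''} ⊆ T i := by
  classical
  cases nonempty_fintype ι
  choose S hS using fun i => PrimeSpectrum.exists_constructibleSetData_iff.mpr (hT i)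
  refine ⟨Finset.univ.biUnion fun i => (S i).biUnion fun C =>
    insert C.f (Finset.univ.image C.g), fun E'' _ x hx => ?_⟩
  obtain ⟨i, hi⟩ := mem_iUnion.mp (hcov ▸ mem_univ x)
  refine ⟨i, fun y hy => ?_⟩
  rw [← hS i] at hi ⊢
  obtain ⟨C, hC, hxC⟩ := mem_iUnion₂.mp hi
  refine mem_iUnion₂.mpr ⟨C, hC, ?_⟩
  have hmem : ∀ f, (f = C.f ∨ f ∈ Set.range C.g) → (f ∈ y.asIdeal ↔ f ∈ x.asIdeal) := by
    intro f hf
    have : f ∈ Finset.univ.biUnion fun i => (S i).biUnion fun C =>
        insert C.f (Finset.univ.image C.g) :=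
      Finset.mem_biUnion.mpr ⟨i, Finset.mem_univ _, Finset.mem_biUnion.mpr ⟨C, hC, by
        rcases hf with rfl | ⟨k, rfl⟩ <;> simp⟩⟩
    exact (hy f this).trans (hx f this).symm
  refine ⟨fun f hf => (hmem f (Or.inr hf)).mpr (hxC.1 hf), fun hf => hxC.2 ?_⟩
  rintro f rfl
  exact (hmem _ (Or.inl rfl)).mp (hf rfl)

end Groth.L27.WLocal
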