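import Groth.Agent.L27.WLocalIndZariski
import Groth.Agent.L27.WLocal
import Mathlib.Topology.ExtremallyDisconnected

/-! Ind-Zariski retractions and extremally disconnected spaces of components. -/

set_option autoImplicit false
set_option linter.style.haveILetI false
universe u

open Topology

namespace Groth.L27.RetractionsZariski

theorem isWLocal_of_homeo {X Y : Type u} [TopologicalSpace X] [TopologicalSpace Y] (e : X ≃ₜ Y)
    (hY : ProEtW.IsWLocal Y) : ProEtW.IsWLocal X := by
  haveI := hY.1
  haveI : CompactSpace X := e.symm.compactSpace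
  have hcl : ∀ x, IsClosed ({x} : Set X) ↔ IsClosed ({e x} : Set Y) := fun x => by
    rw [← e.isClosed_image, Set.image_singleton]
  refine ⟨e.isOpenEmbedding.spectralSpace, ?_, fun x => ?_⟩
  · rw [show {x : X | IsClosed ({x} : Set X)} = e ⁻¹' {y | IsClosed ({y} : Set Y)} from Set.ext hcl]
    exact hY.2.1.preimage e.continuous
  · obtain ⟨y, ⟨hy, hxy⟩, hu⟩ := hY.2.2 (e x)
    refine ⟨e.symm y, ⟨(hcl _).mpr (by rwa [e.apply_symm_apply]), ?_⟩, fun z ⟨hz, hxz⟩ => ?_⟩
    · rw [← e.isInducing.specializes_iff, e.apply_symm_apply]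
      exact hxy
    · rw [← hu (e z) ⟨(hcl z).mp hz, hxz.map e.continuous⟩, e.symm_apply_apply]

/-- A retract of a projective space is projective. -/
theorem projective_of_retract {X Y : Type u} [TopologicalSpace X] [TopologicalSpace Y] {i : X → Y} {r : Y → X}
    (hi : Continuous i) (hr : Continuous r) (h : ∀ x, r (i x) = x) (hY : CompactT2.Projective Y) :
    CompactT2.Projective X := by
  intro Y' Z' _ _ _ _ _ _ f g hf hg hg'
  obtain ⟨l, hl, hgl⟩ := hY (hf.comp hr) hg hg'
  exact ⟨l ∘ i, hl.comp hi, funext fun x => (congrFun hgl (i x)).trans (congrArg f (h x))⟩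

theorem projective_of_homeo {X Y : Type u} [TopologicalSpace X] [TopologicalSpace Y] (e : X ≃ₜ Y)
    (hY : CompactT2.Projective Y) : CompactT2.Projective X :=
  projective_of_retract e.continuous e.symm.continuous e.symm_apply_apply hY

/-- The points of `X`, discretely. -/
def Disc (X : Type u) : Type u := X

instance (X : Type u) : TopologicalSpace (Disc X) := ⊥

instance (X : Type u) : DiscreteTopology (Disc X) := ⟨rfl⟩

theorem exists_cover (A : Type u) [CommRing A] :
    ∃ (B : Type u) (_ : CommRing B) (_ : Algebra A B), Module.FaithfullyFlat A B ∧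
      EtPBC.IsIndZariski A B ∧ ProEtW.IsWLocal (PrimeSpectrum B) ∧
      CompactT2.Projective (ConnectedComponents (PrimeSpectrum B)) := by
  obtain ⟨W, _, _, hW, hI, hWl, hbij⟩ := WConstruction.exists_wLocalization A
  haveI := hWl.1
  haveI : T2Space (ConnectedComponents (PrimeSpectrum W)) := ProfinitePullback.t2_components
  let X := ConnectedComponents (PrimeSpectrum W)
  have hproj : CompactT2.Projective (StoneCech (Disc X)) := StoneCech.projective
  haveI := CompactT2.Projective.extremallyDisconnected hproj
  let idf : Disc X → X := fun x => x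
  have hid : Continuous idf := continuous_of_discreteTopology
  let g : C(StoneCech (Disc X), X) := ⟨stoneCechExtend hid, continuous_stoneCechExtend hid⟩
  obtain ⟨B, _, _, _, _, e, hB, -, hemb, hrange⟩ :=
    ClopenQuotient.exists_realizing_profinite' A W (StoneCech (Disc X)) hI g
  let F : PrimeSpectrum B → PrimeSpectrum W × StoneCech (Disc X) := fun y =>
    (PrimeSpectrum.comap (algebraMap W B) y, e (ConnectedComponents.mk y))
  let hh : PrimeSpectrum B ≃ₜ ProfinitePullback.P g :=
    hemb.toHomeomorph.trans (Homeomorph.setCongr hrange)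
  haveI := IndZariski.flat A B hB
  refine ⟨B, inferInstance, inferInstance, Module.FaithfullyFlat.of_comap_surjective fun z => ?_, hB,
    isWLocal_of_homeo hh (ProfinitePullback.wLocal_P g hWl).1, projective_of_homeo e hproj⟩
  obtain ⟨w, -, hw⟩ := hbij.surjOn (Set.mem_univ z)
  obtain ⟨y, hy⟩ : (w, stoneCechUnit (α := Disc X) (ConnectedComponents.mk w)) ∈ Set.range F := by
    rw [hrange]
    exact (stoneCechExtend_stoneCechUnit hid _).symm
  refine ⟨y, ?_⟩
  rw [IsScalarTower.algebraMap_eq A W B, PrimeSpectrum.comap_comp_apply,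
    show PrimeSpectrum.comap (algebraMap W B) y = w from congrArg Prod.fst hy, hw]

theorem localRingHom_bijective_of_eq {A B : Type u} [CommRing A] [CommRing B] [Algebra A B]
    (q : PrimeSpectrum B) (h : Function.Bijective (Localization.localRingHom
      (q.asIdeal.comap (algebraMap A B)) q.asIdeal (algebraMap A B) rfl)) (p : Ideal A) [p.IsPrime]
    (hp : p = q.asIdeal.comap (algebraMap A B)) :
    Function.Bijective (Localization.localRingHom p q.asIdeal (algebraMap A B) hp) := by
  subst hp
  exact h

theorem nonempty_retraction_of_bijective (A B : Type u) [CommRing A] [CommRing B] [Algebra A B]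
    (hA : ProEtW.IsWLocal (PrimeSpectrum A))
    (hED : ExtremallyDisconnected (ConnectedComponents (PrimeSpectrum A)))
    (hff : Module.FaithfullyFlat A B)
    (h1 : ∀ q : PrimeSpectrum B, IsClosed ({PrimeSpectrum.comap (algebraMap A B) q} : Set (PrimeSpectrum A)) →
      Function.Bijective (Localization.localRingHom (q.asIdeal.comap (algebraMap A B)) q.asIdeal
        (algebraMap A B) rfl)) : Nonempty (B →ₐ[A] A) := by
  haveI := hA.1
  haveI : T2Space (ConnectedComponents (PrimeSpectrum A)) := ProfinitePullback.t2_components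
  have bA := Spectral.components_bijective_of_unique_specialization hA.2.1 hA.2.2
  let f := PrimeSpectrum.comap (algebraMap A B)
  let M : Set (PrimeSpectrum B) := f ⁻¹' {x | IsClosed ({x} : Set (PrimeSpectrum A))}
  have hM : IsClosed M := hA.2.1.preimage (PrimeSpectrum.continuous_comap _)
  haveI := WLocal.spectralSpace_closed M hM
  haveI : T1Space M := ⟨fun q => by
    have hmax : IsClosed ({(q : PrimeSpectrum B)} : Set (PrimeSpectrum B)) := by
      rw [PrimeSpectrum.isClosed_singleton_iff_isMaximal]
      obtain ⟨n, hn, hqn⟩ := Ideal.exists_le_maximal _ q.1.isPrime.ne_top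
      have heq : PrimeSpectrum.comap (algebraMap A B) q.1 =
          PrimeSpectrum.comap (algebraMap A B) ⟨n, hn.isPrime⟩ := PrimeSpectrum.ext
        (((PrimeSpectrum.isClosed_singleton_iff_isMaximal _).mp q.2).eq_of_le
          (PrimeSpectrum.comap (algebraMap A B) ⟨n, hn.isPrime⟩).isPrime.ne_top (Ideal.comap_mono hqn))
      have := IdentifiesLocalRings.eq_of_le_of_surjAt (q := q.1) (q' := ⟨n, hn.isPrime⟩)
        (IdentifiesLocalRings.surjAt_of_bijective _ (h1 _ (heq ▸ q.2))) hqn heq
      rwa [this]
    rw [show ({q} : Set M) = Subtype.val ⁻¹' {(q : PrimeSpectrum B)} from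
      Set.ext fun x => Subtype.ext_iff]
    exact hmax.preimage continuous_subtype_val⟩
  obtain ⟨hc, h2, -⟩ := WLocal.isProfinite_of_t1 M
  let g : M → ConnectedComponents (PrimeSpectrum A) := fun q => ConnectedComponents.mk (f q)
  have hg : Continuous g := ConnectedComponents.continuous_coe.comp
    ((PrimeSpectrum.continuous_comap _).comp continuous_subtype_val)
  have hgs : Function.Surjective g := fun c => by
    obtain ⟨⟨x, hx⟩, rfl⟩ := bA.2 c
    obtain ⟨q, hq⟩ := PrimeSpectrum.comap_surjective_of_faithfullyFlat (A := A) (B := B) x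
    exact ⟨⟨q, show IsClosed ({f q} : Set (PrimeSpectrum A)) by rwa [show f q = x from hq]⟩,
      congrArg ConnectedComponents.mk hq⟩
  haveI := hED
  obtain ⟨h, hh, hgh⟩ := CompactT2.ExtremallyDisconnected.projective continuous_id hg hgs
  let Q : MaximalSpectrum A → PrimeSpectrum B := fun m => (h (ConnectedComponents.mk (Gluing.pt m))).1
  have hQ : ∀ m : MaximalSpectrum A, m.asIdeal = (Q m).asIdeal.comap (algebraMap A B) := fun m => by
    have := bA.1 (a₁ := ⟨f (Q m), (h (ConnectedComponents.mk (Gluing.pt m))).2⟩)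
      (a₂ := ⟨Gluing.pt m, Gluing.isClosed_pt m⟩) (congrFun hgh (ConnectedComponents.mk (Gluing.pt m)))
    exact (congrArg (fun z : {x : PrimeSpectrum A // IsClosed ({x} : Set (PrimeSpectrum A))} =>
      z.1.asIdeal) this).symm
  have hQc : ∀ m : MaximalSpectrum A, IsClosed ({f (Q m)} : Set (PrimeSpectrum A)) := fun m =>
    (h (ConnectedComponents.mk (Gluing.pt m))).2
  let e : ∀ m : MaximalSpectrum A,
      Localization.AtPrime m.asIdeal ≃+* Localization.AtPrime (Q m).asIdeal := fun m =>
    RingEquiv.ofBijective (Localization.localRingHom m.asIdeal (Q m).asIdeal (algebraMap A B) (hQ m))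
      (localRingHom_bijective_of_eq (Q m) (h1 _ (hQc m)) m.asIdeal (hQ m))
  let φ : ∀ m : MaximalSpectrum A, B →+* Localization.AtPrime m.asIdeal := fun m =>
    (e m).symm.toRingHom.comp (algebraMap B _)
  have hφ : ∀ (m : MaximalSpectrum A) (a : A), φ m (algebraMap A B a) = algebraMap A _ a := fun m a => by
    refine (e m).injective ?_
    exact ((e m).apply_symm_apply _).trans (Localization.localRingHom_to_map _ _ _ (hQ m) a).symm
  have hex : ∀ b : B, ∃ x : A, ∀ m, algebraMap A (Localization.AtPrime m.asIdeal) x = φ m b := by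
    intro b
    refine Gluing.exists_glue hA _ fun m₀ => ?_
    obtain ⟨a, s, t, hs, ht, he⟩ := IdentifiesLocalRings.surjAt_of_bijective (Q m₀) (h1 _ (hQc m₀)) b
    refine ⟨(fun x => (h (ConnectedComponents.mk x)).1) ⁻¹'
      (PrimeSpectrum.basicOpen (t * algebraMap A B s) : Set (PrimeSpectrum B)), a, s,
      (PrimeSpectrum.basicOpen _).isOpen.preimage
        (continuous_subtype_val.comp (hh.comp ConnectedComponents.continuous_coe)),
      (Q m₀).isPrime.mul_notMem ht hs, fun m hm => ?_⟩
    obtain ⟨htm, hsm⟩ : t ∉ (Q m).asIdeal ∧ algebraMap A B s ∉ (Q m).asIdeal :=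
      ⟨fun h' => hm (Ideal.mul_mem_right _ _ h'), fun h' => hm (Ideal.mul_mem_left _ _ h')⟩
    refine ⟨fun h' => hsm ((SetLike.ext_iff.mp (hQ m) s).mp h'), ?_⟩
    rw [← hφ, ← hφ, ← map_mul]
    change (e m).symm _ = (e m).symm _
    refine congrArg _ ((IsLocalization.eq_iff_exists (Q m).asIdeal.primeCompl _).mpr ⟨⟨t, htm⟩, ?_⟩)
    rw [mul_sub, sub_eq_zero] at he
    exact he
  choose r hr using hex
  exact ⟨{
    toFun := r
    map_one' := WConstruction.eq_of_forall_maximal fun m => by simp [hr]
    map_mul' := fun x y => WConstruction.eq_of_forall_maximal fun m => by simp [hr]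
    map_zero' := WConstruction.eq_of_forall_maximal fun m => by simp [hr]
    map_add' := fun x y => WConstruction.eq_of_forall_maximal fun m => by simp [hr]
    commutes' := fun a => WConstruction.eq_of_forall_maximal fun m => by simp [hr, hφ] }⟩

theorem nonempty_retraction (A B : Type u) [CommRing A] [CommRing B] [Algebra A B]
    (hA : ProEtW.IsWLocal (PrimeSpectrum A))
    (hED : ExtremallyDisconnected (ConnectedComponents (PrimeSpectrum A)))
    (hff : Module.FaithfullyFlat A B) (hB : EtPBC.IsIndZariski A B) : Nonempty (B →ₐ[A] A) :=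
  nonempty_retraction_of_bijective A B hA hED hff fun q _ => IdentifiesLocalRings.of_indZariski hB q

theorem iff_wLocal_extrDisc (A : Type u) [CommRing A] :
    ProEtW.HasIndZariskiRetractions A ↔ (ProEtW.IsWLocal (PrimeSpectrum A) ∧
      ExtremallyDisconnected (ConnectedComponents (PrimeSpectrum A))) := by
  refine ⟨fun hA => ?_, fun ⟨h1, h2⟩ B _ _ hff hB => nonempty_retraction A B h1 h2 hff hB⟩
  obtain ⟨B, _, _, hff, hB, hwl, hproj⟩ := exists_cover A
  obtain ⟨r⟩ := hA B hff hB
  have hsec : ∀ x, PrimeSpectrum.comap (algebraMap A B) (PrimeSpectrum.comap r.toRingHom x) = x :=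
    fun x => by
      rw [← PrimeSpectrum.comap_comp_apply]
      exact PrimeSpectrum.ext (Ideal.ext fun a => by simp)
  have hi : IsClosedEmbedding (PrimeSpectrum.comap r.toRingHom) :=
    PrimeSpectrum.isClosedEmbedding_comap_of_surjective _ _ fun a => ⟨algebraMap A B a, r.commutes a⟩
  have hAw : ProEtW.IsWLocal (PrimeSpectrum A) := isWLocal_of_homeo hi.isEmbedding.toHomeomorph
    (WLocal.isWLocal_of_isClosed _ hwl _ hi.isClosed_range)
  haveI := hAw.1
  haveI : T2Space (ConnectedComponents (PrimeSpectrum A)) := ProfinitePullback.t2_components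
  refine ⟨hAw, CompactT2.Projective.extremallyDisconnected (projective_of_retract
    (PrimeSpectrum.continuous_comap r.toRingHom).connectedComponentsMap_continuous
    (PrimeSpectrum.continuous_comap (algebraMap A B)).connectedComponentsMap_continuous
    (fun c => ?_) hproj)⟩
  obtain ⟨x, rfl⟩ := ConnectedComponents.surjective_coe c
  exact congrArg ConnectedComponents.mk (hsec x)

end Groth.L27.RetractionsZariski
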