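import Groth.Agent.L27.EtaleHull
import Groth.Agent.L27.RetractionsZariski
import Groth.Agent.L27.Retractions
import Mathlib.RingTheory.Unramified.LocalStructure

/-! w-local ind-etale covers with strictly henselian local rings. -/

set_option autoImplicit false
set_option linter.style.haveILetI false
universe u

open TensorProduct

namespace Groth.L27.StrictCover

theorem eq_of_le_indEtale {A B : Type u} [CommRing A] [CommRing B] [Algebra A B]
    (h : EtPBC.IsIndEtale A B) {q q' : PrimeSpectrum B} (hle : q ≤ q')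
    (heq : PrimeSpectrum.comap (algebraMap A B) q = PrimeSpectrum.comap (algebraMap A B) q') :
    q = q' := by
  refine le_antisymm hle fun x hx => ?_
  rw [IndEtale.isIndEtale_iff_exists_factor] at h
  obtain ⟨E, _, _, α, β, hE, hc⟩ := h (MvPolynomial Unit A) (MvPolynomial.aeval fun _ => x)
  have := Algebra.QuasiFinite.eq_of_le_of_under_eq (R := A) (q.asIdeal.comap β) (q'.asIdeal.comap β)
    (Ideal.comap_mono hle) (by
      ext a
      simp only [Ideal.under_def, Ideal.mem_comap, AlgHom.commutes]
      exact SetLike.ext_iff.mp (congrArg PrimeSpectrum.asIdeal heq) a)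
  have hβ : β (α (.X ())) = x := by simpa using AlgHom.congr_fun hc (.X ())
  have hmem : α (.X ()) ∈ q'.asIdeal.comap β := by rwa [Ideal.mem_comap, hβ]
  rwa [← this, Ideal.mem_comap, hβ] at hmem

theorem henselian_of_ringEquiv {R S : Type u} [CommRing R] [CommRing S] [HenselianLocalRing R]
    (e : R ≃+* S) : HenselianLocalRing S := by
  haveI := e.isLocalRing
  refine { is_henselian := fun f hf a₀ h1 h2 => ?_ }
  have hmax : ∀ x : R, x ∈ IsLocalRing.maximalIdeal R ↔ e x ∈ IsLocalRing.maximalIdeal S := fun x => by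
    simp only [IsLocalRing.mem_maximalIdeal, mem_nonunits_iff, isUnit_map_iff e]
  have hev : ∀ (p : Polynomial S) (x : R), e (Polynomial.eval x (p.map e.symm.toRingHom)) =
      Polynomial.eval (e x) p := fun p x => by
    have h := Polynomial.eval_map_apply e.symm.toRingHom (p := p) (e x)
    simp only [RingEquiv.toRingHom_eq_coe, RingHom.coe_coe, RingEquiv.symm_apply_apply] at h ⊢
    rw [h, e.apply_symm_apply]
  obtain ⟨a, ha, ha'⟩ := HenselianLocalRing.is_henselian (f.map e.symm.toRingHom) (hf.map _) (e.symm a₀)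
    (by rw [hmax, hev, e.apply_symm_apply]; exact h1)
    (by rw [← isUnit_map_iff e, Polynomial.derivative_map, hev, e.apply_symm_apply]; exact h2)
  refine ⟨e a, ?_, ?_⟩
  · rw [Polynomial.IsRoot, ← hev, ha, map_zero]
  · rw [hmax, map_sub, e.apply_symm_apply] at ha'
    exact ha'

theorem isSepClosed_of_ringEquiv {k K : Type u} [Field k] [Field K] [IsSepClosed k] (e : k ≃+* K) :
    IsSepClosed K := by
  refine IsSepClosed.of_exists_root _ fun p hp hirr hsep => ?_
  have hdeg : (p.map e.symm.toRingHom).degree ≠ 0 := by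
    rw [Polynomial.degree_map]
    exact (Polynomial.degree_pos_of_irreducible hirr).ne'
  obtain ⟨x, hx⟩ := IsSepClosed.exists_root _ hdeg (hsep.map)
  refine ⟨e x, ?_⟩
  have h := Polynomial.eval_map_apply e.symm.toRingHom (p := p) (e x)
  simp only [RingEquiv.toRingHom_eq_coe, RingHom.coe_coe, RingEquiv.symm_apply_apply] at h hx
  rw [hx] at h
  exact e.symm.injective (by rw [map_zero]; exact h.symm)

theorem strictlyHenselian_of_ringEquiv {R S : Type u} [CommRing R] [CommRing S] (e : R ≃+* S)
    (h : EtCoh.IsStrictlyHenselianLocalRing R) : EtCoh.IsStrictlyHenselianLocalRing S := by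
  obtain ⟨h1, h2⟩ := h
  haveI := henselian_of_ringEquiv e
  exact ⟨inferInstance, isSepClosed_of_ringEquiv (IsLocalRing.ResidueField.mapEquiv e)⟩

/-- Local rings agree along maps identifying local rings. -/
theorem strictlyHenselian_of_bijective {A B : Type u} [CommRing A] [CommRing B] [Algebra A B]
    (q : PrimeSpectrum B) (p : Ideal A) [p.IsPrime] (hp : p = q.asIdeal.comap (algebraMap A B))
    (hbij : EtPBC.IdentifiesLocalRings A B)
    (h : EtCoh.IsStrictlyHenselianLocalRing (Localization.AtPrime p)) :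
    EtCoh.IsStrictlyHenselianLocalRing (Localization.AtPrime q.asIdeal) :=
  strictlyHenselian_of_ringEquiv (RingEquiv.ofBijective _
    (RetractionsZariski.localRingHom_bijective_of_eq q (hbij q) p hp)) h

/-- An ind-etale cover with w-local spectrum and strictly henselian local rings at closed points. -/
theorem exists_strict_wLocal (A : Type u) [CommRing A] :
    ∃ (C : Type u) (_ : CommRing C) (_ : Algebra A C), Module.FaithfullyFlat A C ∧
      EtPBC.IsIndEtale A C ∧ ProEtW.IsWLocal (PrimeSpectrum C) ∧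
      PrimeSpectrum.comap (algebraMap A C) '' ProEtW.closedPoints (PrimeSpectrum C) = Set.univ ∧
      ∀ (m : Ideal C) [m.IsMaximal], EtCoh.IsStrictlyHenselianLocalRing (Localization.AtPrime m) := by
  obtain ⟨W, _, _, hW, hI, hWl, hbij⟩ := WConstruction.exists_wLocalization A
  obtain ⟨C₀, _, _, hC₀, hE₀, hret⟩ := EtaleHull.exists_hull W
  obtain ⟨I, hIc⟩ := (PrimeSpectrum.isClosed_iff_zeroLocus_ideal _).mp hWl.2.1
  let J : Ideal C₀ := I.map (algebraMap W C₀)
  have hmax : ∀ z : WConstruction.Pt C₀ J, z.1.asIdeal.IsMaximal := fun z => by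
    obtain ⟨n, hn, hzn⟩ := Ideal.exists_le_maximal _ z.1.isPrime.ne_top
    have hz : PrimeSpectrum.comap (algebraMap W C₀) z.1 ∈ {x : PrimeSpectrum W | IsClosed {x}} := by
      rw [hIc]
      exact Ideal.map_le_iff_le_comap.mp z.2
    have := eq_of_le_indEtale hE₀ (q := z.1) (q' := ⟨n, hn.isPrime⟩) hzn (PrimeSpectrum.ext
      (((PrimeSpectrum.isClosed_singleton_iff_isMaximal _).mp hz).eq_of_le
        (PrimeSpectrum.comap (algebraMap W C₀) ⟨n, hn.isPrime⟩).isPrime.ne_top (Ideal.comap_mono hzn)))
    rw [this]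
    exact hn
  let C := WConstruction.W C₀ J
  letI : Algebra A C₀ := ((algebraMap W C₀).comp (algebraMap A W)).toAlgebra
  haveI : IsScalarTower A W C₀ := .of_algebraMap_eq' rfl
  letI : Algebra A C := ((algebraMap C₀ C).comp (algebraMap A C₀)).toAlgebra
  haveI : IsScalarTower A C₀ C := .of_algebraMap_eq' rfl
  have hindC : EtPBC.IsIndZariski C₀ C := WConstruction.indZariski C₀ J
  have hA : EtPBC.IsIndEtale A C := IndEtale.trans A C₀ C
    (IndEtale.trans A W C₀ (IndZariski.isIndEtale A W hI) hE₀) (IndZariski.isIndEtale C₀ C hindC)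
  have himg : PrimeSpectrum.comap (algebraMap A C) '' ProEtW.closedPoints (PrimeSpectrum C) = Set.univ := by
    refine Set.eq_univ_of_forall fun z => ?_
    obtain ⟨w, hw, hwz⟩ := hbij.surjOn (Set.mem_univ z)
    haveI := hC₀
    obtain ⟨q, hq⟩ := PrimeSpectrum.comap_surjective_of_faithfullyFlat (A := W) (B := C₀) w
    have hqJ : q ∈ PrimeSpectrum.zeroLocus (J : Set C₀) := Ideal.map_le_iff_le_comap.mpr (by
      have : w ∈ PrimeSpectrum.zeroLocus (I : Set W) := hIc ▸ hw
      rw [← hq] at this
      exact this)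
    obtain ⟨r, hr, hrq⟩ := (WConstruction.bijOn_closedPoints (A := C₀) (I := J)).surjOn hqJ
    refine ⟨r, hr, ?_⟩
    rw [IsScalarTower.algebraMap_eq A C₀ C, PrimeSpectrum.comap_comp_apply, hrq,
      IsScalarTower.algebraMap_eq A W C₀, PrimeSpectrum.comap_comp_apply, hq, hwz]
  haveI := IndEtale.flat A C hA
  refine ⟨C, inferInstance, inferInstance, Module.FaithfullyFlat.of_comap_surjective fun z => ?_, hA,
    WConstruction.isWLocal, himg, fun m hm => ?_⟩
  · obtain ⟨r, -, hr⟩ := (himg ▸ Set.mem_univ z : z ∈ PrimeSpectrum.comap (algebraMap A C) '' _)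
    exact ⟨r, hr⟩
  · obtain ⟨z, hz⟩ := WConstruction.exists_nIdeal_eq m
    haveI := hmax z
    exact strictlyHenselian_of_bijective (A := C₀) (B := C) ⟨m, hm.isPrime⟩ z.1.asIdeal
      (((WConstruction.nIdeal_comap z).symm.trans (congrArg (Ideal.comap (algebraMap C₀ C)) hz.symm)))
      (IdentifiesLocalRings.of_indZariski hindC)
      (Retractions.strictlyHenselian C₀ hret z.1.asIdeal)

theorem exists_prime_tensor {A B C : Type u} [CommRing A] [CommRing B] [CommRing C] [Algebra A B]
    [Algebra A C] (r : PrimeSpectrum B) (c : PrimeSpectrum C)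
    (h : PrimeSpectrum.comap (algebraMap A B) r = PrimeSpectrum.comap (algebraMap A C) c) :
    ∃ t : PrimeSpectrum (B ⊗[A] C), PrimeSpectrum.comap (algebraMap B (B ⊗[A] C)) t = r ∧
      PrimeSpectrum.comap (Algebra.TensorProduct.includeRight (R := A) (A := B) (B := C)).toRingHom t = c := by
  let p : PrimeSpectrum A := PrimeSpectrum.comap (algebraMap A C) c
  let jb : p.asIdeal.ResidueField →ₐ[A] r.asIdeal.ResidueField :=
    Ideal.ResidueField.mapₐ p.asIdeal r.asIdeal (Algebra.ofId A B) (congrArg PrimeSpectrum.asIdeal h).symm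
  let jc : p.asIdeal.ResidueField →ₐ[A] c.asIdeal.ResidueField :=
    Ideal.ResidueField.mapₐ p.asIdeal c.asIdeal (Algebra.ofId A C) rfl
  letI : Algebra p.asIdeal.ResidueField r.asIdeal.ResidueField := jb.toRingHom.toAlgebra
  letI : Algebra p.asIdeal.ResidueField c.asIdeal.ResidueField := jc.toRingHom.toAlgebra
  haveI : IsScalarTower A p.asIdeal.ResidueField r.asIdeal.ResidueField :=
    .of_algebraMap_eq fun a => (jb.commutes a).symm
  haveI : IsScalarTower A p.asIdeal.ResidueField c.asIdeal.ResidueField :=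
    .of_algebraMap_eq fun a => (jc.commutes a).symm
  let L := r.asIdeal.ResidueField ⊗[p.asIdeal.ResidueField] c.asIdeal.ResidueField
  haveI : Nontrivial L := Algebra.TensorProduct.nontrivial_of_algebraMap_injective_of_flat_left _ _ _
    (RingHom.injective _)
  obtain ⟨n, hn⟩ := Ideal.exists_maximal L
  let fb : B →ₐ[A] L := ((Algebra.TensorProduct.includeLeft :
    r.asIdeal.ResidueField →ₐ[p.asIdeal.ResidueField] L).restrictScalars A).comp
      (IsScalarTower.toAlgHom A B r.asIdeal.ResidueField)
  let fc : C →ₐ[A] L := ((Algebra.TensorProduct.includeRight :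
    c.asIdeal.ResidueField →ₐ[p.asIdeal.ResidueField] L).restrictScalars A).comp
      (IsScalarTower.toAlgHom A C c.asIdeal.ResidueField)
  let F := Algebra.TensorProduct.lift fb fc fun _ _ => Commute.all _ _
  refine ⟨PrimeSpectrum.comap F.toRingHom ⟨n, hn.isPrime⟩, ?_, ?_⟩
  · refine PrimeSpectrum.ext (Ideal.ext fun x => ?_)
    have hx : F (algebraMap B (B ⊗[A] C) x) = fb x := by simp [F, Algebra.TensorProduct.algebraMap_apply]
    simp only [PrimeSpectrum.comap_asIdeal, Ideal.mem_comap, AlgHom.toRingHom_eq_coe, RingHom.coe_coe, hx]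
    change (Algebra.TensorProduct.includeLeftRingHom : r.asIdeal.ResidueField →+* L) _ ∈ n ↔ _
    rw [← Ideal.mem_comap, (Ideal.IsPrime.under r.asIdeal.ResidueField n |> fun _ =>
      Ideal.eq_bot_of_prime (n.comap (Algebra.TensorProduct.includeLeftRingHom :
        r.asIdeal.ResidueField →+* L))), Ideal.mem_bot]
    exact Ideal.algebraMap_residueField_eq_zero
  · refine PrimeSpectrum.ext (Ideal.ext fun x => ?_)
    have hx : F ((Algebra.TensorProduct.includeRight (R := A) (A := B) (B := C)) x) = fc x := by simp [F]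
    simp only [PrimeSpectrum.comap_asIdeal, Ideal.mem_comap, AlgHom.toRingHom_eq_coe, RingHom.coe_coe, hx]
    change (Algebra.TensorProduct.includeRight : c.asIdeal.ResidueField →ₐ[p.asIdeal.ResidueField] L).toRingHom _ ∈ n ↔ _
    rw [← Ideal.mem_comap, Ideal.eq_bot_of_prime (n.comap (Algebra.TensorProduct.includeRight :
      c.asIdeal.ResidueField →ₐ[p.asIdeal.ResidueField] L).toRingHom), Ideal.mem_bot]
    exact Ideal.algebraMap_residueField_eq_zero

/-- The w-local ind-etale square over a map with algebraic residue extensions. -/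
theorem exists_square (A B : Type u) [CommRing A] [CommRing B] [Algebra A B]
    (h : ProEtW.AlgebraicResidueExtensions A B) :
    ∃ (C D : Type u) (_ : CommRing C) (_ : CommRing D) (_ : Algebra A C) (_ : Algebra B D)
      (_ : Algebra C D) (_ : Algebra A D) (_ : IsScalarTower A C D) (_ : IsScalarTower A B D),
      Module.FaithfullyFlat A C ∧ EtPBC.IsIndEtale A C ∧ Module.FaithfullyFlat B D ∧
      EtPBC.IsIndEtale B D ∧ ProEtW.IsWLocal (PrimeSpectrum C) ∧ ProEtW.IsWLocal (PrimeSpectrum D) ∧
      ProEtW.IsWLocalMap (PrimeSpectrum.comap (algebraMap C D)) ∧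
      ProEtW.closedPoints (PrimeSpectrum D) =
        PrimeSpectrum.comap (algebraMap C D) ⁻¹' ProEtW.closedPoints (PrimeSpectrum C) ∧
      PrimeSpectrum.comap (algebraMap A C) '' ProEtW.closedPoints (PrimeSpectrum C) = Set.univ ∧
      PrimeSpectrum.comap (algebraMap B D) '' ProEtW.closedPoints (PrimeSpectrum D) = Set.univ ∧
      ∀ (m : Ideal C) [m.IsMaximal], EtCoh.IsStrictlyHenselianLocalRing (Localization.AtPrime m) := by
  obtain ⟨C, _, _, hffC, hC, hCl, himgC, hsh⟩ := exists_strict_wLocal A
  obtain ⟨I, hIc⟩ := (PrimeSpectrum.isClosed_iff_zeroLocus_ideal _).mp hCl.2.1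
  let T := B ⊗[A] C
  letI : Algebra C T := Algebra.TensorProduct.rightAlgebra
  have hT : EtPBC.IsIndEtale B T := IndEtale.baseChange A C B hC
  let J : Ideal T := I.map (algebraMap C T)
  have hmax : ∀ z : WConstruction.Pt T J, z.1.asIdeal.IsMaximal := fun z => by
    obtain ⟨n, hn, hzn⟩ := Ideal.exists_le_maximal _ z.1.isPrime.ne_top
    let n' : PrimeSpectrum T := ⟨n, hn.isPrime⟩
    have hz : PrimeSpectrum.comap (algebraMap C T) z.1 ∈ {x : PrimeSpectrum C | IsClosed {x}} := by
      rw [hIc]
      exact Ideal.map_le_iff_le_comap.mp z.2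
    have hC' : PrimeSpectrum.comap (algebraMap C T) z.1 = PrimeSpectrum.comap (algebraMap C T) n' :=
      PrimeSpectrum.ext (((PrimeSpectrum.isClosed_singleton_iff_isMaximal _).mp hz).eq_of_le
        (PrimeSpectrum.comap (algebraMap C T) n').isPrime.ne_top (Ideal.comap_mono hzn))
    have hB : PrimeSpectrum.comap (algebraMap B T) z.1 = PrimeSpectrum.comap (algebraMap B T) n' := by
      refine WLocal.incomparable_of_algebraic A B h _ _ ?_ (Ideal.comap_mono hzn)
      ext a
      have := SetLike.ext_iff.mp (congrArg PrimeSpectrum.asIdeal hC') (algebraMap A C a)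
      simp only [PrimeSpectrum.comap_asIdeal, Ideal.mem_comap] at this ⊢
      rwa [← IsScalarTower.algebraMap_apply A B T, IsScalarTower.algebraMap_apply A C T]
    have := eq_of_le_indEtale hT (q := z.1) (q' := n') hzn hB
    rw [this]
    exact hn
  let D := WConstruction.W T J
  letI : Algebra C D := ((algebraMap T D).comp (algebraMap C T)).toAlgebra
  haveI : IsScalarTower C T D := .of_algebraMap_eq' rfl
  letI : Algebra B D := ((algebraMap T D).comp (algebraMap B T)).toAlgebra
  haveI : IsScalarTower B T D := .of_algebraMap_eq' rfl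
  letI : Algebra A D := ((algebraMap B D).comp (algebraMap A B)).toAlgebra
  haveI : IsScalarTower A B D := .of_algebraMap_eq' rfl
  haveI : IsScalarTower A C D := .of_algebraMap_eq fun a => by
    change algebraMap T D (algebraMap B T (algebraMap A B a)) = algebraMap T D (algebraMap C T _)
    rw [← IsScalarTower.algebraMap_apply A B T, ← IsScalarTower.algebraMap_apply A C T]
  have hBD : EtPBC.IsIndEtale B D := IndEtale.trans B T D hT
    (IndZariski.isIndEtale T D (WConstruction.indZariski T J))
  have hcl : ProEtW.closedPoints (PrimeSpectrum D) =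
      PrimeSpectrum.comap (algebraMap C D) ⁻¹' ProEtW.closedPoints (PrimeSpectrum C) := by
    rw [WConstruction.closedPoints_eq hmax, show ProEtW.closedPoints (PrimeSpectrum C) =
      PrimeSpectrum.zeroLocus (I : Set C) from hIc, PrimeSpectrum.preimage_comap_zeroLocus,
      ← PrimeSpectrum.zeroLocus_span (algebraMap C D '' _), ← Ideal.map, IsScalarTower.algebraMap_eq C T D,
      ← Ideal.map_map]
  have himgD : PrimeSpectrum.comap (algebraMap B D) '' ProEtW.closedPoints (PrimeSpectrum D) = Set.univ := by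
    refine Set.eq_univ_of_forall fun r => ?_
    obtain ⟨c, hc, hcr⟩ := (himgC ▸ Set.mem_univ (PrimeSpectrum.comap (algebraMap A B) r) :
      PrimeSpectrum.comap (algebraMap A B) r ∈ PrimeSpectrum.comap (algebraMap A C) '' _)
    obtain ⟨t, htB, htC⟩ := exists_prime_tensor r c hcr.symm
    have htJ : t ∈ PrimeSpectrum.zeroLocus (J : Set T) := Ideal.map_le_iff_le_comap.mpr (by
      have : c ∈ PrimeSpectrum.zeroLocus (I : Set C) := hIc ▸ hc
      rw [← htC] at this
      exact this)
    obtain ⟨d, hd, hdt⟩ := (WConstruction.bijOn_closedPoints (A := T) (I := J)).surjOn htJ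
    refine ⟨d, hd, ?_⟩
    rw [IsScalarTower.algebraMap_eq B T D, PrimeSpectrum.comap_comp_apply, hdt, htB]
  haveI := IndEtale.flat B D hBD
  refine ⟨C, D, inferInstance, inferInstance, inferInstance, inferInstance, inferInstance, inferInstance,
    inferInstance, inferInstance, hffC, hC, Module.FaithfullyFlat.of_comap_surjective fun r => ?_, hBD,
    hCl, WConstruction.isWLocal, ⟨WConstruction.isSpectralMap_comap _, fun d hd => ?_⟩, hcl, himgC, himgD, hsh⟩
  · obtain ⟨d, -, hd⟩ := (himgD ▸ Set.mem_univ r : r ∈ PrimeSpectrum.comap (algebraMap B D) '' _)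
    exact ⟨d, hd⟩
  · have : d ∈ ProEtW.closedPoints (PrimeSpectrum D) := hd
    rw [hcl] at this
    exact this

end Groth.L27.StrictCover
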