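import Groth.Agent.L27.HenselProperClopen
import Groth.Agent.L13.LocPrincApprox.Model
import Groth.Agent.L17.Approx.Model
import Groth.Agent.L05.Henselization.Pair
import Groth.Agent.L03.PairNoeth
import Groth.Agent.L19.Limit.Topo
import Mathlib.AlgebraicGeometry.IdealSheaf.Subscheme

/-! # Clopens lift from the special fibre of a proper scheme over any henselian pair -/

set_option autoImplicit false
set_option linter.style.haveILetI false
set_option backward.isDefEq.respectTransparency false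
set_option backward.isDefEq.respectTransparency.types false
set_option backward.defeqAttrib.useBackward true

universe u

open CategoryTheory CategoryTheory.Limits AlgebraicGeometry TopologicalSpace Opposite Topology

noncomputable section

namespace Groth.L27.HenselProper

theorem app_comm {P Q Q' S : Scheme.{u}} {a : P ⟶ Q} {b : Q ⟶ S} {a' : P ⟶ Q'} {b' : Q' ⟶ S}
    (h : a ≫ b = a' ≫ b') (x : P) : b (a x) = b' (a' x) := by
  rw [← Scheme.Hom.comp_apply, ← Scheme.Hom.comp_apply, h]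

theorem app_eq {P Q S : Scheme.{u}} {a : P ⟶ Q} {b : Q ⟶ S} {d : P ⟶ S} (h : a ≫ b = d) (x : P) :
    b (a x) = d x := by
  rw [← Scheme.Hom.comp_apply, h]

theorem exists_isCompact_open_between {X : Scheme.{u}} [CompactSpace X] {Z : Set X} (hZ : IsClosed Z)
    {O : Set X} (hO : IsOpen O) (hZO : Z ⊆ O) :
    ∃ U : X.Opens, IsCompact (U : Set X) ∧ Z ⊆ U ∧ (U : Set X) ⊆ O := by
  have h : ∀ z : Z, ∃ W : X.Opens, IsAffineOpen W ∧ (z : X) ∈ W ∧ (W : Set X) ⊆ O := fun z => by
    obtain ⟨_, ⟨(W : X.Opens), hW, rfl⟩, hzW, hWO⟩ :=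
      X.isBasis_affineOpens.exists_subset_of_mem_open (hZO z.2) hO
    exact ⟨W, hW, hzW, hWO⟩
  choose W hW hzW hWO using h
  obtain ⟨t, ht⟩ := hZ.isCompact.elim_finite_subcover (fun z : Z => (W z : Set X)) (fun z => (W z).2)
    (fun z hz => Set.mem_iUnion.mpr ⟨⟨z, hz⟩, hzW _⟩)
  refine ⟨⟨⋃ z ∈ t, (W z : Set X), isOpen_biUnion fun z _ => (W z).2⟩, ?_, ht, ?_⟩
  · exact t.finite_toSet.isCompact_biUnion fun z _ => (hW z).isCompact
  · exact Set.iUnion₂_subset fun z _ => hWO z

/-- Transfer of a lifted clopen from a Noetherian stage. -/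
theorem exists_clopen_of_stage {A : Type u} [CommRing A] (I : Ideal A) [HenselianRing A I]
    {X : Scheme.{u}} (f : X ⟶ Spec (CommRingCat.of A)) (V : Set ↥(pullback f (ι I)))
    (R : Type u) [CommRing R] [IsNoetherianRing R] (ρ : R →+* A) {Xk : Scheme.{u}}
    (fk : Xk ⟶ Spec (CommRingCat.of R)) [IsProper fk] (π : X ⟶ Xk)
    (hπ : π ≫ fk = f ≫ Spec.map (CommRingCat.ofHom ρ)) (C : Set Xk) (hC : IsClosed C)
    (hπC : ∀ x, π x ∈ C) (O₁ O₂ : Xk.Opens)
    (hcov : ∀ y ∈ C, fk y ∈ PrimeSpectrum.zeroLocus (I.comap ρ : Set R) → (y ∈ O₁ ↔ y ∉ O₂))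
    (hV₁ : ∀ t, π (pullback.fst f (ι I) t) ∈ O₁ ↔ t ∈ V) :
    ∃ U : Set X, IsClopen U ∧ pullback.fst f (ι I) ⁻¹' U = V := by
  let IR := I.comap ρ
  let H := Groth.L05.Henselization.PairHens R IR
  haveI : IsNoetherianRing H := Groth.L03.PairNoeth.isNoetherianRing_pairHens R IR
  have hH : Hens2.IsPairHenselization R IR H := Groth.L05.Henselization.isPairHenselization R IR
  let IH := IR.map (algebraMap R H)
  haveI : HenselianRing H IH := hH.1
  obtain ⟨σ, hσ, -⟩ := hH.2 A I ρ inferInstance Ideal.map_comap_le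
  let c := Spec.map (CommRingCat.ofHom (algebraMap R H))
  let XH := pullback fk c
  let CH : Set XH := pullback.fst fk c ⁻¹' C
  let 𝓘 : Scheme.IdealSheafData XH := Scheme.IdealSheafData.vanishingIdeal
    ⟨CH, hC.preimage (pullback.fst fk c).continuous⟩
  let e : 𝓘.subscheme ⟶ XH := 𝓘.subschemeι
  have he : Set.range e = CH := by
    show Set.range 𝓘.subschemeι = _
    rw [Scheme.IdealSheafData.range_subschemeι]
    exact Scheme.IdealSheafData.coe_support_vanishingIdeal _
  let fY : 𝓘.subscheme ⟶ Spec (CommRingCat.of H) := e ≫ pullback.snd fk c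
  let π' : 𝓘.subscheme → Xk := fun y => pullback.fst fk c (e y)
  have hπ'cont : Continuous π' := (pullback.fst fk c).continuous.comp e.continuous
  have hπ'C : ∀ y, π' y ∈ C := fun y => (he ▸ Set.mem_range_self y : e y ∈ CH)
  let fst' := pullback.fst fY (ι IH)
  have hI0 : ∀ z, fk (π' (fst' z)) ∈ PrimeSpectrum.zeroLocus (IR : Set R) := by
    intro z r hr
    have h1 : fY (fst' z) ∈ PrimeSpectrum.zeroLocus (IH : Set H) := by
      rw [← range_ι]
      exact ⟨pullback.snd fY (ι IH) z, (app_comm pullback.condition z).symm⟩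
    have h2 : fk (π' (fst' z)) = c (fY (fst' z)) :=
      app_comm (pullback.condition (f := fk) (g := c)) (e (fst' z))
    show r ∈ (fk (π' (fst' z))).asIdeal
    rw [h2]
    exact h1 (Ideal.mem_map_of_mem _ hr)
  let V' : Set ↥(pullback fY (ι IH)) := (π' ∘ fst') ⁻¹' (O₁ : Set Xk)
  have hV' : IsClopen V' := by
    refine ⟨?_, O₁.2.preimage (hπ'cont.comp fst'.continuous)⟩
    rw [show V' = ((π' ∘ fst') ⁻¹' (O₂ : Set Xk))ᶜ from
      Set.ext fun z => hcov _ (hπ'C _) (hI0 z)]
    exact (O₂.2.preimage (hπ'cont.comp fst'.continuous)).isClosed_compl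
  obtain ⟨U, ⟨hU, hUV⟩, -⟩ := clopen_lift IH IH (RingHom.id H) fY fY
    (by rw [CommRingCat.ofHom_id, Spec.map_id]; exact Category.comp_id fY) (Ideal.map_id IH).le V' hV'
  let π₁ : X ⟶ XH := pullback.lift π (f ≫ Spec.map (CommRingCat.ofHom σ)) (by
    rw [hπ, Category.assoc, ← Spec.map_comp, ← CommRingCat.ofHom_comp, hσ])
  have hπ₁ : ∀ x, pullback.fst fk c (π₁ x) = π x := fun x => app_eq (pullback.lift_fst _ _ _) x
  have hr : ∀ x, π₁ x ∈ Set.range e := fun x => by
    rw [he]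
    show pullback.fst fk c (π₁ x) ∈ C
    rw [hπ₁]; exact hπC x
  let UX : Set X := π₁ ⁻¹' (e '' U)
  have hUc : UXᶜ = π₁ ⁻¹' (e '' Uᶜ) := by
    ext x
    obtain ⟨y, hy⟩ := hr x
    show π₁ x ∉ e '' U ↔ π₁ x ∈ e '' Uᶜ
    rw [← hy, e.isClosedEmbedding.injective.mem_set_image, e.isClosedEmbedding.injective.mem_set_image]
    rfl
  refine ⟨UX, ⟨(e.isClosedMap _ hU.isClosed).preimage π₁.continuous,
    isClosed_compl_iff.mp (hUc ▸ (e.isClosedMap _ hU.compl.isClosed).preimage π₁.continuous)⟩, ?_⟩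
  ext t
  let x := pullback.fst f (ι I) t
  obtain ⟨y, hy⟩ := hr x
  show π₁ x ∈ e '' U ↔ t ∈ V
  rw [← hy, e.isClosedEmbedding.injective.mem_set_image, ← hV₁]
  obtain ⟨z, hz⟩ : y ∈ Set.range fst' := by
    show y ∈ Set.range (pullback.fst fY (ι IH))
    rw [Scheme.Pullback.range_fst]
    show fY y ∈ Set.range (ι IH)
    rw [range_ι, PrimeSpectrum.mem_zeroLocus]
    have h1 : fY y = Spec.map (CommRingCat.ofHom σ) (f x) := by
      show pullback.snd fk c (e y) = _
      rw [hy]
      exact (app_eq (pullback.lift_snd _ _ _) x).trans (Scheme.Hom.comp_apply _ _ _)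
    have h2 : f x ∈ PrimeSpectrum.zeroLocus (I : Set A) := by
      rw [← range_ι]
      exact ⟨pullback.snd f (ι I) t, (app_comm pullback.condition t).symm⟩
    rw [h1]
    show IH ≤ (f x).asIdeal.comap σ
    rw [Ideal.map_le_iff_le_comap, Ideal.comap_comap, hσ]
    exact Ideal.comap_mono h2
  have h3 : π' y = π x := (congrArg (pullback.fst fk c) hy).trans (hπ₁ x)
  show y ∈ U ↔ π x ∈ O₁
  rw [← h3, ← hz]
  exact Set.ext_iff.mp hUV z

/-- Clopens lift from the special fibre of a proper scheme over a henselian pair. -/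
theorem exists_clopen_general {A : Type u} [CommRing A] (I : Ideal A) [HenselianRing A I]
    {X : Scheme.{u}} (f : X ⟶ Spec (CommRingCat.of A)) [IsProper f]
    (V : Set ↥(pullback f (ι I))) (hV : IsClopen V) :
    ∃ U : Set X, IsClopen U ∧ pullback.fst f (ι I) ⁻¹' U = V := by
  classical
  haveI : CompactSpace X := QuasiCompact.compactSpace_of_compactSpace f
  haveI : QuasiSeparatedSpace X := quasiSeparatedSpace_of_quasiSeparated f
  obtain ⟨M⟩ := Groth.L13.LPApprox.exists_model (f := f)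
  obtain ⟨M, hM⟩ := Groth.L13.LPApprox.exists_model_proper M
  haveI := hM
  obtain ⟨A₁, hA₁, X₁, f₁, q, hf₁, hf₁', sq⟩ := Groth.L17.Approx.exists_proper_model M.g
  haveI := hf₁
  let D := Groth.L05.ModelFG.specDiagram A
  let c := Groth.L05.ModelFG.specCone A
  let i : (Groth.L05.ModelFG.FG A)ᵒᵖ := op ⟨A₁, hA₁⟩
  let f₁' : X₁ ⟶ D.obj i := f₁
  let g' : M.Z ⟶ c.pt := M.g
  have h : IsPullback q g' f₁' (c.π.app i) := sq
  let E := Groth.L19.Limit.bcDiagram D f₁'
  let cE := Groth.L19.Limit.sqCone h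
  have hlim : IsLimit cE := Groth.L19.Limit.isLimitSqCone (Groth.L05.ModelFG.isLimitSpecCone A) h
  haveI : ∀ {a b} (φ : a ⟶ b), IsAffineHom (E.map φ) := fun {a b} φ => inferInstance
  have hfk : ∀ k : Over i, IsProper (pullback.fst (D.map k.hom) f₁') := fun k =>
    MorphismProperty.pullback_fst _ _ (show IsProper f₁' from hf₁)
  haveI hcpt : ∀ k : Over i, CompactSpace (E.obj k) := fun k => by
    haveI := hfk k
    haveI : CompactSpace (D.obj k.left) := inferInstanceAs (CompactSpace (Spec _))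
    exact QuasiCompact.compactSpace_of_compactSpace (pullback.fst (D.map k.hom) f₁')
  haveI hqs : ∀ k : Over i, QuasiSeparatedSpace (E.obj k) := fun k => by
    haveI := hfk k
    haveI : QuasiSeparatedSpace (D.obj k.left) := inferInstanceAs (QuasiSeparatedSpace (Spec _))
    exact quasiSeparatedSpace_of_quasiSeparated (pullback.fst (D.map k.hom) f₁')
  let fst₀ := pullback.fst f (ι I)
  haveI : IsClosedImmersion (ι I) := IsClosedImmersion.spec_of_surjective _ Ideal.Quotient.mk_surjective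
  let j₀ : ↥(pullback f (ι I)) → ↥M.Z := fun t => M.j (fst₀ t)
  have hj₀ : IsClosedEmbedding j₀ := M.j.isClosedEmbedding.comp fst₀.isClosedEmbedding
  let Z₁ : Set M.Z := j₀ '' V
  let Z₂ : Set M.Z := j₀ '' Vᶜ
  have hZ₁ : IsClosed Z₁ := hj₀.isClosedMap _ hV.isClosed
  have hZ₂ : IsClosed Z₂ := hj₀.isClosedMap _ hV.compl.isClosed
  have hdis : Disjoint Z₁ Z₂ := (Set.disjoint_image_iff hj₀.injective).mpr disjoint_compl_right
  obtain ⟨U₁, hU₁c, hZU₁, hU₁⟩ := exists_isCompact_open_between hZ₁ hZ₂.isOpen_compl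
    (Set.subset_compl_iff_disjoint_right.mpr hdis)
  obtain ⟨U₂, hU₂c, hZU₂, hU₂⟩ := exists_isCompact_open_between hZ₂ hZ₁.isOpen_compl
    (Set.subset_compl_iff_disjoint_left.mpr hdis)
  obtain ⟨k₁, -, W₁, hW₁c, hW₁⟩ :=
    Groth.L19.Limit.exists_isCompact_preimage_eq hlim (Over.mk (𝟙 i)) U₁ hU₁c
  obtain ⟨k₀, φ₀, A₂, hA₂c, hA₂⟩ := Groth.L19.Limit.exists_isCompact_preimage_eq hlim k₁ U₂ hU₂c
  let A₁' : (E.obj k₀).Opens := E.map φ₀ ⁻¹ᵁ W₁
  have hA₁c : IsCompact (A₁' : Set (E.obj k₀)) :=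
    QuasiCompact.isCompact_preimage (f := E.map φ₀) _ W₁.2 hW₁c
  have hA₁ : (cE.π.app k₀ ⁻¹' (A₁' : Set (E.obj k₀)) : Set M.Z) = U₁ :=
    (Groth.L19.Limit.preimage_preimage_map (c := cE) φ₀ (W₁ : Set (E.obj k₁))).trans hW₁
  let π : ∀ k : Over i, M.Z ⟶ E.obj k := fun k => cE.π.app k
  let p : ∀ k : Over i, E.obj k ⟶ D.obj k.left := fun k => pullback.fst (D.map k.hom) f₁'
  let S : ∀ k : Over i, Set (E.obj k) := fun k =>
    closure (Set.range fun x : X => π k (M.j x)) ∩
      p k ⁻¹' PrimeSpectrum.zeroLocus (I.comap (algebraMap k.left.unop.1 A) : Set k.left.unop.1)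
  let Z : ∀ k : Over i, (k ⟶ k₀) → Set (E.obj k) := fun k φ =>
    S k ∩ ((E.map φ ⁻¹' ((A₁' : Set (E.obj k₀)) ∪ A₂))ᶜ ∪ E.map φ ⁻¹' ((A₁' : Set (E.obj k₀)) ∩ A₂))
  have key : ∃ (k : Over i) (φ : k ⟶ k₀), Z k φ = ∅ := by
    by_contra! hne
    have hScl : ∀ k, IsClosed (S k) := fun k =>
      isClosed_closure.inter ((PrimeSpectrum.isClosed_zeroLocus _).preimage (p k).continuous)
    obtain ⟨s, hs⟩ := Groth.L19.Limit.exists_mem_of_cc (D := E) hlim (i := k₀) Z (fun k φ => by
        refine (Groth.L19.Limit.cc_of_isClosed (hScl k)).inter (Groth.L19.Limit.CC.union ?_ ?_)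
        · exact Groth.L19.Limit.cc_of_isClosed
            ((A₁'.2.union A₂.2).preimage (E.map φ).continuous).isClosed_compl
        · exact (Groth.L19.Limit.cc_of_isConstructible
            ((QuasiSeparatedSpace.inter_isCompact _ _ A₁'.2 hA₁c A₂.2 hA₂c).isConstructible
              (A₁'.2.inter A₂.2))).preimage _)
      hne (fun k l a φ z hz => by
        have ha : ∀ x, E.map a (π k x) = π l x := fun x =>
          app_eq (cE.w a) x
        refine ⟨⟨?_, ?_⟩, ?_⟩
        · refine map_mem_closure (E.map a).continuous hz.1.1 ?_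
          rintro _ ⟨x, rfl⟩
          exact ⟨x, (ha _).symm⟩
        · have e : p l (E.map a z) = D.map a.left (p k z) := by
            exact (app_eq (pullback.lift_fst _ _ _) z).trans (Scheme.Hom.comp_apply _ _ _)
          rw [Set.mem_preimage, e]
          intro r hr
          exact hz.1.2 hr
        · have e : E.map φ (E.map a z) = E.map (a ≫ φ) z := by
            rw [← Scheme.Hom.comp_apply, ← E.map_comp]
          have hz2 := hz.2
          simp only [Set.mem_compl_iff, Set.mem_union, Set.mem_preimage, Set.mem_inter_iff] at hz2 ⊢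
          rw [e]
          exact hz2)
    have hsX : s ∈ Set.range M.j := by
      by_contra hsX
      obtain ⟨l, ψ, O, hsO, hO⟩ := Groth.L19.Limit.exists_nhds_stage hlim k₀
        M.j.isClosedMap.isClosed_range.isOpen_compl hsX
      obtain ⟨_, hxO, x, rfl⟩ := mem_closure_iff.mp (hs l ψ).1.1 O O.2 hsO
      exact hO (show M.j x ∈ cE.π.app l ⁻¹' (O : Set (E.obj l)) from hxO) ⟨x, rfl⟩
    obtain ⟨x, rfl⟩ := hsX
    have hxI : f x ∈ PrimeSpectrum.zeroLocus (I : Set A) := by
      intro a ha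
      let T : Groth.L05.ModelFG.FG A := ⟨k₀.left.unop.1 ⊔ Algebra.adjoin ℤ {a},
        k₀.left.unop.2.sup (by simpa using Subalgebra.fg_adjoin_finset (R := ℤ) {a})⟩
      let b : op T ⟶ k₀.left := (homOfLE (show k₀.left.unop.1 ≤ T.1 from le_sup_left)).op
      let k : Over i := Over.mk (b ≫ k₀.hom)
      have h1 := (hs k (Over.homMk b rfl)).1.2
        (show (⟨a, (le_sup_right : Algebra.adjoin ℤ {a} ≤ T.1) (Algebra.subset_adjoin (Set.mem_singleton a))⟩ : T.1) ∈
          I.comap (algebraMap T.1 A) from ha)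
      have e : p k (π k (M.j x)) = c.π.app k.left (f x) := by
        rw [show f x = M.g (M.j x) from (app_eq M.fac x).symm]
        exact app_comm (Groth.L19.Limit.toStage_fst h k) (M.j x)
      exact (congrArg PrimeSpectrum.asIdeal e).le h1
    obtain ⟨t, rfl⟩ : x ∈ Set.range fst₀ := by
      show x ∈ Set.range (pullback.fst f (ι I))
      rw [Scheme.Pullback.range_fst]
      show f x ∈ Set.range (ι I)
      rw [range_ι]; exact hxI
    have hz := (hs k₀ (𝟙 k₀)).2
    simp only [CategoryTheory.Functor.map_id, Set.mem_compl_iff, Set.mem_union, Set.mem_preimage,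
      Set.mem_inter_iff] at hz
    have m₁ : j₀ t ∈ U₁ ↔ cE.π.app k₀ (M.j (fst₀ t)) ∈ A₁' :=
      (Set.ext_iff.mp hA₁ (j₀ t)).symm
    have m₂ : j₀ t ∈ U₂ ↔ cE.π.app k₀ (M.j (fst₀ t)) ∈ A₂ :=
      (Set.ext_iff.mp hA₂ (j₀ t)).symm
    rcases hz with hz | ⟨hz1, hz2⟩
    · by_cases htV : t ∈ V
      · exact hz (Or.inl (m₁.mp (hZU₁ ⟨t, htV, rfl⟩)))
      · exact hz (Or.inr (m₂.mp (hZU₂ ⟨t, htV, rfl⟩)))
    · by_cases htV : t ∈ V
      · exact hU₂ (m₂.mpr hz2) ⟨t, htV, rfl⟩
      · exact hU₁ (m₁.mpr hz1) ⟨t, htV, rfl⟩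
  obtain ⟨k, φ, hk⟩ := key
  haveI : Algebra.FiniteType ℤ k.left.unop.1 := k.left.unop.1.fg_iff_finiteType.mp k.left.unop.2
  haveI : IsNoetherianRing k.left.unop.1 := Algebra.FiniteType.isNoetherianRing ℤ k.left.unop.1
  let fk : E.obj k ⟶ Spec (CommRingCat.of k.left.unop.1) := p k
  haveI : IsProper fk := hfk k
  have hcomm : (M.j ≫ π k) ≫ fk = f ≫ Spec.map (CommRingCat.ofHom (algebraMap k.left.unop.1 A)) := by
    refine (Category.assoc _ _ _).trans ?_
    refine (congrArg (M.j ≫ ·) (Groth.L19.Limit.toStage_fst h k)).trans ?_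
    exact ((Category.assoc _ _ _).symm.trans (congrArg (· ≫ _) M.fac))
  refine exists_clopen_of_stage I f V k.left.unop.1 (algebraMap k.left.unop.1 A) fk (M.j ≫ π k) hcomm
    (closure (Set.range fun x : X => π k (M.j x))) isClosed_closure
    (fun x => subset_closure ⟨x, (Scheme.Hom.comp_apply _ _ _).symm⟩)
    (E.map φ ⁻¹ᵁ A₁') (E.map φ ⁻¹ᵁ A₂) (fun y hy hyI => ?_) (fun t => ?_)
  · have := Set.eq_empty_iff_forall_notMem.mp hk y
    simp only [Z, S, Set.mem_inter_iff, Set.mem_union, Set.mem_compl_iff, Set.mem_preimage] at this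
    show E.map φ y ∈ A₁' ↔ E.map φ y ∉ A₂
    constructor
    · exact fun h1 h2 => this ⟨⟨hy, hyI⟩, Or.inr ⟨h1, h2⟩⟩
    · exact fun h2 => by_contra fun h1 => this ⟨⟨hy, hyI⟩, Or.inl fun hh => hh.elim h1 h2⟩
  · show E.map φ ((M.j ≫ π k) (fst₀ t)) ∈ A₁' ↔ t ∈ V
    rw [Scheme.Hom.comp_apply, ← Scheme.Hom.comp_apply (π k), show π k ≫ E.map φ = π k₀ from cE.w φ]
    refine (Set.ext_iff.mp hA₁ (j₀ t)).trans ⟨fun h1 => by_contra fun htV => hU₁ h1 ⟨t, htV, rfl⟩,
      fun htV => hZU₁ ⟨t, htV, rfl⟩⟩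

/-- Clopens of a scheme proper over a henselian pair are those of its special fibre. -/
theorem clopen_lift_general {A : Type u} [CommRing A] (I : Ideal A) [HenselianRing A I]
    {X : Scheme.{u}} (f : X ⟶ Spec (CommRingCat.of A)) [IsProper f]
    (V : Set ↥(pullback f (ι I))) (hV : IsClopen V) :
    ∃! U : Set X, IsClopen U ∧ pullback.fst f (ι I) ⁻¹' U = V := by
  obtain ⟨U, hU, hUV⟩ := exists_clopen_general I f V hV
  refine ⟨U, ⟨hU, hUV⟩, fun U' ⟨hU', hU'V⟩ => ?_⟩
  have hp : f ≫ Spec.map (CommRingCat.ofHom (RingHom.id A)) = f := by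
    rw [CommRingCat.ofHom_id, Spec.map_id]; exact Category.comp_id f
  have key : ∀ {U₁ U₂ : Set X}, IsClopen U₁ → IsClopen U₂ →
      pullback.fst f (ι I) ⁻¹' U₁ = pullback.fst f (ι I) ⁻¹' U₂ → U₁ \ U₂ = ∅ := by
    intro U₁ U₂ h₁ h₂ he
    refine closed_eq_empty I I (RingHom.id A) f f hp (Ideal.map_id I).le (h₁.diff h₂).isClosed
      (Set.disjoint_left.mpr ?_)
    rintro _ ⟨t, rfl⟩ ⟨ht₁, ht₂⟩
    exact ht₂ ((Set.ext_iff.mp he t).mp ht₁)
  exact Set.Subset.antisymm (Set.sdiff_eq_empty.mp (key hU' hU (hU'V.trans hUV.symm)))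
    (Set.sdiff_eq_empty.mp (key hU hU' (hUV.trans hU'V.symm)))

end Groth.L27.HenselProper

namespace Groth.L27.HenselProper

/-- Bijection on connected components from lifting of clopens. -/
theorem bijective_connectedComponentsMap {T X : Type*} [TopologicalSpace T] [TopologicalSpace X]
    (i : T → X) (hi : Continuous i) (hT : ∀ t : T, IsClopen (connectedComponent t))
    (hlift : ∀ V : Set T, IsClopen V → ∃ U : Set X, IsClopen U ∧ i ⁻¹' U = V)
    (hemp : ∀ Z : Set X, IsClosed Z → Disjoint (Set.range i) Z → Z = ∅) :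
    Function.Bijective (Continuous.connectedComponentsMap hi) := by
  constructor
  · intro a b hab
    obtain ⟨y, rfl⟩ := ConnectedComponents.surjective_coe a
    obtain ⟨y', rfl⟩ := ConnectedComponents.surjective_coe b
    obtain ⟨U, hU, hUV⟩ := hlift _ (hT y)
    rw [ConnectedComponents.coe_eq_coe']
    have h2 : connectedComponent (i y) = connectedComponent (i y') := ConnectedComponents.coe_eq_coe.mp hab
    have h3 : i y' ∈ U :=
      hU.connectedComponent_subset (hUV.ge mem_connectedComponent) (h2 ▸ mem_connectedComponent)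
    exact connectedComponent_eq (hUV.le h3) ▸ mem_connectedComponent
  · intro c
    obtain ⟨x, rfl⟩ := ConnectedComponents.surjective_coe c
    by_contra hne
    have hd : Disjoint (Set.range i) (connectedComponent x) := Set.disjoint_left.mpr fun _ ⟨t, ht⟩ hx =>
      hne ⟨(t : ConnectedComponents T),
        ConnectedComponents.coe_eq_coe.mpr (connectedComponent_eq (ht ▸ hx)).symm⟩
    exact ((hemp _ isClosed_connectedComponent hd).le mem_connectedComponent : x ∈ (∅ : Set X))

theorem closed_eq_empty_general {A : Type u} [CommRing A] (I : Ideal A) [HenselianRing A I]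
    {X : Scheme.{u}} (f : X ⟶ Spec (CommRingCat.of A)) [IsProper f]
    {Z : Set X} (hZ : IsClosed Z) (hd : Disjoint (Set.range (pullback.fst f (ι I))) Z) : Z = ∅ :=
  closed_eq_empty I I (RingHom.id A) f f
    (by rw [CommRingCat.ofHom_id, Spec.map_id]; exact Category.comp_id f) (Ideal.map_id I).le hZ hd

/-- The version with a finite scheme over the proper one. -/
theorem clopen_lift_along_general {A : Type u} [CommRing A] (I : Ideal A) [HenselianRing A I]
    {X : Scheme.{u}} (f : X ⟶ Spec (CommRingCat.of A)) [IsProper f]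
    (Y : Scheme.{u}) (g : Y ⟶ X) (hg : IsFinite g)
    (V : Set ↥(pullback g (pullback.fst f (ι I)))) (hV : IsClopen V) :
    ∃! U : Set ↥Y, IsClopen U ∧ (pullback.fst g (pullback.fst f (ι I))).base ⁻¹' U = V := by
  haveI := hg
  let φ' := pullbackRightPullbackFstIso f (ι I) g
  have h := clopen_lift_general I (g ≫ f) (φ'.inv ⁻¹' V) (hV.preimage φ'.inv.continuous)
  have key : ∀ U : Set Y, pullback.fst (g ≫ f) (ι I) ⁻¹' U = φ'.inv ⁻¹' V ↔
      (pullback.fst g (pullback.fst f (ι I))).base ⁻¹' U = V := by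
    intro U
    have hs : Function.Surjective φ'.inv := φ'.inv.surjective
    have he : pullback.fst (g ≫ f) (ι I) = φ'.inv ≫ pullback.fst g (pullback.fst f (ι I)) :=
      (Iso.eq_inv_comp _).mpr (pullbackRightPullbackFstIso_hom_fst _ _ _)
    rw [he, Scheme.Hom.comp_base, TopCat.coe_comp, Set.preimage_comp]
    exact (Set.preimage_eq_preimage hs)
  simpa only [key] using h

end Groth.L27.HenselProper
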