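import Groth.Agent.L27.Olivier
import Mathlib.RingTheory.Flat.FaithfullyFlat.Algebra

/-! Olivier's theorem. -/

set_option autoImplicit false
set_option linter.style.haveILetI false
universe u

open TensorProduct

namespace Groth.L27.Olivier

theorem isLocalRing_integralClosure (A K : Type u) [CommRing A] [HenselianLocalRing A] [Field K]
    [Algebra A K] : IsLocalRing (integralClosure A K) := by
  refine IsLocalRing.of_isUnit_or_isUnit_one_sub_self fun x => ?_
  let S := Algebra.adjoin A {(x : K)}
  haveI : Module.Finite A S := Module.Finite.iff_fg.mpr x.2.fg_adjoin_singleton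
  obtain ⟨ι, _, e, he, hloc⟩ := Groth.L05.exists_idem_local_of_finite (A := A) S
  obtain ⟨i, hi⟩ : ∃ i, e i = 1 := by
    by_contra hno
    push Not at hno
    refine one_ne_zero (α := S) (he.complete.symm.trans (Finset.sum_eq_zero fun i _ => ?_))
    exact (IsIdempotentElem.iff_eq_zero_or_one.mp (he.idem i)).resolve_right (hno i)
  haveI := hloc i
  haveI : IsLocalRing S := by
    have hbot : Ideal.span ({1 - e i} : Set S) = ⊥ := by rw [hi, sub_self]; simp
    exact ((Ideal.quotEquivOfEq hbot).trans (RingEquiv.quotientBot S)).isLocalRing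
  have hle : S ≤ integralClosure A K := Algebra.adjoin_le fun y hy => by rw [Set.mem_singleton_iff] at hy; exact hy ▸ x.2
  rcases IsLocalRing.isUnit_or_isUnit_one_sub_self (⟨x, Algebra.self_mem_adjoin_singleton A (x : K)⟩ : S) with h | h
  · exact Or.inl (h.map (Subalgebra.inclusion hle))
  · refine Or.inr ?_
    have := h.map (Subalgebra.inclusion hle)
    rwa [map_sub, map_one] at this

theorem isLocalRing_tensor (A B P : Type u) [CommRing A] [CommRing B] [CommRing P] [IsLocalRing A]
    [IsLocalRing B] [IsLocalRing P] [Algebra A B] [IsLocalHom (algebraMap A B)] [Algebra A P]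
    [Algebra.IsIntegral A P] [Nontrivial (B ⊗[A] P)]
    (hB : ∀ b : B, ∃ a, b - algebraMap A B a ∈ IsLocalRing.maximalIdeal B) : IsLocalRing (B ⊗[A] P) := by
  have hB' : ∀ n : Ideal (B ⊗[A] P), n.IsMaximal → n.comap (algebraMap B (B ⊗[A] P)) =
      IsLocalRing.maximalIdeal B := fun n hn =>
    IsLocalRing.eq_maximalIdeal (Ideal.isMaximal_comap_of_isIntegral_of_isMaximal n)
  have hP : ∀ n : Ideal (B ⊗[A] P), n.IsMaximal → n.comap
      (Algebra.TensorProduct.includeRight : P →ₐ[A] B ⊗[A] P) = IsLocalRing.maximalIdeal P := by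
    intro n hn
    haveI := hn.isPrime
    refine IsLocalRing.eq_maximalIdeal (Ideal.isMaximal_of_isIntegral_of_isMaximal_comap (R := A) _ ?_)
    have : (n.comap (Algebra.TensorProduct.includeRight : P →ₐ[A] B ⊗[A] P)).comap (algebraMap A P) =
        (n.comap (algebraMap B (B ⊗[A] P))).comap (algebraMap A B) := by
      ext a
      simp only [Ideal.mem_comap, AlgHom.commutes, ← IsScalarTower.algebraMap_apply]
    rw [this, hB' n hn, IsLocalRing.maximalIdeal_comap]
    exact IsLocalRing.maximalIdeal.isMaximal A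
  have key : ∀ t : B ⊗[A] P, ∃ c : P, ∀ n : Ideal (B ⊗[A] P), n.IsMaximal →
      t - (1 : B) ⊗ₜ c ∈ n := by
    intro t
    induction t using TensorProduct.induction_on with
    | zero => exact ⟨0, fun n _ => by simp⟩
    | add p q hp hq =>
      obtain ⟨c, hc⟩ := hp
      obtain ⟨d, hd⟩ := hq
      refine ⟨c + d, fun n hn => ?_⟩
      rw [TensorProduct.tmul_add, add_sub_add_comm]
      exact add_mem (hc n hn) (hd n hn)
    | tmul b c =>
      obtain ⟨a, ha⟩ := hB b
      refine ⟨a • c, fun n hn => ?_⟩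
      have : b ⊗ₜ[A] c - (1 : B) ⊗ₜ (a • c) =
          algebraMap B (B ⊗[A] P) (b - algebraMap A B a) * ((1 : B) ⊗ₜ c) := by
        rw [← TensorProduct.smul_tmul, ← TensorProduct.sub_tmul, Algebra.TensorProduct.algebraMap_apply,
          Algebra.TensorProduct.tmul_mul_tmul, ← Algebra.algebraMap_eq_smul_one]
        simp
      rw [this]
      exact Ideal.mul_mem_right _ _ ((SetLike.ext_iff.mp (hB' n hn) _).mpr ha)
  have hsub : ∀ n n' : Ideal (B ⊗[A] P), n.IsMaximal → n'.IsMaximal → n ≤ n' := by
    intro n n' hn hn' t ht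
    obtain ⟨c, hc⟩ := key t
    have h1 : (1 : B) ⊗ₜ[A] c ∈ n := by simpa using sub_mem ht (hc n hn)
    have h2 : (1 : B) ⊗ₜ[A] c ∈ n' :=
      (SetLike.ext_iff.mp (hP n' hn') c).mpr ((SetLike.ext_iff.mp (hP n hn) c).mp h1)
    simpa using add_mem (hc n' hn') h2
  obtain ⟨n, hn⟩ := Ideal.exists_maximal (B ⊗[A] P)
  exact IsLocalRing.of_unique_max_ideal ⟨n, hn, fun n' hn' =>
    le_antisymm (hsub n' n hn' hn) (hsub n n' hn hn')⟩

theorem algHom_field_unique (A B K : Type u) [CommRing A] [HenselianLocalRing A] [CommRing B]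
    [IsLocalRing B] [IsSepClosed (IsLocalRing.ResidueField A)] [Algebra A B]
    [IsLocalHom (algebraMap A B)] [Algebra.WeaklyEtale A B] [Field K] [IsAlgClosed K] [Algebra A K]
    (f g : B →ₐ[A] K) : f = g := by
  refine AlgHom.ext fun b => by_contra fun hne => ?_
  let x : K ⊗[A] B := (1 : K) ⊗ₜ b - f b ⊗ₜ (1 : B)
  obtain ⟨y, hy⟩ := exists_sq_mul (fun M _ _ => forall_flat K (K ⊗[A] B) M) x
  have he : IsIdempotentElem (x * y) := by
    change x * y * (x * y) = x * y
    linear_combination y * hy
  let F : K ⊗[A] B →ₐ[A] K := Algebra.TensorProduct.lift (AlgHom.id A K) f fun _ _ => Commute.all _ _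
  let G : K ⊗[A] B →ₐ[A] K := Algebra.TensorProduct.lift (AlgHom.id A K) g fun _ _ => Commute.all _ _
  have hF : F (x * y) = 0 := by simp [F, x]
  have hG : G (x * y) ≠ 0 := by
    intro h0
    have hx : G x = g b - f b := by simp [G, x]
    have := congrArg G hy
    rw [mul_assoc, map_mul, h0, mul_zero, hx] at this
    exact hne (sub_eq_zero.mp this.symm).symm
  let P := integralClosure A K
  haveI := isLocalRing_integralClosure A K
  haveI : Module.Flat A B := inferInstance
  let ι : P ⊗[A] B →ₐ[A] K ⊗[A] B :=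
    Algebra.TensorProduct.map (IsScalarTower.toAlgHom A P K) (AlgHom.id A B)
  obtain ⟨w, hw'⟩ : ∃ w : P ⊗[A] B, ι w = x * y := by
    obtain ⟨w₀, hw₀⟩ := idempotent_mem_integralClosure A K B (x * y) he
    exact ⟨w₀, hw₀⟩
  have hinj : Function.Injective ι := map_injective A P K B Subtype.val_injective
  haveI : Nontrivial (B ⊗[A] P) :=
    RingHom.domain_nontrivial ((F.comp ι).comp (Algebra.TensorProduct.comm A B P).toAlgHom).toRingHom
  haveI := isLocalRing_tensor A B P (exists_sub_mem A B)
  haveI : IsLocalRing (P ⊗[A] B) := (Algebra.TensorProduct.comm A B P).toRingEquiv.isLocalRing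
  have hwi : IsIdempotentElem w := hinj (by rw [map_mul, hw']; exact he)
  rcases IsLocalRing.isUnit_or_isUnit_one_sub_self w with h | h
  · have : w = 1 := h.mul_left_cancel (hwi.eq.trans (mul_one w).symm)
    rw [this, map_one] at hw'
    rw [← hw', map_one] at hF
    exact one_ne_zero hF
  · have : w = 0 := h.mul_left_eq_zero.mp (by rw [mul_sub, mul_one, hwi.eq, sub_self])
    rw [this, map_zero] at hw'
    exact hG (by rw [← hw', map_zero])

theorem bijective_algebraMap (A B : Type u) [CommRing A] [CommRing B] [HenselianLocalRing A]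
    [IsLocalRing B] [IsSepClosed (IsLocalRing.ResidueField A)] [Algebra A B]
    [IsLocalHom (algebraMap A B)] [Algebra.WeaklyEtale A B] : Function.Bijective (algebraMap A B) := by
  haveI : Module.FaithfullyFlat A B := Module.FaithfullyFlat.of_flat_of_isLocalHom
  refine ⟨FaithfulSMul.algebraMap_injective A B, fun b => ?_⟩
  have hb : b ⊗ₜ[A] (1 : B) = (1 : B) ⊗ₜ[A] b := by
    obtain ⟨e, he, hze⟩ := Groth.L20.exists_lmul_eq_one_mul_eq_zero
      (Algebra.WeaklyEtale.flat_lmul' A B)
      (fun _ : Fin 1 => b ⊗ₜ[A] (1 : B) - (1 : B) ⊗ₜ[A] b) (fun _ => by simp)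
    suffices hu : IsUnit e by exact sub_eq_zero.mp (hu.mul_left_eq_zero.mp (hze 0))
    by_contra hu
    obtain ⟨n, hn, hen⟩ := exists_max_ideal_of_mem_nonunits hu
    letI := Ideal.Quotient.field n
    let K := AlgebraicClosure ((B ⊗[A] B) ⧸ n)
    let h : B ⊗[A] B →ₐ[A] K := (IsScalarTower.toAlgHom A ((B ⊗[A] B) ⧸ n) K).comp (Ideal.Quotient.mkₐ A n)
    have hfg := algHom_field_unique A B K (h.comp Algebra.TensorProduct.includeLeft)
      (h.comp Algebra.TensorProduct.includeRight)
    have hh : h = (h.comp Algebra.TensorProduct.includeLeft).comp (Algebra.TensorProduct.lmul' A) := by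
      refine Algebra.TensorProduct.ext (AlgHom.ext fun x => ?_) (AlgHom.ext fun x => ?_)
      · simp
      · have := AlgHom.congr_fun hfg x
        simp only [AlgHom.comp_apply, Algebra.TensorProduct.includeLeft_apply,
          Algebra.TensorProduct.includeRight_apply] at this
        simp [this]
    have h1 := AlgHom.congr_fun hh e
    rw [AlgHom.comp_apply _ (Algebra.TensorProduct.lmul' A), he, map_one] at h1
    refine one_ne_zero (α := K) (h1.symm.trans ?_)
    change algebraMap _ K (Ideal.Quotient.mk n e) = 0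
    rw [Ideal.Quotient.eq_zero_iff_mem.mpr hen, map_zero]
  let R : Submodule A B := LinearMap.range (Algebra.linearMap A B)
  have hQ : R.mkQ b = 0 := by
    apply Module.FaithfullyFlat.tensorProduct_mk_injective (A := A) (B := B) (B ⧸ R)
    have := congrArg (R.mkQ.lTensor B) hb
    simp only [LinearMap.lTensor_tmul] at this
    rw [TensorProduct.mk_apply, TensorProduct.mk_apply, ← this, TensorProduct.tmul_zero,
      show R.mkQ (1 : B) = 0 from (Submodule.Quotient.mk_eq_zero R).mpr ⟨1, map_one (algebraMap A B)⟩,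
      TensorProduct.tmul_zero]
  obtain ⟨a, ha⟩ := (Submodule.Quotient.mk_eq_zero R).mp hQ
  exact ⟨a, ha⟩

end Groth.L27.Olivier
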