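import Mathlib.Algebra.BigOperators.Fin
import Mathlib.Algebra.CharP.Defs
import Mathlib.Algebra.DualNumber
import Mathlib.Algebra.Polynomial.Div
import Mathlib.Algebra.Polynomial.Laurent
import Mathlib.LinearAlgebra.TensorProduct.RightExactness
import Mathlib.RingTheory.Etale.StandardEtale
import Mathlib.RingTheory.Flat.FaithfullyFlat.Basic
import Mathlib.RingTheory.Flat.Tensor
import Mathlib.RingTheory.Ideal.Height
import Mathlib.RingTheory.Ideal.KrullsHeightTheorem
import Mathlib.RingTheory.Spectrum.Prime.RingHom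
import Mathlib.RingTheory.Spectrum.Prime.Topology
import Mathlib.RingTheory.Localization.Away.Basic
import Mathlib.RingTheory.Nilpotent.Defs

/-! Miscellaneous commutative algebra. -/

set_option autoImplicit false
set_option linter.unusedSectionVars false
universe u v
open TensorProduct

namespace Groth.L27.AlgebraMisc

section cover

variable {R R' : Type u} [CommRing R] [CommRing R'] [Algebra R R']

theorem comap_jointly_surjective (f : R)
    (hq : Function.Bijective (Ideal.quotientMap (Ideal.map (algebraMap R R') (Ideal.span {f}))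
      (algebraMap R R') Ideal.le_comap_map)) (p : PrimeSpectrum R) :
    (∃ q : PrimeSpectrum R', PrimeSpectrum.comap (algebraMap R R') q = p) ∨
      ∃ q : PrimeSpectrum (Localization.Away f),
        PrimeSpectrum.comap (algebraMap R (Localization.Away f)) q = p := by
  by_cases hf : f ∈ p.asIdeal
  · left
    let e := RingEquiv.ofBijective _ hq
    have hI : Ideal.span {f} ≤ p.asIdeal := (Ideal.span_singleton_le_iff_mem _).mpr hf
    let g : R' →+* R ⧸ p.asIdeal :=
      (Ideal.Quotient.factor hI).comp (e.symm.toRingHom.comp (Ideal.Quotient.mk _))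
    refine ⟨⟨RingHom.ker g, RingHom.ker_isPrime g⟩, PrimeSpectrum.ext ?_⟩
    change (RingHom.ker g).comap (algebraMap R R') = p.asIdeal
    ext r
    rw [Ideal.mem_comap, RingHom.mem_ker]
    have : g (algebraMap R R' r) = Ideal.Quotient.mk p.asIdeal r := by
      have h1 : e.symm (Ideal.Quotient.mk _ (algebraMap R R' r)) = Ideal.Quotient.mk (Ideal.span {f}) r :=
        e.symm_apply_eq.mpr (Ideal.quotientMap_mk (H := Ideal.le_comap_map) (x := r)).symm
      change Ideal.Quotient.factor hI (e.symm (Ideal.Quotient.mk _ (algebraMap R R' r))) = _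
      rw [h1]; rfl
    rw [this, Ideal.Quotient.eq_zero_iff_mem]
  · right
    have : p ∈ Set.range (PrimeSpectrum.comap (algebraMap R (Localization.Away f))) := by
      rw [PrimeSpectrum.localization_away_comap_range (Localization.Away f) f]
      exact hf
    exact this

end cover

theorem exists_prime_height_one (A : Type u) [CommRing A] [IsNoetherianRing A] [IsLocalRing A]
    (h : (1 : WithBot ℕ∞) ≤ ringKrullDim A) (f : A) (hf : f ∈ IsLocalRing.maximalIdeal A) :
    ∃ p : Ideal A, p.IsPrime ∧ f ∈ p ∧ p.height = 1 := by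
  rw [← IsLocalRing.maximalIdeal_height_eq_ringKrullDim] at h
  replace h : (1 : ℕ∞) ≤ (IsLocalRing.maximalIdeal A).height := WithBot.coe_le_coe.mp h
  let 𝒮 : Set (Ideal A) := {q | q.IsPrime ∧ f ∈ q ∧ 1 ≤ q.height}
  obtain ⟨p, ⟨hp, hfp, hp1⟩, hmin⟩ := exists_minimal_of_wellFoundedLT
    (fun n : ℕ∞ => ∃ q ∈ 𝒮, q.height = n) ⟨_, IsLocalRing.maximalIdeal A, ⟨inferInstance, hf, h⟩, rfl⟩
    |>.elim (fun n hn => (⟨hn.1.choose, hn.1.choose_spec.1, fun q hq hlt =>
      not_lt_of_ge (hn.2 (y := q.height) ⟨q, hq, rfl⟩ (hn.1.choose_spec.2 ▸ hlt.le)) (hn.1.choose_spec.2 ▸ hlt)⟩ :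
      ∃ p, p ∈ 𝒮 ∧ ∀ q ∈ 𝒮, ¬ q.height < p.height))
  refine ⟨p, hp, hfp, le_antisymm ?_ hp1⟩
  by_contra hlt
  rw [not_le] at hlt
  -- a prime of height at least one below `p`, and a minimal prime below that
  obtain ⟨q, hq, hqp, hq1⟩ : ∃ q : Ideal A, q.IsPrime ∧ q < p ∧ 1 ≤ q.height := by
    by_contra! hn
    have hle : p.height ≤ 1 := (Ideal.height_le_iff (p := p) (n := 1)).mpr fun q hq hqp => hn q hq hqp
    exact absurd hle (not_le.mpr hlt)
  obtain ⟨q0, hq0, hq0q⟩ := Ideal.exists_minimalPrimes_le (I := (⊥ : Ideal A)) (J := q) bot_le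
  have hq0' : q0.IsPrime := hq0.1.1
  have hfq : f ∉ q := fun hfq => hmin q ⟨hq, hfq, hq1⟩ (Ideal.height_strict_mono_of_isPrime hqp)
  obtain ⟨r, hr, hrp⟩ := Ideal.exists_minimalPrimes_le
    (I := q0 ⊔ Ideal.span {f}) (J := p) (sup_le (hq0q.trans hqp.le) ((Ideal.span_singleton_le_iff_mem _).mpr hfp))
  have hrprime : r.IsPrime := hr.1.1
  have hfr : f ∈ r := hr.1.2 (Ideal.mem_sup_right (Ideal.mem_span_singleton_self f))
  have hr1 : 1 ≤ r.height := by
    have hlt0 : q0 < r := lt_of_le_of_ne (le_sup_left.trans hr.1.2) fun he => hfq (hq0q (he ▸ hfr))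
    have h1 := Ideal.height_add_one_le_of_lt_of_isPrime hlt0
    exact le_trans le_add_self h1
  rcases hrp.lt_or_eq with hlt' | rfl
  · exact hmin r ⟨hrprime, hfr, hr1⟩ (Ideal.height_strict_mono_of_isPrime hlt')
  · have hle : ∀ x : Ideal A, q0 ≤ x → Ideal.map (Ideal.Quotient.mk q0) x ≠ ⊤ → True := fun _ _ _ => trivial
    have hq' : (q.map (Ideal.Quotient.mk q0)).IsPrime :=
      Ideal.map_isPrime_of_surjective Ideal.Quotient.mk_surjective (by rwa [Ideal.mk_ker])
    have hp' : (r.map (Ideal.Quotient.mk q0)).IsPrime :=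
      Ideal.map_isPrime_of_surjective Ideal.Quotient.mk_surjective (by rw [Ideal.mk_ker]; exact hq0q.trans hqp.le)
    have hcomap : ∀ x : Ideal A, q0 ≤ x → (x.map (Ideal.Quotient.mk q0)).comap (Ideal.Quotient.mk q0) = x :=
      fun x hx => by rw [Ideal.comap_map_of_surjective _ Ideal.Quotient.mk_surjective, ← RingHom.ker_eq_comap_bot,
        Ideal.mk_ker, sup_eq_left.mpr hx]
    have hmin' : r.map (Ideal.Quotient.mk q0) ∈
        (Ideal.span {Ideal.Quotient.mk q0 f}).minimalPrimes := by
      refine ⟨⟨hp', (Ideal.span_singleton_le_iff_mem _).mpr (Ideal.mem_map_of_mem _ hfr)⟩, fun Q ⟨hQ, hQf⟩ hQle => ?_⟩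
      have hQ' : r ≤ Q.comap (Ideal.Quotient.mk q0) := hr.2 ⟨hQ.comap _, sup_le
        (fun a ha => by simp [Ideal.mem_comap, Ideal.Quotient.eq_zero_iff_mem.mpr ha])
        ((Ideal.span_singleton_le_iff_mem _).mpr (hQf (Ideal.mem_span_singleton_self _)))⟩
        ((Ideal.comap_mono hQle).trans (hcomap r (hq0q.trans hqp.le)).le)
      exact (Ideal.map_mono hQ').trans Ideal.map_comap_le
    have hbound := Ideal.height_le_one_of_isPrincipal_of_mem_minimalPrimes _ _ hmin'
    have hlt1 : q.map (Ideal.Quotient.mk q0) < r.map (Ideal.Quotient.mk q0) :=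
      lt_of_le_of_ne (Ideal.map_mono hqp.le) fun he => hqp.ne (by
        rw [← hcomap q hq0q, he, hcomap r (hq0q.trans hqp.le)])
    have hlt2 : (⊥ : Ideal (A ⧸ q0)) < q.map (Ideal.Quotient.mk q0) := by
      rw [bot_lt_iff_ne_bot]
      intro he
      have hqq0 : q = q0 := by
        rw [← hcomap q hq0q, he, ← RingHom.ker_eq_comap_bot, Ideal.mk_ker]
      rw [hqq0, Ideal.height_eq_zero_iff.mpr hq0] at hq1
      exact absurd hq1 (by simp)
    have h2 := Ideal.height_add_one_le_of_lt_of_isPrime hlt2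
    have h3 := Ideal.height_add_one_le_of_lt_of_isPrime hlt1
    have h4 : (2 : ℕ∞) ≤ 1 := by
      calc (2 : ℕ∞) = 0 + 1 + 1 := by norm_num
        _ ≤ (⊥ : Ideal (A ⧸ q0)).height + 1 + 1 := by gcongr; exact bot_le
        _ ≤ (q.map (Ideal.Quotient.mk q0)).height + 1 := by gcongr
        _ ≤ _ := h3.trans hbound
    exact absurd h4 (by norm_num)

section roots
open Polynomial

theorem rootsOfUnity_etale_iff (A : Type u) [CommRing A] (n : ℕ) (hn : 1 ≤ n) :
    Algebra.Etale A (AdjoinRoot ((X : A[X]) ^ n - 1)) ↔ IsUnit ((n : ℕ) : A) := by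
  constructor
  · intro h
    let I : Ideal A := Ideal.span {(n : A)}
    let B := TrivSqZeroExt (A ⧸ I) (A ⧸ I)
    let J : Ideal B := RingHom.ker (TrivSqZeroExt.fstHom A (A ⧸ I) (A ⧸ I))
    have hJ : J ^ 2 = ⊥ := by
      rw [eq_bot_iff, pow_two, Ideal.mul_le]
      intro a ha b hb
      rw [RingHom.mem_ker] at ha hb
      change TrivSqZeroExt.fst a = 0 at ha
      change TrivSqZeroExt.fst b = 0 at hb
      rw [Ideal.mem_bot]
      exact TrivSqZeroExt.ext (by rw [TrivSqZeroExt.fst_mul, ha, zero_mul, TrivSqZeroExt.fst_zero])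
        (by rw [TrivSqZeroExt.snd_mul, ha, hb]; simp)
    have hroot : ∀ e : A ⧸ I, aeval (TrivSqZeroExt.inl (1 : A ⧸ I) + TrivSqZeroExt.inr e : B)
        ((X : A[X]) ^ n - 1) = 0 := by
      intro e
      have hn0 : ((n : ℕ) : A ⧸ I) = 0 := by
        rw [← map_natCast (Ideal.Quotient.mk I)]
        exact Ideal.Quotient.eq_zero_iff_mem.mpr (Ideal.mem_span_singleton_self _)
      have hne : n • e = 0 := by rw [nsmul_eq_mul, hn0, zero_mul]
      rw [map_sub, map_pow, aeval_X, map_one]
      refine TrivSqZeroExt.ext ?_ ?_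
      · rw [TrivSqZeroExt.fst_sub, TrivSqZeroExt.fst_pow, TrivSqZeroExt.fst_add, TrivSqZeroExt.fst_inl,
          TrivSqZeroExt.fst_inr, add_zero, one_pow, TrivSqZeroExt.fst_one, sub_self, TrivSqZeroExt.fst_zero]
      · rw [TrivSqZeroExt.snd_sub, TrivSqZeroExt.snd_pow, TrivSqZeroExt.fst_add, TrivSqZeroExt.snd_add,
          TrivSqZeroExt.fst_inl, TrivSqZeroExt.fst_inr, TrivSqZeroExt.snd_inl, TrivSqZeroExt.snd_inr,
          add_zero, one_pow, zero_add, one_smul, hne, TrivSqZeroExt.snd_one, sub_zero, TrivSqZeroExt.snd_zero]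
    let z : A ⧸ I → B := fun e => TrivSqZeroExt.inl 1 + TrivSqZeroExt.inr e
    let g : A ⧸ I → (AdjoinRoot ((X : A[X]) ^ n - 1) →ₐ[A] B) := fun e =>
      AdjoinRoot.liftAlgHom _ (Algebra.ofId A B) (z e) (hroot e)
    have hg : ∀ e, g e (AdjoinRoot.root _) = z e := fun e => AdjoinRoot.liftAlgHom_root _ _ _ _
    have heq : g 0 = g 1 := Algebra.FormallyUnramified.comp_injective J hJ <| by
      refine AdjoinRoot.algHom_ext ?_
      rw [AlgHom.comp_apply, AlgHom.comp_apply, hg, hg]
      rw [Ideal.Quotient.mkₐ_eq_mk, Ideal.Quotient.eq, RingHom.mem_ker]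
      change TrivSqZeroExt.fst _ = 0
      rw [TrivSqZeroExt.fst_sub, TrivSqZeroExt.fst_add, TrivSqZeroExt.fst_add, TrivSqZeroExt.fst_inr,
        TrivSqZeroExt.fst_inr, sub_self]
    have h1 : TrivSqZeroExt.snd (z 0) = TrivSqZeroExt.snd (z 1) := by rw [← hg 0, ← hg 1, heq]
    rw [TrivSqZeroExt.snd_add, TrivSqZeroExt.snd_add, TrivSqZeroExt.snd_inl, TrivSqZeroExt.snd_inr,
      TrivSqZeroExt.snd_inr, zero_add, zero_add] at h1
    have : I = ⊤ := (Ideal.Quotient.subsingleton_iff (I := I)).mp (subsingleton_of_zero_eq_one h1)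
    exact Ideal.span_singleton_eq_top.mp this
  · intro hu
    obtain ⟨w, hw⟩ := hu.exists_left_inv
    let P : StandardEtalePair A :=
      { f := X ^ n - 1
        monic_f := by simpa using monic_X_pow_sub_C (1 : A) (show n ≠ 0 by omega)
        g := 1
        cond := ⟨C w * X, -1, 0, by
          obtain ⟨m, rfl⟩ : ∃ m, n = m + 1 := ⟨n - 1, by omega⟩
          rw [derivative_sub, derivative_one, derivative_X_pow, pow_zero]
          simp only [Nat.add_sub_cancel, sub_zero]
          have hc : (C (((m + 1 : ℕ)) : A) : A[X]) * C w = 1 := by rw [← C_mul, mul_comm, hw, C_1]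
          linear_combination (X : A[X]) ^ (m + 1) * hc⟩ }
    have hg : IsUnit (AdjoinRoot.mk P.f P.g) := by simp [P]
    exact Algebra.Etale.of_equiv (P.equivAwayAdjoinRoot.trans
      ((IsLocalization.atUnits (AdjoinRoot P.f) (Submonoid.powers (AdjoinRoot.mk P.f P.g))
        (by rintro _ ⟨k, rfl⟩; exact hg.pow k)).symm.restrictScalars A))

theorem polynomial_free_artinSchreier (p : ℕ) [Fact p.Prime] (A : Type u) [CommRing A] (q : A[X]) :
    ∃! c : Fin p → A[X], q = ∑ i : Fin p, aeval (X - X ^ p : A[X]) (c i) * X ^ (i : ℕ) := by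
  nontriviality A
  set g : A[X] := X - X ^ p with hg
  have hp1 : 1 < p := (Fact.out : p.Prime).one_lt
  let m : A[X] := X ^ p - X
  have hm : m.Monic := monic_X_pow_sub (degree_X_le.trans_lt (by exact_mod_cast hp1))
  have hgm : g = -m := by simp [g, m]
  have hmd : m.natDegree = p := natDegree_eq_of_degree_eq_some (by
    rw [degree_sub_eq_left_of_degree_lt (by rw [degree_X, degree_X_pow]; exact_mod_cast hp1), degree_X_pow])
  have hex : ∀ d, ∀ q : A[X], q.natDegree ≤ d →
      ∃ c : Fin p → A[X], q = ∑ i : Fin p, aeval g (c i) * X ^ (i : ℕ) := by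
    intro d
    induction d using Nat.strong_induction_on with
    | h d ih =>
      intro q hq
      have hsmall : ∀ r : A[X], r.natDegree < p → r = ∑ i : Fin p, C (r.coeff i) * X ^ (i : ℕ) := by
        intro r hr
        conv_lhs => rw [as_sum_range_C_mul_X_pow' r hr]
        rw [Finset.sum_range]
      rcases lt_or_ge q.natDegree p with hlt | hge
      · exact ⟨fun i => C (q.coeff i), by simpa using hsmall q hlt⟩
      obtain ⟨c, hc⟩ := ih ((q /ₘ m).natDegree) (by rw [natDegree_divByMonic _ hm, hmd]; omega) _ le_rfl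
      refine ⟨fun i => C ((q %ₘ m).coeff i) - X * c i, ?_⟩
      conv_lhs => rw [← modByMonic_add_div q m, hsmall (q %ₘ m) (hmd ▸ natDegree_modByMonic_lt q hm
        (fun h => by rw [h, natDegree_one] at hmd; omega)), hc, Finset.mul_sum, ← Finset.sum_add_distrib]
      refine Finset.sum_congr rfl fun i _ => ?_
      rw [map_sub, map_mul, aeval_C, aeval_X, hgm]
      simp only [algebraMap_eq]
      ring
  obtain ⟨c, hc⟩ := hex _ q le_rfl
  refine ⟨c, hc, fun c' hc' => ?_⟩
  have huniq : ∀ d, ∀ e : Fin p → A[X], (∀ i, (e i).natDegree ≤ d) →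
      ∑ i : Fin p, aeval g (e i) * X ^ (i : ℕ) = 0 → e = 0 := by
    intro d
    induction d with
    | zero =>
      intro e he h0
      have he' : ∀ i, e i = C ((e i).coeff 0) := fun i => eq_C_of_natDegree_le_zero (he i)
      funext i
      have h1 := congrArg (fun r : A[X] => r.coeff i) h0
      simp only [finsetSum_coeff, coeff_zero] at h1
      rw [Finset.sum_eq_single i (fun j _ hji => ?_) (by simp)] at h1
      · rw [he' i, aeval_C, algebraMap_eq, coeff_C_mul, coeff_X_pow_self, mul_one] at h1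
        rw [he' i, h1, C_0]; rfl
      · rw [he' j, aeval_C, algebraMap_eq, coeff_C_mul, coeff_X_pow, if_neg (fun h => hji (Fin.ext h.symm)), mul_zero]
    | succ d ih =>
      intro e he h0
      have hdiv : ∀ i, e i = C ((e i).coeff 0) + X * (e i).divX := fun i => by
        rw [add_comm]; exact (X_mul_divX_add (e i)).symm
      have hsplit : ∑ i : Fin p, C ((e i).coeff 0) * X ^ (i : ℕ) +
          g * ∑ i : Fin p, aeval g (e i).divX * X ^ (i : ℕ) = 0 := by
        rw [Finset.mul_sum, ← Finset.sum_add_distrib, ← h0]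
        refine Finset.sum_congr rfl fun i _ => ?_
        conv_rhs => rw [hdiv i, map_add, map_mul, aeval_C, aeval_X, algebraMap_eq]
        ring
      have hdeg : (∑ i : Fin p, C ((e i).coeff 0) * X ^ (i : ℕ)).degree < (p : WithBot ℕ) := by
        refine lt_of_le_of_lt (degree_sum_le _ _) ((Finset.sup_lt_iff (WithBot.bot_lt_coe p)).mpr fun i _ => ?_)
        exact (degree_C_mul_X_pow_le _ _).trans_lt (WithBot.coe_lt_coe.mpr i.2)
      have hS0 : ∑ i : Fin p, aeval g (e i).divX * X ^ (i : ℕ) = 0 := by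
        by_contra hne
        rw [hgm, neg_mul, ← sub_eq_add_neg, sub_eq_zero] at hsplit
        rw [hgm] at hne
        rw [hsplit, mul_comm, hm.degree_mul, degree_eq_natDegree hm.ne_zero, hmd,
          degree_eq_natDegree hne] at hdeg
        rw [← Nat.cast_add] at hdeg
        have := Nat.cast_lt.mp hdeg
        omega
      have hd := ih (fun i => (e i).divX) (fun i => by
        have := natDegree_divX_eq_natDegree_tsub_one (p := e i)
        have := he i; omega) hS0
      refine ih e (fun i => ?_) h0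
      rw [hdiv i, show (e i).divX = 0 from congrFun hd i, mul_zero, add_zero, natDegree_C]
      exact Nat.zero_le _
  have h2 := huniq (Finset.univ.sup fun i => (c' i - c i).natDegree) (fun i => c' i - c i)
    (fun i => Finset.le_sup (f := fun i => (c' i - c i).natDegree) (Finset.mem_univ i)) (by
      simp only [map_sub, sub_mul, Finset.sum_sub_distrib]
      rw [← hc', ← hc, sub_self])
  funext i
  exact sub_eq_zero.mp (congrFun h2 i)

end roots

section laurent
open scoped LaurentPolynomial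

theorem laurent_pow_free (A : Type u) [CommRing A] (n : ℕ) (hn : 1 ≤ n) (q : A[T;T⁻¹]) :
    ∃! c : Fin n → A[T;T⁻¹], q = ∑ i : Fin n,
      (AddMonoidAlgebra.mapDomainRingHom A (AddMonoidHom.mulLeft (n : ℤ)) : A[T;T⁻¹] →+* A[T;T⁻¹]) (c i) *
        LaurentPolynomial.T (i : ℤ) := by
  classical
  let φ : A[T;T⁻¹] →+* A[T;T⁻¹] := AddMonoidAlgebra.mapDomainRingHom A (AddMonoidHom.mulLeft (n : ℤ))
  have hφ : ∀ (j : ℤ) (a : A) (i : ℤ), φ (AddMonoidAlgebra.single j a) * LaurentPolynomial.T i =
      AddMonoidAlgebra.single ((n : ℤ) * j + i) a := fun j a i => by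
    simp [φ, LaurentPolynomial.T, AddMonoidAlgebra.single_mul_single, -LaurentPolynomial.single_eq_C_mul_T]
  let Φ : (Fin n → A[T;T⁻¹]) →+ A[T;T⁻¹] :=
    AddMonoidHom.mk' (fun c => ∑ i : Fin n, φ (c i) * LaurentPolynomial.T (i : ℤ))
      (fun a b => by simp [add_mul, Finset.sum_add_distrib])
  have hcoeff : ∀ (x : A[T;T⁻¹]) (i i' : Fin n) (j : ℤ),
      (φ x * LaurentPolynomial.T (i : ℤ)).coeff ((n : ℤ) * j + (i' : ℕ)) = if i = i' then x.coeff j else 0 := by
    intro x i i' j
    induction x using AddMonoidAlgebra.induction_linear with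
    | zero => simp
    | add a b ha hb =>
      have hl : φ (a + b) * LaurentPolynomial.T (i : ℤ) =
          φ a * LaurentPolynomial.T (i : ℤ) + φ b * LaurentPolynomial.T (i : ℤ) := by rw [map_add, add_mul]
      rw [hl, AddMonoidAlgebra.coeff_add, Finsupp.add_apply, ha, hb, AddMonoidAlgebra.coeff_add,
        Finsupp.add_apply]
      split_ifs <;> simp
    | single j' a =>
      rw [hφ, AddMonoidAlgebra.coeff_single, AddMonoidAlgebra.coeff_single, Finsupp.single_apply, Finsupp.single_apply]
      have hiff : ((n : ℤ) * j' + (i : ℕ) = (n : ℤ) * j + (i' : ℕ)) ↔ i = i' ∧ j' = j := by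
        refine ⟨fun h => ?_, fun ⟨h1, h2⟩ => by rw [h1, h2]⟩
        have hn0 : (0 : ℤ) < n := by exact_mod_cast hn
        have h1 := congrArg (· % (n : ℤ)) h
        simp only [Int.mul_add_emod_self_left] at h1
        rw [Int.emod_eq_of_lt (by positivity) (by exact_mod_cast i.2),
          Int.emod_eq_of_lt (by positivity) (by exact_mod_cast i'.2)] at h1
        have h3 : i = i' := Fin.ext (by exact_mod_cast h1)
        subst h3
        exact ⟨rfl, mul_left_cancel₀ hn0.ne' (add_right_cancel h)⟩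
      simp only [hiff]
      split_ifs <;> first | rfl | (exfalso; tauto)
  have hsurj : Function.Surjective Φ := by
    intro q
    induction q using AddMonoidAlgebra.induction_linear with
    | zero => exact ⟨0, map_zero _⟩
    | add a b ha hb =>
      obtain ⟨x, rfl⟩ := ha
      obtain ⟨y, rfl⟩ := hb
      exact ⟨x + y, map_add _ _ _⟩
    | single k a =>
      have hn0 : (0 : ℤ) < n := by exact_mod_cast hn
      let i : Fin n := ⟨(k % (n : ℤ)).toNat, by have := Int.emod_lt_of_pos k hn0; omega⟩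
      refine ⟨Pi.single i (AddMonoidAlgebra.single (k / (n : ℤ)) a), ?_⟩
      change ∑ j : Fin n, _ = _
      rw [Finset.sum_eq_single i (fun j _ hji => by simp [Pi.single_eq_of_ne hji]) (by simp), Pi.single_eq_same, hφ]
      congr 1
      simp only [i]
      rw [Int.toNat_of_nonneg (Int.emod_nonneg k hn0.ne')]
      exact Int.mul_ediv_add_emod k n
  obtain ⟨c, hc⟩ := hsurj q
  refine ⟨c, hc.symm, fun c' hc' => funext fun i => AddMonoidAlgebra.ext (Finsupp.ext fun j => ?_)⟩
  have h := congrArg (fun x : A[T;T⁻¹] => x.coeff ((n : ℤ) * j + (i : ℕ))) ((hc'.symm.trans hc.symm) : Φ c' = Φ c)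
  change (∑ l : Fin n, φ (c' l) * LaurentPolynomial.T (l : ℤ)).coeff _ =
    (∑ l : Fin n, φ (c l) * LaurentPolynomial.T (l : ℤ)).coeff _ at h
  simp only [AddMonoidAlgebra.coeff_sum, Finsupp.finsetSum_apply, hcoeff, Finset.sum_ite_eq', Finset.mem_univ, if_true] at h
  exact h

end laurent

section flat

variable (A : Type u) [CommRing A] (I : Ideal A) (M : Type v) [AddCommGroup M] [Module A M]

theorem rTensor_injective_of_flat_quotient [Module.Flat (A ⧸ I) ((A ⧸ I) ⊗[A] M)] (Q Q' : Type u)
    [AddCommGroup Q] [Module A Q] [Module (A ⧸ I) Q] [IsScalarTower A (A ⧸ I) Q]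
    [AddCommGroup Q'] [Module A Q'] [Module (A ⧸ I) Q'] [IsScalarTower A (A ⧸ I) Q']
    (f : Q →ₗ[A ⧸ I] Q') (hf : Function.Injective f) :
    Function.Injective ((f.restrictScalars A).rTensor M) := by
  have h := Module.Flat.rTensor_preserves_injective_linearMap (M := (A ⧸ I) ⊗[A] M) f hf
  let e := AlgebraTensorModule.cancelBaseChange A (A ⧸ I) (A ⧸ I) Q M
  let e' := AlgebraTensorModule.cancelBaseChange A (A ⧸ I) (A ⧸ I) Q' M
  have hc : ∀ x, (f.restrictScalars A).rTensor M x = e' (f.rTensor _ (e.symm x)) := fun x => by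
    induction x with
    | zero => simp
    | tmul a m => simp [e, e']
    | add a b ha hb => simp [ha, hb]
  intro a b hab
  rw [hc, hc] at hab
  exact e.symm.injective (h (e'.injective hab))

theorem rTensor_smul_top_injective
    (hI : Function.Injective (LinearMap.rTensor M (Submodule.subtype I))) (F : Type u) [AddCommGroup F]
    [Module A F] [Module.Flat A F] :
    Function.Injective ((I • (⊤ : Submodule A F)).subtype.rTensor M) := by
  let μ : I ⊗[A] F →ₗ[A] ↥(I • (⊤ : Submodule A F)) := LinearMap.codRestrict _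
    ((TensorProduct.lid A F).toLinearMap ∘ₗ LinearMap.rTensor F (Submodule.subtype I)) fun x => by
      induction x with
      | zero => simp
      | tmul a v => simpa using Submodule.smul_mem_smul a.2 (Submodule.mem_top (x := v))
      | add a b ha hb => rw [map_add]; exact Submodule.add_mem _ ha hb
  have hμv : ∀ (a : I) (v : F), (μ (a ⊗ₜ v) : F) = (a : A) • v := fun a v => by simp [μ]
  have hμ : Function.Surjective μ := by
    rintro ⟨x, hx⟩
    obtain ⟨y, hy⟩ : ∃ y, (μ y : F) = x :=
      Submodule.smul_induction_on hx (fun r hr v _ => ⟨⟨r, hr⟩ ⊗ₜ v, hμv _ _⟩) fun a b ⟨y, hy⟩ ⟨z, hz⟩ =>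
        ⟨y + z, by rw [map_add, Submodule.coe_add, hy, hz]⟩
    exact ⟨y, Subtype.ext hy⟩
  let e₁ : (I ⊗[A] F) ⊗[A] M ≃ₗ[A] (I ⊗[A] M) ⊗[A] F :=
    TensorProduct.assoc A I F M ≪≫ₗ TensorProduct.congr (LinearEquiv.refl A I) (TensorProduct.comm A F M) ≪≫ₗ
      (TensorProduct.assoc A I M F).symm
  let e₂ : ((A ⊗[A] M) ⊗[A] F) ≃ₗ[A] F ⊗[A] M :=
    TensorProduct.congr (TensorProduct.lid A M) (LinearEquiv.refl A F) ≪≫ₗ TensorProduct.comm A M F
  have hinj := Module.Flat.rTensor_preserves_injective_linearMap (M := F)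
    (LinearMap.rTensor M (Submodule.subtype I)) hI
  have hc : ((Submodule.subtype _).comp μ).rTensor M = e₂.toLinearMap ∘ₗ
      (LinearMap.rTensor F (LinearMap.rTensor M (Submodule.subtype I))) ∘ₗ e₁.toLinearMap := by
    refine TensorProduct.ext_threefold fun a v m => ?_
    simp [e₁, e₂, hμv, TensorProduct.smul_tmul]
  have hcomp : Function.Injective (((Submodule.subtype _).comp μ).rTensor M) := by
    rw [hc]
    exact e₂.injective.comp (hinj.comp e₁.injective)
  rw [LinearMap.rTensor_comp] at hcomp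
  intro a b hab
  obtain ⟨a, rfl⟩ := LinearMap.rTensor_surjective M hμ a
  obtain ⟨b, rfl⟩ := LinearMap.rTensor_surjective M hμ b
  rw [hcomp hab]

theorem rTensor_injective_of_smul_le_free [Module.Flat (A ⧸ I) ((A ⧸ I) ⊗[A] M)]
    (hI : Function.Injective (LinearMap.rTensor M (Submodule.subtype I))) (F : Type u) [AddCommGroup F]
    [Module A F] [Module.Flat A F] (L : Submodule A F) (hIL : I • (⊤ : Submodule A F) ≤ L) :
    Function.Injective (L.subtype.rTensor M) := by
  have hIF := rTensor_smul_top_injective A I M hI F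
  let Lbar : Submodule (A ⧸ I) (F ⧸ I • (⊤ : Submodule A F)) :=
    { carrier := L.map (I • (⊤ : Submodule A F)).mkQ
      add_mem' := fun ha hb => (L.map (I • (⊤ : Submodule A F)).mkQ).add_mem ha hb
      zero_mem' := (L.map (I • (⊤ : Submodule A F)).mkQ).zero_mem
      smul_mem' := fun c x hx => by
        obtain ⟨c, rfl⟩ := Ideal.Quotient.mk_surjective c
        have : (Ideal.Quotient.mk I c) • x = c • x := algebraMap_smul (A ⧸ I) c x
        rw [SetLike.mem_coe, this]
        exact (L.map (I • (⊤ : Submodule A F)).mkQ).smul_mem c hx }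
  have hq := rTensor_injective_of_flat_quotient A I M Lbar _ Lbar.subtype Subtype.val_injective
  let ρ : L →ₗ[A] Lbar :=
    { toFun := fun x => ⟨(I • (⊤ : Submodule A F)).mkQ x, ⟨x, x.2, rfl⟩⟩
      map_add' := fun x y => Subtype.ext (map_add (I • (⊤ : Submodule A F)).mkQ (x : F) y)
      map_smul' := fun c x => Subtype.ext (map_smul (I • (⊤ : Submodule A F)).mkQ c (x : F)) }
  have hρ : Function.Surjective ρ := by
    rintro ⟨_, x, hx, rfl⟩
    exact ⟨⟨x, hx⟩, rfl⟩
  have hex : Function.Exact (Submodule.inclusion hIL) ρ := by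
    intro x
    refine ⟨fun h => ⟨⟨x, (Submodule.Quotient.mk_eq_zero _).mp (congrArg Subtype.val h)⟩, rfl⟩, ?_⟩
    rintro ⟨y, rfl⟩
    exact Subtype.ext ((Submodule.Quotient.mk_eq_zero _).mpr y.2)
  have key : ∀ x, L.subtype.rTensor M x = 0 → x = 0 := by
    intro x hx
    have hcomm : (Lbar.subtype.restrictScalars A).rTensor M (ρ.rTensor M x) = 0 := by
      rw [← LinearMap.rTensor_comp_apply,
        show (Lbar.subtype.restrictScalars A) ∘ₗ ρ = (I • (⊤ : Submodule A F)).mkQ ∘ₗ L.subtype from rfl,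
        LinearMap.rTensor_comp_apply, hx, map_zero]
    obtain ⟨y, rfl⟩ := (rTensor_exact M hex hρ x).mp (hq (hcomm.trans (map_zero _).symm))
    rw [← LinearMap.rTensor_comp_apply, Submodule.subtype_comp_inclusion] at hx
    rw [hIF (hx.trans (map_zero _).symm), map_zero]
  exact LinearMap.ker_eq_bot.mp (LinearMap.ker_eq_bot'.mpr key)

theorem rTensor_injective_of_surjective {F N : Type u} [AddCommGroup F] [Module A F] [AddCommGroup N]
    [Module A N] (π : F →ₗ[A] N) (hπ : Function.Surjective π) (N₁ : Submodule A N)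
    (hLinj : Function.Injective ((N₁.comap π).subtype.rTensor M)) :
    Function.Injective (N₁.subtype.rTensor M) := by
  let π₁ : N₁.comap π →ₗ[A] N₁ := π.restrict (p := N₁.comap π) (q := N₁) fun x hx => hx
  have hπ₁ : Function.Surjective π₁ := fun x => by
    obtain ⟨y, hy⟩ := hπ x
    exact ⟨⟨y, show π y ∈ N₁ by rw [hy]; exact x.2⟩, Subtype.ext hy⟩
  have hKL : LinearMap.ker π ≤ N₁.comap π := fun z hz => by
    rw [Submodule.mem_comap, LinearMap.mem_ker.mp hz]; exact N₁.zero_mem
  have key : ∀ x, N₁.subtype.rTensor M x = 0 → x = 0 := by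
    intro x hx
    obtain ⟨y, rfl⟩ := LinearMap.rTensor_surjective M hπ₁ x
    have h2 : π.rTensor M ((N₁.comap π).subtype.rTensor M y) = 0 := by
      rw [← LinearMap.rTensor_comp_apply,
        show π ∘ₗ (N₁.comap π).subtype = N₁.subtype ∘ₗ π₁ from rfl, LinearMap.rTensor_comp_apply]
      exact hx
    obtain ⟨z, hz⟩ := (rTensor_exact M (LinearMap.exact_subtype_ker_map π) hπ _).mp h2
    have hy : y = (Submodule.inclusion hKL).rTensor M z := hLinj (by
      rw [← LinearMap.rTensor_comp_apply, Submodule.subtype_comp_inclusion, hz])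
    rw [hy, ← LinearMap.rTensor_comp_apply,
      show π₁ ∘ₗ Submodule.inclusion hKL = 0 from LinearMap.ext fun w => Subtype.ext w.2]
    simp
  exact LinearMap.ker_eq_bot.mp (LinearMap.ker_eq_bot'.mpr key)

theorem rTensor_injective_of_smul_le [Module.Flat (A ⧸ I) ((A ⧸ I) ⊗[A] M)]
    (hI : Function.Injective (LinearMap.rTensor M (Submodule.subtype I))) (N : Type u) [AddCommGroup N]
    [Module A N] (N₁ : Submodule A N) (hN : I • (⊤ : Submodule A N) ≤ N₁) :
    Function.Injective (N₁.subtype.rTensor M) := by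
  let π : (N →₀ A) →ₗ[A] N := Finsupp.linearCombination A id
  have hπ : Function.Surjective π := fun x =>
    ⟨Finsupp.single x 1, by simp only [π, Finsupp.linearCombination_single, one_smul, id_eq]⟩
  have hIL : I • (⊤ : Submodule A (N →₀ A)) ≤ N₁.comap π := by
    rw [← Submodule.map_le_iff_le_comap, Submodule.map_smul'', Submodule.map_top, LinearMap.range_eq_top.mpr hπ]
    exact hN
  exact rTensor_injective_of_surjective A M π hπ N₁
    (rTensor_injective_of_smul_le_free A I M hI (N →₀ A) (N₁.comap π) hIL)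

theorem rTensor_inclusion_injective [Module.Flat (A ⧸ I) ((A ⧸ I) ⊗[A] M)]
    (hI : Function.Injective (LinearMap.rTensor M (Submodule.subtype I))) {N : Type u} [AddCommGroup N]
    [Module A N] (P Q : Submodule A N) (hQP : Q ≤ P) (hs : I • P ≤ Q) :
    Function.Injective ((Submodule.inclusion hQP).rTensor M) := by
  have hN : I • (⊤ : Submodule A P) ≤ Submodule.comap P.subtype Q := by
    rw [Submodule.smul_le]
    rintro r hr ⟨x, hx⟩ -
    exact hs (Submodule.smul_mem_smul hr hx)
  have hi := rTensor_injective_of_smul_le A I M hI P (Submodule.comap P.subtype Q) hN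
  let e : Q ≃ₗ[A] Submodule.comap P.subtype Q := (Submodule.comapSubtypeEquivOfLe hQP).symm
  have hc : Submodule.inclusion hQP = (Submodule.comap P.subtype Q).subtype ∘ₗ e.toLinearMap :=
    LinearMap.ext fun x => Subtype.ext rfl
  rw [hc, LinearMap.rTensor_comp]
  exact hi.comp (LinearEquiv.rTensor M e).injective

theorem flat_iff_of_nilpotent (hI : IsNilpotent I) :
    Module.Flat A M ↔ Module.Flat (A ⧸ I) ((A ⧸ I) ⊗[A] M) ∧
      Function.Injective (LinearMap.rTensor M (Submodule.subtype I)) := by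
  refine ⟨fun h => ⟨inferInstance, Module.Flat.rTensor_preserves_injective_linearMap _ Subtype.val_injective⟩, ?_⟩
  rintro ⟨h1, h2⟩
  rw [Module.Flat.iff_rTensor_injective']
  intro J
  obtain ⟨n, hn⟩ := hI
  have key : ∀ k : ℕ, Function.Injective (LinearMap.rTensor M (Submodule.subtype (J ⊔ I ^ k))) := by
    intro k
    induction k with
    | zero =>
      have ht : (J ⊔ I ^ 0 : Ideal A) = ⊤ := by rw [pow_zero, Ideal.one_eq_top]; exact sup_top_eq J
      rw [ht]
      exact (LinearEquiv.rTensor M (LinearEquiv.ofTop (⊤ : Submodule A A) rfl)).injective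
    | succ k ih =>
      have hle : J ⊔ I ^ (k + 1) ≤ J ⊔ I ^ k := sup_le_sup_left (Ideal.pow_le_pow_right k.le_succ) J
      have hs : I • (J ⊔ I ^ k) ≤ J ⊔ I ^ (k + 1) := by
        rw [Ideal.smul_eq_mul, Ideal.mul_sup, ← pow_succ']
        exact sup_le_sup_right Ideal.mul_le_right (I ^ (k + 1))
      rw [← Submodule.subtype_comp_inclusion _ _ hle, LinearMap.rTensor_comp]
      exact ih.comp (rTensor_inclusion_injective A I M h2 _ _ hle hs)
  have h3 := key n
  rw [hn, show (0 : Ideal A) = ⊥ from rfl, sup_bot_eq] at h3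
  exact h3

end flat

section descent

theorem baseChange_comap_eq (A A' : Type u) [CommRing A] [CommRing A'] [Algebra A A']
    [Module.Flat A A'] (M : Type u) [AddCommGroup M] [Module A M] (N' : Submodule A' (A' ⊗[A] M))
    (h : Submodule.span (A' ⊗[A] A') ((N'.restrictScalars A).map
        ((Algebra.TensorProduct.includeLeft : A' →ₐ[A] A' ⊗[A] A').toLinearMap.rTensor M) :
          Set ((A' ⊗[A] A') ⊗[A] M)) =
      Submodule.span (A' ⊗[A] A') ((N'.restrictScalars A).map
        ((Algebra.TensorProduct.includeRight : A' →ₐ[A] A' ⊗[A] A').toLinearMap.rTensor M) :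
          Set ((A' ⊗[A] A') ⊗[A] M))) :
    ((N'.restrictScalars A).comap (TensorProduct.mk A A' M 1)).baseChange A' = N' := by
  set M₀ := (N'.restrictScalars A).comap (TensorProduct.mk A A' M 1) with hM₀
  refine le_antisymm (by rw [Submodule.baseChange_eq_span]; refine Submodule.span_le.mpr ?_; rintro _ ⟨m, hm, rfl⟩; exact hm) fun n hn => ?_
  let Q := M ⧸ M₀
  let ψ : Q →ₗ[A] (A' ⊗[A] M) ⧸ N' := M₀.liftQ ((N'.mkQ.restrictScalars A) ∘ₗ TensorProduct.mk A A' M 1)
    fun m hm => (Submodule.Quotient.mk_eq_zero N').mpr hm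
  have hψ : Function.Injective ψ := by
    rw [← LinearMap.ker_eq_bot, eq_bot_iff]
    intro x hx
    obtain ⟨m, rfl⟩ := Submodule.Quotient.mk_surjective M₀ x
    rw [Submodule.mem_bot, Submodule.Quotient.mk_eq_zero]
    exact (Submodule.Quotient.mk_eq_zero N').mp hx
  have hψ' := Module.Flat.lTensor_preserves_injective_linearMap (M := A') ψ hψ
  let Θ : (A' ⊗[A] A') ⊗[A] M →ₗ[A] A' ⊗[A] ((A' ⊗[A] M) ⧸ N') :=
    (LinearMap.lTensor A' (N'.mkQ.restrictScalars A)) ∘ₗ (TensorProduct.assoc A A' A' M).toLinearMap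
  let T : A' → A' → (A' ⊗[A] ((A' ⊗[A] M) ⧸ N') →ₗ[A] A' ⊗[A] ((A' ⊗[A] M) ⧸ N')) := fun a b =>
    TensorProduct.map (LinearMap.mulLeft A a)
      ((b • (LinearMap.id : ((A' ⊗[A] M) ⧸ N') →ₗ[A'] _)).restrictScalars A)
  have hT : ∀ (a b : A') z, Θ ((a ⊗ₜ[A] b) • z) = T a b (Θ z) := fun a b z => by
    induction z with
    | zero => rw [smul_zero, map_zero, map_zero]
    | tmul c m =>
      induction c with
      | zero => rw [zero_tmul, smul_zero, map_zero, map_zero]
      | tmul c d =>
        simp only [Θ, T, TensorProduct.smul_tmul', smul_eq_mul, Algebra.TensorProduct.tmul_mul_tmul]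
        simp [← Submodule.Quotient.mk_smul, TensorProduct.smul_tmul']
      | add c d hc hd => rw [add_tmul, smul_add, map_add, map_add, map_add, hc, hd]
    | add z w hz hw => rw [smul_add, map_add, map_add, map_add, hz, hw]
  let K : Submodule (A' ⊗[A] A') ((A' ⊗[A] A') ⊗[A] M) :=
    { carrier := {z | Θ z = 0}
      add_mem' := fun {x y} hx hy => by simp [show Θ x = 0 from hx, show Θ y = 0 from hy]
      zero_mem' := map_zero Θ
      smul_mem' := fun c z hz => by
        induction c with
        | zero => simp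
        | tmul a b => change Θ _ = 0; rw [hT, show Θ z = 0 from hz, map_zero]
        | add c d hc hd => change Θ _ = 0; rw [add_smul, map_add, show Θ _ = 0 from hc, show Θ _ = 0 from hd, add_zero] }
  have hK : ((Algebra.TensorProduct.includeLeft : A' →ₐ[A] A' ⊗[A] A').toLinearMap.rTensor M) n ∈ K := by
    have hsub : Submodule.span (A' ⊗[A] A') ((N'.restrictScalars A).map
        ((Algebra.TensorProduct.includeRight : A' →ₐ[A] A' ⊗[A] A').toLinearMap.rTensor M) :
          Set ((A' ⊗[A] A') ⊗[A] M)) ≤ K := by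
      rw [Submodule.span_le]
      rintro _ ⟨z, hz, rfl⟩
      have : ∀ z, Θ (((Algebra.TensorProduct.includeRight : A' →ₐ[A] A' ⊗[A] A').toLinearMap.rTensor M) z) =
          (1 : A') ⊗ₜ N'.mkQ z := fun z => by
        induction z with
        | zero => simp
        | tmul a m => simp [Θ]
        | add a b ha hb => rw [map_add, map_add, map_add, ha, hb, tmul_add]
      change Θ _ = 0
      rw [this, Submodule.mkQ_apply, (Submodule.Quotient.mk_eq_zero N').mpr hz, tmul_zero]
    rw [← h] at hsub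
    exact hsub (Submodule.subset_span ⟨n, hn, rfl⟩)
  have hleft : ∀ z, Θ (((Algebra.TensorProduct.includeLeft : A' →ₐ[A] A' ⊗[A] A').toLinearMap.rTensor M) z) =
      ψ.lTensor A' (M₀.mkQ.lTensor A' z) := fun z => by
    induction z with
    | zero => simp
    | tmul a m =>
      simp only [Θ, ψ, LinearMap.rTensor_tmul, LinearMap.comp_apply, LinearEquiv.coe_coe]
      rfl
    | add a b ha hb => rw [map_add, map_add, map_add, map_add, ha, hb]
  have h0 : M₀.mkQ.lTensor A' n = 0 := hψ' (by rw [← hleft, map_zero]; exact hK)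
  obtain ⟨y, rfl⟩ := (lTensor_exact A' (LinearMap.exact_subtype_mkQ M₀) M₀.mkQ_surjective _).mp h0
  clear h0 hK hn
  induction y with
  | zero => simp
  | tmul a m =>
    rw [LinearMap.lTensor_tmul, Submodule.subtype_apply,
      show a ⊗ₜ[A] (m : M) = a • ((1 : A') ⊗ₜ[A] (m : M)) by rw [smul_tmul', smul_eq_mul, mul_one]]
    exact Submodule.smul_mem _ _ (Submodule.tmul_mem_baseChange_of_mem 1 m.2)
  | add a b ha hb => rw [map_add]; exact Submodule.add_mem _ ha hb

end descent

end Groth.L27.AlgebraMisc
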