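import Groth.Agent.L05.Hensel.Homs
import Groth.Agent.S0532
import Groth.Prelude.Def_FEt
import Mathlib.AlgebraicGeometry.Pullbacks
import Mathlib.RingTheory.TensorProduct.Quotient

/-! # Finite étale covers over henselian pairs -/

set_option autoImplicit false
set_option linter.style.haveILetI false
set_option backward.isDefEq.respectTransparency.types false

universe u

open CategoryTheory CategoryTheory.Limits AlgebraicGeometry TensorProduct

noncomputable section

namespace Groth.L27.HenselPair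

variable {A : Type u} [CommRing A] (I : Ideal A)

/-- A cover of an affine scheme is affine, given by a finite étale algebra. -/
theorem exists_algebra (V : FEt.Cat (Spec (CommRingCat.of A))) :
    ∃ (B : Type u) (_ : CommRing B) (_ : Algebra A B) (_ : Module.Finite A B) (_ : Algebra.Etale A B)
      (e : V.left ≅ Spec (CommRingCat.of B)),
      e.hom ≫ Spec.map (CommRingCat.ofHom (algebraMap A B)) = V.hom := by
  let p : V.left ⟶ Spec (CommRingCat.of A) := V.hom
  haveI : IsFinite p := V.prop.1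
  haveI : AlgebraicGeometry.Etale p := V.prop.2
  haveI : IsAffine V.left := isAffine_of_isAffineHom p
  let q := V.left.isoSpec.inv ≫ p
  haveI : IsFinite q := MorphismProperty.comp_mem _ _ _ inferInstance inferInstance
  haveI : AlgebraicGeometry.Etale q := MorphismProperty.comp_mem _ _ _ inferInstance inferInstance
  let g := Spec.preimage q
  have hg : Spec.map g = q := Spec.map_preimage _
  letI := g.hom.toAlgebra
  have h1 : g.hom.Finite := (IsFinite.SpecMap_iff g).mp (by rw [hg]; infer_instance)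
  have h2 : g.hom.Etale := (HasRingHomProperty.Spec_iff (P := @AlgebraicGeometry.Etale)).mp
    (show AlgebraicGeometry.Etale (Spec.map g) by rw [hg]; infer_instance)
  refine ⟨Γ(V.left, ⊤), inferInstance, g.hom.toAlgebra, h1, h2, V.left.isoSpec, ?_⟩
  show V.left.isoSpec.hom ≫ Spec.map g = V.hom
  rw [hg]
  exact V.left.isoSpec.hom_inv_id_assoc p

/-- The base change of an affine scheme along the closed subscheme `V(I)`. -/
theorem exists_quotIso (B : Type u) [CommRing B] [Algebra A B] :
    ∃ θ : Spec (CommRingCat.of (B ⧸ I.map (algebraMap A B))) ≅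
        pullback (Spec.map (CommRingCat.ofHom (algebraMap A B)))
          (Spec.map (CommRingCat.ofHom (Ideal.Quotient.mk I))),
      θ.hom ≫ pullback.fst _ _ =
        Spec.map (CommRingCat.ofHom (Ideal.Quotient.mk (I.map (algebraMap A B)))) := by
  let e := (Algebra.TensorProduct.quotIdealMapEquivTensorQuot (A := A) B I).toRingEquiv
  refine ⟨(Scheme.Spec.mapIso e.toCommRingCatIso.op).symm ≪≫ (pullbackSpecIso A B (A ⧸ I)).symm, ?_⟩
  have h := pullbackSpecIso_inv_fst A B (A ⧸ I)
  change (_ ≫ (pullbackSpecIso A B (A ⧸ I)).inv) ≫ pullback.fst _ _ = _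
  refine ((Category.assoc _ _ _).trans (congrArg (_ ≫ ·) h)).trans ?_
  show Spec.map (CommRingCat.ofHom e.symm.toRingHom) ≫
    Spec.map (CommRingCat.ofHom Algebra.TensorProduct.includeLeftRingHom) = _
  rw [← Spec.map_comp]
  congr 1
  ext b
  show e.symm (b ⊗ₜ[A] 1) = Ideal.Quotient.mk _ b
  rw [RingEquiv.symm_apply_eq]
  exact (Algebra.TensorProduct.quotIdealMapEquivTensorQuot_mk _ _ b).symm

variable [HenselianRing A I]

/-- Morphisms to a cover lift uniquely from the closed subscheme. -/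
theorem existsUnique_lift (V W : FEt.Cat (Spec (CommRingCat.of A)))
    (c : pullback (V.hom : V.left ⟶ Spec (CommRingCat.of A)) (Spec.map (CommRingCat.ofHom (Ideal.Quotient.mk I))) ⟶ W.left)
    (hc : c ≫ W.hom = pullback.fst V.hom (Spec.map (CommRingCat.ofHom (Ideal.Quotient.mk I))) ≫ V.hom) :
    ∃! a : V.left ⟶ W.left, a ≫ W.hom = V.hom ∧
      pullback.fst V.hom (Spec.map (CommRingCat.ofHom (Ideal.Quotient.mk I))) ≫ a = c := by
  obtain ⟨B, _, _, _, _, e, he⟩ := exists_algebra V
  obtain ⟨B', _, _, _, _, e', he'⟩ := exists_algebra W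
  let β := Spec.map (CommRingCat.ofHom (algebraMap A B))
  let β' := Spec.map (CommRingCat.ofHom (algebraMap A B'))
  let pV : V.left ⟶ Spec (CommRingCat.of A) := V.hom
  let pW : W.left ⟶ Spec (CommRingCat.of A) := W.hom
  let ι := Spec.map (CommRingCat.ofHom (Ideal.Quotient.mk I))
  obtain ⟨θ, hθ⟩ := exists_quotIso I B
  let J := I.map (algebraMap A B)
  let m : pullback β ι ⟶ pullback pV ι := pullback.map β ι pV ι e.inv (𝟙 _) (𝟙 _)
    (by rw [Category.comp_id]; exact (Iso.inv_comp_eq e).mpr he.symm |>.symm) (by simp)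
  haveI : IsIso m := inferInstance
  let mk := Spec.map (CommRingCat.ofHom (Ideal.Quotient.mk J))
  have hm : θ.hom ≫ m ≫ pullback.fst pV ι = mk ≫ e.inv := by
    rw [show m ≫ pullback.fst pV ι = pullback.fst β ι ≫ e.inv from pullback.lift_fst _ _ _, ← Category.assoc]
    exact congrArg (· ≫ e.inv) hθ
  have hev : e.inv ≫ pV = β := (Iso.inv_comp_eq e).mpr he.symm
  have hew : e'.inv ≫ pW = β' := (Iso.inv_comp_eq e').mpr he'.symm
  -- the map on rings
  obtain ⟨φ, hφ⟩ : ∃ φ : CommRingCat.of B' ⟶ CommRingCat.of (B ⧸ J),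
      Spec.map φ = θ.hom ≫ m ≫ c ≫ e'.hom := ⟨Spec.preimage _, Spec.map_preimage _⟩
  have hφA : CommRingCat.ofHom (algebraMap A B') ≫ φ =
      CommRingCat.ofHom (algebraMap A B) ≫ CommRingCat.ofHom (Ideal.Quotient.mk J) := by
    apply Spec.map_injective
    rw [Spec.map_comp, Spec.map_comp, hφ]
    simp only [Category.assoc]
    have h1 : e'.hom ≫ Spec.map (CommRingCat.ofHom (algebraMap A B')) = pW := he'
    rw [h1]
    calc θ.hom ≫ m ≫ c ≫ pW = θ.hom ≫ m ≫ pullback.fst pV ι ≫ pV := by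
          exact congrArg (fun k => θ.hom ≫ m ≫ k) hc
      _ = (θ.hom ≫ m ≫ pullback.fst pV ι) ≫ pV := by simp only [Category.assoc]
      _ = mk ≫ β := by rw [hm, Category.assoc, hev]
  let σ : B' →ₐ[A] B ⧸ J :=
    { φ.hom with commutes' := fun r => congrArg (fun f : CommRingCat.of A ⟶ CommRingCat.of (B ⧸ J) => f.hom r) hφA }
  haveI : HenselianRing B J := Groth.L05.henselianRing_map_of_isIntegral I B
  obtain ⟨τ, hτ, huniq⟩ := Groth.L05.existsUnique_algHom_lift_etale J σ
  haveI : Epi (θ.hom ≫ m) := inferInstance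
  refine ⟨e.hom ≫ Spec.map (CommRingCat.ofHom τ.toRingHom) ≫ e'.inv, ⟨?_, ?_⟩, ?_⟩
  · show (e.hom ≫ Spec.map _ ≫ e'.inv) ≫ pW = pV
    rw [Category.assoc, Category.assoc, hew, ← Spec.map_comp, ← CommRingCat.ofHom_comp,
      show τ.toRingHom.comp (algebraMap A B') = algebraMap A B from τ.comp_algebraMap]
    exact he
  · rw [← cancel_epi (θ.hom ≫ m)]
    have hmk : mk ≫ Spec.map (CommRingCat.ofHom τ.toRingHom) = Spec.map φ := by
      rw [← Spec.map_comp]
      congr 1
      ext b
      exact AlgHom.congr_fun hτ b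
    calc (θ.hom ≫ m) ≫ pullback.fst pV ι ≫ e.hom ≫ Spec.map (CommRingCat.ofHom τ.toRingHom) ≫ e'.inv
        = (θ.hom ≫ m ≫ pullback.fst pV ι) ≫ e.hom ≫ Spec.map (CommRingCat.ofHom τ.toRingHom) ≫ e'.inv := by
          simp only [Category.assoc]
      _ = Spec.map φ ≫ e'.inv := by
          rw [hm, Category.assoc, Iso.inv_hom_id_assoc, ← Category.assoc, hmk]
      _ = (θ.hom ≫ m) ≫ c := by
          rw [hφ]; simp only [Category.assoc, Iso.hom_inv_id, Category.comp_id]
  · rintro a ⟨ha1, ha2⟩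
    obtain ⟨ψ, hψ⟩ : ∃ ψ : CommRingCat.of B' ⟶ CommRingCat.of B, Spec.map ψ = e.inv ≫ a ≫ e'.hom :=
      ⟨Spec.preimage _, Spec.map_preimage _⟩
    have hψA : CommRingCat.ofHom (algebraMap A B') ≫ ψ = CommRingCat.ofHom (algebraMap A B) := by
      apply Spec.map_injective
      rw [Spec.map_comp, hψ, Category.assoc, Category.assoc]
      exact (congrArg (fun k => e.inv ≫ a ≫ k) he').trans
        ((congrArg (e.inv ≫ ·) ha1).trans hev)
    let τ' : B' →ₐ[A] B :=
      { ψ.hom with commutes' := fun r => congrArg (fun f : CommRingCat.of A ⟶ CommRingCat.of B => f.hom r) hψA }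
    have hτ' : τ' = τ := by
      refine huniq τ' (AlgHom.ext fun b => ?_)
      have h : ψ ≫ CommRingCat.ofHom (Ideal.Quotient.mk J) = φ := by
        apply Spec.map_injective
        rw [Spec.map_comp, hψ, hφ]
        calc mk ≫ e.inv ≫ a ≫ e'.hom = (mk ≫ e.inv) ≫ a ≫ e'.hom := by simp only [Category.assoc]
          _ = θ.hom ≫ m ≫ (pullback.fst pV ι ≫ a) ≫ e'.hom := by rw [← hm]; simp only [Category.assoc]
          _ = θ.hom ≫ m ≫ c ≫ e'.hom := congrArg (fun k => θ.hom ≫ m ≫ k ≫ e'.hom) ha2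
      exact congrArg (fun f : CommRingCat.of B' ⟶ CommRingCat.of (B ⧸ J) => f.hom b) h
    have : Spec.map ψ = Spec.map (CommRingCat.ofHom τ.toRingHom) := by
      congr 1
      ext b
      exact AlgHom.congr_fun hτ' b
    rw [← this, hψ]
    simp

theorem isEquivalence_restrict :
    (FEt.restrict (Spec.map (CommRingCat.ofHom (Ideal.Quotient.mk I)))).IsEquivalence := by
  let ι := Spec.map (CommRingCat.ofHom (Ideal.Quotient.mk I))
  have hmap : ∀ {V W : FEt.Cat (Spec (CommRingCat.of A))} (φ : V ⟶ W),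
      ((FEt.restrict ι).map φ).left ≫ pullback.fst W.hom ι = pullback.fst V.hom ι ≫ φ.left :=
    fun φ => pullback.lift_fst _ _ _
  refine @Functor.IsEquivalence.mk _ _ _ _ _ ⟨fun {V W} a b h => ?_⟩ ⟨fun {V W} ψ => ?_⟩ ⟨fun Y => ?_⟩
  · obtain ⟨a0, -, huniq⟩ := existsUnique_lift I V W (pullback.fst V.hom ι ≫ a.left)
      ((Category.assoc _ _ _).trans (congrArg (_ ≫ ·) (MorphismProperty.Over.w a)))
    exact MorphismProperty.Over.Hom.ext ((huniq a.left ⟨MorphismProperty.Over.w a, rfl⟩).trans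
      (huniq b.left ⟨MorphismProperty.Over.w b, (hmap b).symm.trans
        ((congrArg (fun m => m.left ≫ pullback.fst W.hom ι) h).symm.trans (hmap a))⟩).symm)
  · let c : pullback (V.hom : V.left ⟶ _) ι ⟶ pullback (W.hom : W.left ⟶ _) ι := ψ.left
    have hc : c ≫ pullback.snd W.hom ι = pullback.snd V.hom ι := MorphismProperty.Over.w ψ
    obtain ⟨a, ⟨ha1, ha2⟩, -⟩ := existsUnique_lift I V W (c ≫ pullback.fst W.hom ι)
      ((Category.assoc _ _ _).trans ((congrArg (c ≫ ·) pullback.condition).trans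
        ((Category.assoc _ _ _).symm.trans ((congrArg (· ≫ ι) hc).trans pullback.condition.symm))))
    let r : V ⟶ W := MorphismProperty.Over.homMk a ha1
    refine ⟨r, MorphismProperty.Over.Hom.ext ?_⟩
    let r0 : pullback (V.hom : V.left ⟶ _) ι ⟶ pullback (W.hom : W.left ⟶ _) ι := ((FEt.restrict ι).map r).left
    have hr0 : r0 ≫ pullback.snd W.hom ι = pullback.snd V.hom ι := MorphismProperty.Over.w _
    show r0 = c
    exact pullback.hom_ext ((hmap r).trans ha2) (hr0.trans hc.symm)
  · obtain ⟨C, _, _, _, _, e, he⟩ := exists_algebra Y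
    obtain ⟨B, _, _, hB1, hB2, ⟨E⟩⟩ := Groth.Agent.S0532.result A I C
    let β := Spec.map (CommRingCat.ofHom (algebraMap A B))
    haveI : IsFinite β := (IsFinite.SpecMap_iff _).mpr (RingHom.finite_algebraMap.mpr hB1)
    haveI : AlgebraicGeometry.Etale β := (HasRingHomProperty.Spec_iff (P := @AlgebraicGeometry.Etale)).mpr
      (RingHom.etale_algebraMap.mpr hB2)
    let V : FEt.Cat (Spec (CommRingCat.of A)) := MorphismProperty.Over.mk ⊤ β ⟨inferInstance, inferInstance⟩
    let j : pullback β ι ≅ Spec (CommRingCat.of C) := pullbackSymmetry _ _ ≪≫ pullbackSpecIso A (A ⧸ I) B ≪≫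
      Scheme.Spec.mapIso E.symm.toRingEquiv.toCommRingCatIso.op
    refine ⟨V, ⟨MorphismProperty.Over.isoMk (j ≪≫ e.symm) ?_⟩⟩
    show (j.hom ≫ e.inv) ≫ Y.hom = pullback.snd β ι
    rw [Category.assoc, (Iso.inv_comp_eq e).mpr he.symm, ← Iso.eq_inv_comp]
    have h2 : j.inv ≫ pullback.snd β ι =
        Spec.map (CommRingCat.ofHom E.toRingEquiv.toRingHom) ≫
          Spec.map (CommRingCat.ofHom Algebra.TensorProduct.includeLeftRingHom) := by
      show (_ ≫ ((pullbackSpecIso A (A ⧸ I) B).inv ≫ (pullbackSymmetry _ _).inv)) ≫ pullback.snd β ι = _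
      rw [Category.assoc, Category.assoc, pullbackSymmetry_inv_comp_snd]
      exact congrArg (_ ≫ ·) (pullbackSpecIso_inv_fst A (A ⧸ I) B)
    rw [h2, ← Spec.map_comp]
    congr 1
    ext r
    exact (E.commutes r).symm

end Groth.L27.HenselPair
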