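import Groth.Agent.L27.H0Zariski
import Groth.Agent.L27.EtSite.H0Gabber

/-! # Global sections over the special fibre of a proper scheme over a henselian pair -/

set_option autoImplicit false
set_option linter.style.haveILetI false
set_option backward.isDefEq.respectTransparency.types false

universe u

open CategoryTheory CategoryTheory.Limits AlgebraicGeometry Opposite

noncomputable section

namespace Groth.L27.H0Proper

variable {A : Type u} [CommRing A] (I : Ideal A) [HenselianRing A I]
  {X : Scheme.{u}} (f : X ⟶ Spec (CommRingCat.of A)) [IsProper f]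

open Groth.L27.HenselProper (ι)

/-- `Γ(X, F) = Γ(Z, F|Z)` for a closed immersion onto the special fibre. -/
theorem bijective_of_range {Z : Scheme.{u}} (i : Z ⟶ X) [IsClosedImmersion i]
    (hi : Set.range i = f ⁻¹' PrimeSpectrum.zeroLocus (I : Set A)) [EtCoh.BCCont i] (F : EtCoh.Ab X) :
    Function.Bijective (((EtCoh.pullPushAdj i).unit.app F).hom.app (op (EtCoh.top X))) := by
  haveI : CompactSpace X := QuasiCompact.compactSpace_of_compactSpace f
  haveI : QuasiSeparatedSpace X := quasiSeparatedSpace_of_quasiSeparated f
  refine EtSite.H0Gabber.bijective_of_zariski i F fun X' π h G => ?_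
  haveI := h
  refine ⟨_, ?_, H0Zariski.bijective_unit I (π ≫ f) G⟩
  rw [Scheme.Pullback.range_fst, HenselProper.range_ι, hi, Scheme.Hom.comp_base, TopCat.coe_comp,
    Set.preimage_comp]

theorem bijective_unit [EtCoh.BCCont (pullback.fst f (ι I))] (F : EtCoh.Ab X) :
    Function.Bijective
      (((EtCoh.pullPushAdj (pullback.fst f (ι I))).unit.app F).hom.app (op (EtCoh.top X))) := by
  haveI : IsClosedImmersion (ι I) := IsClosedImmersion.spec_of_surjective _ Ideal.Quotient.mk_surjective
  haveI : IsClosedImmersion (pullback.fst f (ι I)) := MorphismProperty.pullback_fst _ _ inferInstance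
  refine bijective_of_range I f _ ?_ F
  rw [Scheme.Pullback.range_fst, HenselProper.range_ι]

end Groth.L27.H0Proper
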