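import Groth.Agent.S0385
import Groth.Agent.L23.LocalDimEtale
import Mathlib.AlgebraicGeometry.Morphisms.Etale
import Mathlib.AlgebraicGeometry.Morphisms.FlatRank
import Mathlib.AlgebraicGeometry.IdealSheaf.Subscheme
import Mathlib.AlgebraicGeometry.Morphisms.QuasiSeparated
import Mathlib.AlgebraicGeometry.Morphisms.FlatMono

/-! # Sections of étale schemes from lifting of clopens along finite schemes -/

set_option autoImplicit false
set_option linter.style.haveILetI false
set_option backward.isDefEq.respectTransparency.types false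

universe u

open CategoryTheory CategoryTheory.Limits AlgebraicGeometry TopologicalSpace

noncomputable section

namespace Groth.L27.ClopenLift

variable {S S₀ : Scheme.{u}} (i : S₀ ⟶ S)
  (ha : ∀ (S' : Scheme.{u}) (g : S' ⟶ S), IsFinite g →
    ∀ V : Set ↥(pullback g i), IsClopen V → ∃! U : Set ↥S', IsClopen U ∧ (pullback.fst g i).base ⁻¹' U = V)

include ha in
/-- A clopen containing the closed subscheme is everything. -/
theorem clopen_eq_univ {C : Set S} (hC : IsClopen C) (hi : Set.range i ⊆ C) : C = Set.univ := by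
  refine (ha S (𝟙 S) inferInstance Set.univ isClopen_univ).unique ⟨hC, ?_⟩ ⟨isClopen_univ, rfl⟩
  refine Set.eq_univ_of_forall fun z => hi ⟨pullback.snd (𝟙 S) i z, ?_⟩
  show i (pullback.snd (𝟙 S) i z) = pullback.fst (𝟙 S) i z
  rw [← Scheme.Hom.comp_apply, ← pullback.condition, Category.comp_id]

include ha in
/-- A closed set missing the closed subscheme is empty. -/
theorem closed_eq_empty {Z : Set S} (hZ : IsClosed Z) (hi : Disjoint (Set.range i) Z) : Z = ∅ := by
  let 𝓘 := Scheme.IdealSheafData.vanishingIdeal ⟨Z, hZ⟩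
  let g := 𝓘.subschemeι
  have hr : Set.range g = Z := by
    rw [Scheme.IdealSheafData.range_subschemeι]
    exact Scheme.IdealSheafData.coe_support_vanishingIdeal _
  haveI : IsEmpty (pullback g i : Scheme.{u}) := ⟨fun z => by
    refine Set.disjoint_left.mp hi ⟨pullback.snd g i z, rfl⟩ (hr.le ⟨pullback.fst g i z, ?_⟩)
    rw [← Scheme.Hom.comp_apply, pullback.condition, Scheme.Hom.comp_apply]⟩
  have h : (∅ : Set 𝓘.subscheme) = Set.univ :=
    (ha _ g inferInstance ∅ isClopen_empty).unique ⟨isClopen_empty, rfl⟩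
      ⟨isClopen_univ, Set.eq_empty_of_isEmpty _⟩
  haveI : IsEmpty 𝓘.subscheme := Set.univ_eq_empty_iff.mp h.symm
  rw [← hr]
  exact Set.range_eq_empty _

variable [IsClosedImmersion i]

include ha in
theorem existsUnique_section [CompactSpace ↥S] [QuasiSeparatedSpace ↥S] {S' : Scheme.{u}} (g : S' ⟶ S)
    [AlgebraicGeometry.Etale g] [IsSeparated g]
    (u₀ : S₀ ⟶ pullback g i) (hu₀ : u₀ ≫ pullback.snd g i = 𝟙 S₀) :
    ∃! u : S ⟶ S', u ≫ g = 𝟙 S ∧ i ≫ u = u₀ ≫ pullback.fst g i := by
  have huniq : ∀ u u' : S ⟶ S', u ≫ g = 𝟙 S → u' ≫ g = 𝟙 S → i ≫ u = i ≫ u' → u = u' := by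
    intro u u' hu hu' he
    let Δ := pullback.diagonal g
    let m : S ⟶ pullback g g := pullback.lift u u' (hu.trans hu'.symm)
    have hΔ : IsClopen (Set.range Δ) :=
      ⟨Δ.isClosedEmbedding.isClosed_range, Δ.isOpenEmbedding.isOpen_range⟩
    have hm : i ≫ m = (i ≫ u) ≫ Δ := by
      apply pullback.hom_ext
      · simp [m, Δ]
        exact congrArg (i ≫ ·) (pullback.lift_fst _ _ _)
      · simp [m, Δ, he]
        exact congrArg (i ≫ ·) (pullback.lift_snd _ _ _)
    have hall : m ⁻¹' Set.range Δ = Set.univ := by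
      refine clopen_eq_univ i ha (hΔ.preimage m.continuous) ?_
      rintro _ ⟨x, rfl⟩
      exact ⟨(i ≫ u) x, (congrArg (fun f : S₀ ⟶ pullback g g => f x) hm).symm⟩
    have hl := IsOpenImmersion.lift_fac Δ m (fun y ⟨x, hx⟩ => hx ▸ hall.ge (Set.mem_univ x))
    have h1 := congrArg (· ≫ pullback.fst g g) hl
    have h2 := congrArg (· ≫ pullback.snd g g) hl
    simp only [m, Δ, Category.assoc, pullback.diagonal_fst, pullback.diagonal_snd, Category.comp_id,
      pullback.lift_fst, pullback.lift_snd] at h1 h2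
    exact h1.symm.trans h2
  refine existsUnique_of_exists_of_unique ?_ fun u u' h h' => huniq u u' h.1 h'.1 (h.2.trans h'.2.symm)
  -- a quasi-compact open around the given section
  haveI : CompactSpace S₀ := QuasiCompact.compactSpace_of_compactSpace i
  let v : S₀ ⟶ S' := u₀ ≫ pullback.fst g i
  have hv : v ≫ g = i := by
    simp only [v, Category.assoc, pullback.condition]
    rw [← Category.assoc, hu₀, Category.id_comp]
  obtain ⟨W, hWc, hvW⟩ : ∃ W : S'.Opens, IsCompact (W : Set S') ∧ Set.range v ⊆ W := by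
    obtain ⟨t, ht⟩ := (isCompact_range v.continuous).elim_finite_subcover
      (fun U : S'.affineOpens => (U.1 : Set S')) (fun U => U.1.2) (fun y _ => by
        obtain ⟨_, ⟨U, hU, rfl⟩, hyU, -⟩ :=
          S'.isBasis_affineOpens.exists_subset_of_mem_open (Set.mem_univ y) isOpen_univ
        exact Set.mem_iUnion.mpr ⟨⟨U, hU⟩, hyU⟩)
    refine ⟨⨆ U ∈ t, U.1, ?_, fun y hy => ?_⟩
    · simp only [Opens.coe_iSup]
      exact t.isCompact_biUnion fun U _ => U.2.isCompact
    · obtain ⟨U, hU, hyU⟩ := Set.mem_iUnion₂.mp (ht hy)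
      simp only [Opens.coe_iSup]
      exact Set.mem_iUnion₂.mpr ⟨U, hU, hyU⟩
  haveI : CompactSpace W.toScheme := isCompact_iff_compactSpace.mp hWc
  let gW : W.toScheme ⟶ S := W.ι ≫ g
  haveI : AlgebraicGeometry.Etale gW := MorphismProperty.comp_mem _ _ _ inferInstance inferInstance
  haveI : IsSeparated gW := MorphismProperty.comp_mem _ _ _ inferInstance inferInstance
  haveI : QuasiCompact gW := inferInstance
  haveI : LocallyQuasiFinite gW := Groth.L23.lqf_of_etale gW
  obtain ⟨T, j, π, _, _, _, hjπ⟩ := Groth.Agent.S0385.result gW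
  let v' : S₀ ⟶ W.toScheme := IsOpenImmersion.lift W.ι v (by rw [Scheme.Opens.range_ι]; exact hvW)
  have hv' : v' ≫ W.ι = v := IsOpenImmersion.lift_fac _ _ _
  let t₀ : S₀ ⟶ pullback π i := pullback.lift (v' ≫ j) (𝟙 S₀) (by
    rw [Category.assoc, hjπ, Category.id_comp, ← Category.assoc, hv', hv])
  have ht₀ : t₀ ≫ pullback.snd π i = 𝟙 S₀ := pullback.lift_snd _ _ _
  haveI : IsClosedImmersion t₀ := by
    haveI : IsClosedImmersion (t₀ ≫ pullback.snd π i) := by rw [ht₀]; infer_instance
    exact IsClosedImmersion.of_comp t₀ (pullback.snd π i)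
  haveI : IsOpenImmersion t₀ := by
    let k : pullback gW i ⟶ pullback π i :=
      pullback.map gW i π i j (𝟙 _) (𝟙 _) (by rw [hjπ, Category.comp_id]) (by simp)
    let s₀ : S₀ ⟶ pullback gW i := pullback.lift v' (𝟙 S₀) (by
      rw [Category.id_comp, ← Category.assoc, hv', hv])
    have hs : s₀ ≫ pullback.snd gW i = 𝟙 S₀ := pullback.lift_snd _ _ _
    haveI : AlgebraicGeometry.Etale (s₀ ≫ pullback.snd gW i) := by rw [hs]; infer_instance
    haveI : AlgebraicGeometry.Etale s₀ := AlgebraicGeometry.Etale.of_comp s₀ (pullback.snd gW i)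
    haveI : Mono s₀ := (SplitMono.mk _ hs).mono
    haveI : IsOpenImmersion s₀ := IsOpenImmersion.of_flat_of_mono s₀
    have : t₀ = s₀ ≫ k := by
      apply pullback.hom_ext
      · simp [t₀, s₀, k, pullback.map, pullback.lift_fst, pullback.lift_fst_assoc]
      · simp [t₀, s₀, k, pullback.map, pullback.lift_snd, pullback.lift_snd_assoc]
    rw [this]; infer_instance
  have hV : IsClopen (Set.range t₀) :=
    ⟨t₀.isClosedEmbedding.isClosed_range, t₀.isOpenEmbedding.isOpen_range⟩
  obtain ⟨U, ⟨hU, hUV⟩, -⟩ := ha T π inferInstance _ hV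
  have hUj : U ⊆ Set.range j := by
    have hZ : IsClosed (π '' (U ∩ (Set.range j)ᶜ)) :=
      π.isClosedMap _ (hU.1.inter j.isOpenEmbedding.isOpen_range.isClosed_compl)
    have hempty := closed_eq_empty i ha hZ (by
      rw [Set.disjoint_left]
      rintro _ ⟨x, rfl⟩ ⟨z, ⟨hzU, hzj⟩, hz⟩
      obtain ⟨w, hw, -⟩ := Scheme.Pullback.exists_preimage_pullback (f := π) (g := i) z x hz
      have hwV : w ∈ Set.range t₀ := by
        rw [← hUV]
        show pullback.fst π i w ∈ U
        rw [hw]; exact hzU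
      obtain ⟨s, rfl⟩ := hwV
      refine hzj ⟨v' s, ?_⟩
      rw [← hw, ← Scheme.Hom.comp_apply, ← Scheme.Hom.comp_apply]
      exact congrArg (fun f : S₀ ⟶ T => f s) (pullback.lift_fst _ _ _).symm)
    intro z hz
    by_contra hzj
    exact Set.eq_empty_iff_forall_notMem.mp hempty _ ⟨z, ⟨hz, hzj⟩, rfl⟩
  let U' : T.Opens := ⟨U, hU.2⟩
  haveI : IsClosedImmersion U'.ι := IsClosedImmersion.of_isPreimmersion U'.ι (by
    rw [Scheme.Opens.range_ι]; exact hU.1)
  let l : U'.toScheme ⟶ W.toScheme := IsOpenImmersion.lift j U'.ι (by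
    rw [Scheme.Opens.range_ι]; exact hUj)
  have hl : l ≫ j = U'.ι := IsOpenImmersion.lift_fac _ _ _
  haveI : IsOpenImmersion (l ≫ j) := by rw [hl]; infer_instance
  haveI : IsOpenImmersion l := IsOpenImmersion.of_comp l j
  let q : U'.toScheme ⟶ S := U'.ι ≫ π
  haveI : IsFinite q := MorphismProperty.comp_mem _ _ _ inferInstance inferInstance
  have hq : q = l ≫ gW := by simp only [q, ← hl, Category.assoc, hjπ]
  haveI : AlgebraicGeometry.Etale q := by rw [hq]; exact MorphismProperty.comp_mem _ _ _ inferInstance inferInstance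
  -- the section lands in `U`
  have ht₀U : Set.range (v' ≫ j) ⊆ Set.range U'.ι := by
    rw [Scheme.Opens.range_ι]
    rintro _ ⟨x, rfl⟩
    have hx : t₀ x ∈ (pullback.fst π i) ⁻¹' U := hUV.ge ⟨x, rfl⟩
    have e : t₀ ≫ pullback.fst π i = v' ≫ j := pullback.lift_fst _ _ _
    rw [← e, Scheme.Hom.comp_apply]
    exact hx
  let w : S₀ ⟶ U'.toScheme := IsOpenImmersion.lift U'.ι (v' ≫ j) ht₀U
  have hw : w ≫ U'.ι = v' ≫ j := IsOpenImmersion.lift_fac _ _ _
  have hwq : w ≫ q = i := by
    simp only [q]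
    rw [← Category.assoc, hw, Category.assoc, hjπ, ← Category.assoc, hv', hv]
  haveI : IsIso (pullback.snd q i) := by
    let t : S₀ ⟶ pullback q i := pullback.lift w (𝟙 S₀) (by rw [Category.id_comp]; exact hwq)
    have ht : t ≫ pullback.snd q i = 𝟙 S₀ := pullback.lift_snd _ _ _
    haveI : AlgebraicGeometry.Etale (t ≫ pullback.snd q i) := by rw [ht]; infer_instance
    haveI : AlgebraicGeometry.Etale t := AlgebraicGeometry.Etale.of_comp t (pullback.snd q i)
    haveI : Mono t := (SplitMono.mk _ ht).mono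
    haveI : IsOpenImmersion t := IsOpenImmersion.of_flat_of_mono t
    let k : pullback q i ⟶ pullback π i :=
      pullback.map q i π i U'.ι (𝟙 _) (𝟙 _) (by simp [q]) (by simp)
    haveI : IsOpenImmersion k := inferInstance
    haveI : Surjective t := by
      refine ⟨fun z => ?_⟩
      have hz : k z ∈ (pullback.fst π i) ⁻¹' U := by
        show (k ≫ pullback.fst π i) z ∈ U
        rw [show k ≫ pullback.fst π i = pullback.fst q i ≫ U'.ι from pullback.lift_fst _ _ _]
        exact (pullback.fst q i z).2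
      rw [hUV] at hz
      obtain ⟨x, hx⟩ := hz
      refine ⟨x, k.isOpenEmbedding.injective ?_⟩
      rw [← hx, ← Scheme.Hom.comp_apply]
      refine congrArg (fun f : S₀ ⟶ pullback π i => f x) ?_
      apply pullback.hom_ext
      · simp [k, t, t₀, hw, pullback.map, pullback.lift_fst, pullback.lift_fst_assoc]
      · simp [k, t, t₀, pullback.map, pullback.lift_snd, pullback.lift_snd_assoc]
    haveI : Epi t.base := (TopCat.epi_iff_surjective _).mpr t.surjective
    haveI : IsIso t := IsOpenImmersion.isIso t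
    haveI : IsIso (t ≫ pullback.snd q i) := by rw [ht]; infer_instance
    exact IsIso.of_isIso_comp_left t (pullback.snd q i)
  haveI : IsIso q := by
    rw [Scheme.Hom.isIso_iff_finrank_eq]
    have hclop : IsClopen {s : S | q.finrank s = 1} :=
      ⟨(q.isLocallyConstant_finrank.isClosed_fiber 1), q.isLocallyConstant_finrank.isOpen_fiber 1⟩
    have hall := clopen_eq_univ i ha hclop (by
      rintro _ ⟨x, rfl⟩
      show q.finrank (i x) = 1
      rw [← Scheme.Hom.finrank_pullback_snd q i x]
      exact congrFun (Scheme.Hom.finrank_eq_one_of_isIso (pullback.snd q i)) x)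
    funext s
    exact hall.ge (Set.mem_univ s)
  refine ⟨inv q ≫ l ≫ W.ι, ?_, ?_⟩
  · rw [Category.assoc, Category.assoc, show W.ι ≫ g = gW from rfl, ← hq, IsIso.inv_hom_id]
  · show i ≫ inv q ≫ l ≫ W.ι = v
    have hiw : i ≫ inv q = w := by rw [IsIso.comp_inv_eq]; exact hwq.symm
    rw [reassoc_of% hiw, ← hv', ← Category.assoc]
    congr 1
    rw [← cancel_mono j, Category.assoc, hl, hw]

end Groth.L27.ClopenLift
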