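import Groth.Agent.S0426
import Groth.Agent.L20.WeaklyEtale
import Groth.Agent.L20.WeaklyEtaleStalk
import Mathlib.FieldTheory.IsAlgClosed.Basic
import Mathlib.RingTheory.LocalRing.ResidueField.Fiber
import Mathlib.RingTheory.Valuation.LocalSubring
import Mathlib.RingTheory.Valuation.ValuationRing
import Mathlib.Algebra.GCDMonoid.IntegrallyClosed
import Mathlib.RingTheory.Bezout
import Mathlib.RingTheory.Ideal.Quotient.Nilpotent
import Mathlib.RingTheory.Ideal.MinimalPrime.Localization

/-! Weakly etale algebras over valuation rings of algebraically closed fields. -/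

set_option autoImplicit false
set_option linter.style.haveILetI false
universe u

open TensorProduct

namespace Groth.L27.Olivier

theorem forall_flat (F T : Type u) [Field F] [CommRing T] [Algebra F T] [Algebra.WeaklyEtale F T]
    (M : Type u) [AddCommGroup M] [Module T M] : Module.Flat T M := by
  letI : Module F M := Module.compHom M (algebraMap F T)
  haveI : IsScalarTower F T M :=
    IsScalarTower.of_algebraMap_smul fun r x => rfl
  exact Groth.L20.flat_of_flat_of_flat_lmul (R := F) (Algebra.WeaklyEtale.flat_lmul' F T)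

theorem exists_sq_mul {T : Type u} [CommRing T]
    (h : ∀ (M : Type u) [AddCommGroup M] [Module T M], Module.Flat T M) (x : T) :
    ∃ y, x * x * y = x := by
  let I := Ideal.span {x}
  have := h (T ⧸ I)
  have hrel : ∑ i : Fin 1, (fun _ => x) i • (fun _ => (1 : T ⧸ I)) i = 0 := by
    simp only [Fin.sum_univ_one, Algebra.smul_def, mul_one]
    exact Ideal.Quotient.eq_zero_iff_mem.mpr (Ideal.mem_span_singleton_self x)
  obtain ⟨k, A, y, hy, hA⟩ := Module.Flat.isTrivialRelation_of_sum_smul_eq_zero hrel
  choose b hb using fun j => Ideal.Quotient.mk_surjective (y j)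
  have h1 : Ideal.Quotient.mk I (∑ j, A 0 j * b j) = 1 := by
    simp only [map_sum, map_mul, hb]
    exact (hy 0).symm
  rw [← map_one (Ideal.Quotient.mk I), Ideal.Quotient.eq, Ideal.mem_span_singleton] at h1
  obtain ⟨c, hc⟩ := h1
  have h2 : x * ∑ j, A 0 j * b j = 0 := by
    rw [Finset.mul_sum]
    refine Finset.sum_eq_zero fun j _ => ?_
    have := hA j
    simp only [Fin.sum_univ_one] at this
    rw [← mul_assoc, this, zero_mul]
  exact ⟨-c, by linear_combination x * hc - h2⟩

theorem isField_of_local (F T : Type u) [Field F] [CommRing T] [Algebra F T] [Algebra.WeaklyEtale F T]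
    [IsLocalRing T] : IsField T := by
  rw [IsLocalRing.isField_iff_maximalIdeal_eq, eq_bot_iff]
  intro x hx
  obtain ⟨y, hy⟩ := exists_sq_mul (fun M _ _ => forall_flat F T M) x
  have hu : IsUnit (1 - x * y) :=
    IsLocalRing.isUnit_one_sub_self_of_mem_nonunits _ (Ideal.mul_mem_right y _ hx)
  exact hu.mul_right_eq_zero.mp (show (1 - x * y) * x = 0 by linear_combination -hy)

theorem exists_sub_mem (A B : Type u) [CommRing A] [CommRing B] [IsLocalRing A] [IsLocalRing B]
    [IsSepClosed (IsLocalRing.ResidueField A)] [Algebra A B] [IsLocalHom (algebraMap A B)]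
    [Algebra.WeaklyEtale A B] (b : B) : ∃ a, b - algebraMap A B a ∈ IsLocalRing.maximalIdeal B := by
  let k := IsLocalRing.ResidueField A
  let T := k ⊗[A] B
  letI : Field T := (isField_of_local k T).toField
  haveI : Algebra.IsSeparable k T := Groth.Agent.S0426.result
  obtain ⟨c, hc⟩ := IsSepClosed.algebraMap_surjective k T
    (Algebra.TensorProduct.includeRight (R := A) (A := k) b)
  obtain ⟨a, rfl⟩ := IsLocalRing.residue_surjective c
  let l : k →ₐ[A] IsLocalRing.ResidueField B :=
    { IsLocalRing.ResidueField.map (algebraMap A B) with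
      commutes' := fun r => IsLocalRing.ResidueField.map_residue (algebraMap A B) r }
  let Φ : T →ₐ[A] IsLocalRing.ResidueField B := Algebra.TensorProduct.lift l
    (IsScalarTower.toAlgHom A B _) fun _ _ => Commute.all _ _
  refine ⟨a, ?_⟩
  rw [← IsLocalRing.residue_eq_zero_iff, map_sub, sub_eq_zero]
  have h1 : Φ ((IsLocalRing.residue A a) ⊗ₜ (1 : B)) = Φ ((1 : k) ⊗ₜ b) := congrArg Φ hc
  change l (IsLocalRing.residue A a) * algebraMap B _ (1 : B) = l 1 * algebraMap B _ b at h1
  rw [map_one, map_one, mul_one, one_mul] at h1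
  exact h1.symm.trans (IsLocalRing.ResidueField.map_residue (algebraMap A B) a)

theorem algHom_eq_of_sub_mem {A B R : Type u} [CommRing A] [CommRing B] [CommRing R] [Algebra A B]
    [Algebra A R] [Algebra.WeaklyEtale A B] [IsLocalRing R] (f g : B →ₐ[A] R)
    (h : ∀ b, f b - g b ∈ IsLocalRing.maximalIdeal R) : f = g := by
  refine AlgHom.ext fun b => ?_
  obtain ⟨e, he, hze⟩ := Groth.L20.exists_lmul_eq_one_mul_eq_zero (Algebra.WeaklyEtale.flat_lmul' A B)
    (fun _ : Fin 1 => b ⊗ₜ[A] (1 : B) - (1 : B) ⊗ₜ[A] b) (fun _ => by simp)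
  let Φ := Algebra.TensorProduct.lift f g fun _ _ => Commute.all _ _
  have key : ∀ w : B ⊗[A] B, Φ w - f (Algebra.TensorProduct.lmul' A w) ∈ IsLocalRing.maximalIdeal R := by
    intro w
    induction w using TensorProduct.induction_on with
    | zero => simp
    | add p q hp hq =>
      have := add_mem hp hq
      simp only [map_add]
      convert this using 1
      ring
    | tmul x y =>
      have := Ideal.mul_mem_left _ (f x) (neg_mem (h y))
      simp only [Φ, Algebra.TensorProduct.lift_tmul, Algebra.TensorProduct.lmul'_apply_tmul, map_mul]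
      convert this using 1
      ring
  have hu : IsUnit (Φ e) := by
    have := key e
    rw [he, map_one] at this
    by_contra hu
    exact (IsLocalRing.maximalIdeal R).ne_top_iff_one.mp (IsLocalRing.maximalIdeal.isMaximal R).ne_top
      (by simpa using sub_mem ((IsLocalRing.mem_maximalIdeal _).mpr hu) this)
  have := congrArg Φ (hze 0)
  simp only [map_mul, map_zero, map_sub, Φ, Algebra.TensorProduct.lift_tmul, map_one, mul_one,
    one_mul] at this
  exact sub_eq_zero.mp (hu.mul_left_eq_zero.mp this)

theorem isAlgClosed_residue (V K : Type u) [CommRing V] [IsDomain V] [IsLocalRing V]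
    [IsIntegrallyClosed V] [Field K] [Algebra V K] [IsFractionRing V K] [IsAlgClosed K] :
    IsAlgClosed (IsLocalRing.ResidueField V) := by
  refine IsAlgClosed.of_exists_root _ fun p hp hirr => ?_
  obtain ⟨F, hFp, hdeg, hF⟩ := Polynomial.lifts_and_natDegree_eq_and_monic
    ((Polynomial.lifts_iff_coeff_lifts _).mpr fun n => IsLocalRing.residue_surjective (p.coeff n)) hp
  obtain ⟨x, hx⟩ := IsAlgClosed.exists_root (F.map (algebraMap V K)) (by
    rw [hF.degree_map, Polynomial.degree_eq_natDegree hF.ne_zero, hdeg]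
    exact_mod_cast hirr.natDegree_pos.ne')
  obtain ⟨v, rfl⟩ := IsIntegrallyClosed.isIntegral_iff.mp
    (⟨F, hF, by rw [← Polynomial.eval_map]; exact hx⟩ : IsIntegral V x)
  refine ⟨IsLocalRing.residue V v, ?_⟩
  rw [Polynomial.IsRoot, Polynomial.eval_map_apply,
    map_eq_zero_iff _ (IsFractionRing.injective V K)] at hx
  rw [← hFp, Polynomial.eval_map_apply, hx, map_zero]

theorem isDomain_of_valuationRing (V R K : Type u) [CommRing V] [IsDomain V] [ValuationRing V]
    [Field K] [Algebra V K] [IsFractionRing V K] [IsAlgClosed K] [CommRing R] [IsLocalRing R]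
    [Algebra V R] [IsLocalHom (algebraMap V R)] [Algebra.WeaklyEtale V R] : IsDomain R := by
  classical
  letI := IsBezout.toGCDDomain V
  haveI : IsIntegrallyClosed V := inferInstance
  haveI := isAlgClosed_residue V K
  haveI := Groth.L20.isReduced_of_weaklyEtale V R
  have hsec : ∀ Q : Ideal R, Q ∈ minimalPrimes R →
      ∃ ψ : R →ₐ[V] V, RingHom.ker ψ = Q ∧ ∀ x, ψ x ∈ IsLocalRing.maximalIdeal V ↔
        x ∈ IsLocalRing.maximalIdeal R := by
    intro Q hQ
    haveI hQp : Q.IsPrime := hQ.1.1
    have hQ0 : ∀ v : V, v ≠ 0 → algebraMap V R v ∉ Q := fun v hv hmem => by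
      refine Set.disjoint_left.mp (Ideal.disjoint_nonZeroDivisors_of_mem_minimalPrimes hQ) hmem ?_
      rw [SetLike.mem_coe, mem_nonZeroDivisors_iff_right]
      intro r hr
      have : Function.Injective (algebraMap V R v * ·) := by
        have h := IsSMulRegular.of_flat (S := R)
          ((IsLeftRegular.isSMulRegular (mul_right_injective₀ hv) : IsSMulRegular V v))
        intro a b hab
        exact h (by simpa [Algebra.smul_def] using hab)
      exact this (show algebraMap V R v * r = algebraMap V R v * 0 by rw [mul_zero, mul_comm]; exact hr)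
    let RQ := Localization.AtPrime Q
    letI : Algebra K RQ := (IsLocalization.lift (M := nonZeroDivisors V) (g := algebraMap V RQ)
      fun y => by
        rw [IsScalarTower.algebraMap_apply V R RQ]
        exact IsLocalization.map_units RQ (⟨_, hQ0 y (nonZeroDivisors.ne_zero y.2)⟩ : Q.primeCompl)).toAlgebra
    haveI : IsScalarTower V K RQ := .of_algebraMap_eq fun v => (IsLocalization.lift_eq _ v).symm
    haveI := Groth.L20.weaklyEtale_of_isLocalization (A := V) (B := R) (nonZeroDivisors V) Q.primeCompl K RQ
    letI : Field RQ := (isField_of_local K RQ).toField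
    haveI : Algebra.IsSeparable K RQ := Groth.Agent.S0426.result
    let e := RingEquiv.ofBijective (algebraMap K RQ)
      (IsAlgClosed.algebraMap_bijective_of_isIntegral (k := K) (K := RQ))
    let g : R →+* K := e.symm.toRingHom.comp (algebraMap R RQ)
    have hg : g.comp (algebraMap V R) = algebraMap V K := RingHom.ext fun v => e.injective (by
      change e (e.symm _) = algebraMap K RQ (algebraMap V K v)
      rw [e.apply_symm_apply, ← IsScalarTower.algebraMap_apply, ← IsScalarTower.algebraMap_apply])
    have hbij := bijective_rangeRestrict_comp_of_valuationRing (algebraMap V R) g hg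
    have hex : ∀ x, ∃ v, algebraMap V K v = g x := fun x => by
      obtain ⟨v, hv⟩ := hbij.2 ⟨g x, x, rfl⟩
      exact ⟨v, (RingHom.congr_fun hg v).symm.trans (congrArg Subtype.val hv)⟩
    choose ψ hψ using hex
    have hinj := IsFractionRing.injective V K
    have hker : ∀ x, g x = 0 ↔ x ∈ Q := fun x => by
      change e.symm (algebraMap R RQ x) = 0 ↔ _
      rw [map_eq_zero_iff _ e.symm.injective, ← not_iff_not]
      refine ⟨fun h hx => h ?_, fun hx h => hx ?_⟩
      · by_contra hne
        exact ((IsLocalization.AtPrime.isUnit_to_map_iff RQ Q x).mp (isUnit_iff_ne_zero.mpr hne)) hx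
      · obtain ⟨c, hc⟩ := (IsLocalization.map_eq_zero_iff Q.primeCompl RQ x).mp h
        exact (hQp.mem_or_mem (show (c : R) * x ∈ Q from hc ▸ Q.zero_mem)).resolve_left c.2
    let Ψ : R →ₐ[V] V :=
      { toFun := ψ
        map_one' := hinj (by rw [hψ, map_one, map_one])
        map_mul' := fun x y => hinj (by rw [hψ, map_mul, map_mul, hψ, hψ])
        map_zero' := hinj (by rw [hψ, map_zero, map_zero])
        map_add' := fun x y => hinj (by rw [hψ, map_add, map_add, hψ, hψ])
        commutes' := fun v => hinj (by rw [hψ]; exact RingHom.congr_fun hg v) }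
    refine ⟨Ψ, Ideal.ext fun x => ?_, fun x => ?_⟩
    · rw [RingHom.mem_ker, ← map_eq_zero_iff _ hinj, ← hker]
      exact (hψ x).congr_left
    · have hle : Q ≤ IsLocalRing.maximalIdeal R := IsLocalRing.le_maximalIdeal hQp.ne_top
      have hdiff : x - algebraMap V R (ψ x) ∈ IsLocalRing.maximalIdeal R := hle ((hker _).mp (by
        rw [map_sub, sub_eq_zero, ← hψ x]
        exact (RingHom.congr_fun hg (ψ x)).symm))
      change ψ x ∈ _ ↔ _
      rw [← IsLocalRing.maximalIdeal_comap (algebraMap V R), Ideal.mem_comap]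
      exact ⟨fun h => by simpa using add_mem hdiff h, fun h => by simpa using sub_mem h hdiff⟩
  have huniq : ∀ Q ∈ minimalPrimes R, ∀ Q' ∈ minimalPrimes R, Q = Q' := by
    intro Q hQ Q' hQ'
    obtain ⟨ψ, hk, hm⟩ := hsec Q hQ
    obtain ⟨ψ', hk', hm'⟩ := hsec Q' hQ'
    rw [← hk, ← hk']
    congr 1
    refine algHom_eq_of_sub_mem ψ ψ' fun b => ?_
    obtain ⟨a, ha⟩ := exists_sub_mem V R b
    have h1 := (hm _).mpr ha
    have h2 := (hm' _).mpr ha
    simp only [map_sub, AlgHom.commutes] at h1 h2
    simpa using sub_mem h1 h2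
  obtain ⟨Q, hQ⟩ := Ideal.nonempty_minimalPrimes (I := (⊥ : Ideal R)) bot_ne_top
  haveI : Q.IsPrime := hQ.1.1
  have hbot : Q = ⊥ := by
    have := Ideal.sInf_minimalPrimes (I := (⊥ : Ideal R))
    rw [show (⊥ : Ideal R).radical = ⊥ from nilradical_eq_zero R] at this
    rw [← this]
    exact le_antisymm (le_sInf fun Q' hQ' => (huniq Q hQ Q' hQ').le) (sInf_le hQ)
  haveI : (⊥ : Ideal R).IsPrime := hbot ▸ ‹Q.IsPrime›
  exact IsDomain.of_bot_isPrime R

end Groth.L27.Olivier
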