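import Groth.Prelude.Def_EtCech
import Mathlib.Algebra.Category.Grp.Abelian
import Mathlib.CategoryTheory.Abelian.FunctorCategory
import Mathlib.CategoryTheory.Preadditive.Injective.Basic
import Mathlib.CategoryTheory.Limits.Shapes.ConcreteCategory
import Mathlib.Algebra.Homology.ShortComplex.Ab

/-!
Čech cohomology of injective presheaves of abelian groups vanishes in positive degrees.
-/

set_option autoImplicit false
set_option linter.style.haveILetI false
set_option backward.defeqAttrib.useBackward true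
set_option backward.isDefEq.respectTransparency false

universe w v u

open CategoryTheory CategoryTheory.Limits Opposite Simplicial

namespace Groth.L27.CechInj

section Lin

variable {S A : Type*} [AddCommGroup A]

/-- Linear extension. -/
noncomputable def lin (f : S → A) : (S →₀ ℤ) →+ A :=
  Finsupp.liftAddHom fun s => zmultiplesHom A (f s)

lemma lin_single (f : S → A) (s : S) : lin f (Finsupp.single s 1) = f s := by
  simp [lin]

lemma lin_ext {g g' : (S →₀ ℤ) →+ A} (h : ∀ s, g (Finsupp.single s 1) = g' (Finsupp.single s 1)) :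
    g = g' :=
  Finsupp.addHom_ext' fun s => AddMonoidHom.ext_int (h s)

end Lin

variable {C : Type u} [Category.{v} C] {U : C} [HasFiniteProducts (Over U)]
  {ι : Type w} (Uf : ι → Over U)

/-- The product of a tuple. -/
noncomputable abbrev tup {n : ℕ} (a : Fin (n + 1) → ι) : Over U := ∏ᶜ (Uf ∘ a)

/-- The faces. -/
noncomputable abbrev face {n : ℕ} (j : Fin (n + 2)) (a : Fin (n + 2) → ι) :
    tup Uf a ⟶ tup Uf (a ∘ j.succAbove) :=
  Pi.lift fun k => Pi.π (Uf ∘ a) (j.succAbove k)

section Elementwise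

variable {Uf}

/-- Coordinates of cochains. -/
noncomputable def co {P : Cᵒᵖ ⥤ AddCommGrpCat.{w}} {n : ℕ} (a : Fin (n + 1) → ι) :
    ((EtCech.cechComplex Uf P).X n : Type w) →+ P.obj (op (tup Uf a).left) :=
  (Pi.π (fun i : Fin (n + 1) → ι => P.obj (op (tup Uf i).left)) a).hom

/-- Constructor for cochains. -/
noncomputable def mk {P : Cᵒᵖ ⥤ AddCommGrpCat.{w}} {n : ℕ}
    (x : ∀ a : Fin (n + 1) → ι, P.obj (op (tup Uf a).left)) : (EtCech.cechComplex Uf P).X n :=
  (Concrete.productEquiv (fun i : Fin (n + 1) → ι => P.obj (op (tup Uf i).left))).symm x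

theorem co_mk {P : Cᵒᵖ ⥤ AddCommGrpCat.{w}} {n : ℕ}
    (x : ∀ a : Fin (n + 1) → ι, P.obj (op (tup Uf a).left)) (a : Fin (n + 1) → ι) :
    co a (mk x) = x a :=
  Concrete.productEquiv_symm_apply_π _ _ _

theorem co_ext {P : Cᵒᵖ ⥤ AddCommGrpCat.{w}} {n : ℕ} {x y : (EtCech.cechComplex Uf P).X n}
    (h : ∀ a, co a x = co a y) : x = y :=
  (Concrete.productEquiv (fun i : Fin (n + 1) → ι => P.obj (op (tup Uf i).left))).injective
    (funext fun a => (Concrete.productEquiv_apply_apply _ x a).trans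
      ((h a).trans (Concrete.productEquiv_apply_apply _ y a).symm))

theorem co_d {P : Cᵒᵖ ⥤ AddCommGrpCat.{w}} {n : ℕ} (a : Fin (n + 2) → ι)
    (x : (EtCech.cechComplex Uf P).X n) :
    co a ((EtCech.cechComplex Uf P).d n (n + 1) x) =
      ∑ j : Fin (n + 2), (-1 : ℤ) ^ (j : ℕ) •
        P.map (face Uf j a).left.op (co (a ∘ j.succAbove) x) := by
  let Z : CosimplicialObject AddCommGrpCat.{w} :=
    (FormalCoproduct.cosimplicialObjectFunctor (FormalCoproduct.mk _ Uf).cech).obj
      ((Over.forget U).op ⋙ P)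
  have h : ∀ j : Fin (n + 2), co a (Z.δ j x) =
      P.map (face Uf j a).left.op (co (a ∘ j.succAbove) x) := fun j => by
    change (Z.δ j ≫ Pi.π (fun i : Fin (n + 2) → ι => P.obj (op (tup Uf i).left)) a) x = _
    simp [Z, CosimplicialObject.δ]
    rfl
  have hd : (EtCech.cechComplex Uf P).d n (n + 1) =
      AlgebraicTopology.AlternatingCofaceMapComplex.objD Z n :=
    @CochainComplex.of_d AddCommGrpCat.{w} _ _ ℕ _ _ _
      (fun m : ℕ => (Z.obj (SimplexCategory.mk m) : AddCommGrpCat.{w}))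
      (AlgebraicTopology.AlternatingCofaceMapComplex.objD Z) n
  rw [hd, AlgebraicTopology.AlternatingCofaceMapComplex.objD]
  change co a ((AddCommGrpCat.homAddEquiv (∑ i : Fin (n + 2), (-1 : ℤ) ^ (i : ℕ) • Z.δ i)) x) = _
  simp only [map_sum, map_zsmul, AddMonoidHom.finsetSum_apply, AddMonoidHom.smul_apply]
  exact Finset.sum_congr rfl fun j _ => congrArg _ (h j)

end Elementwise

section Simp

variable [LocallySmall.{w} C]

/-- A vertex over `V`: a member of the family and a morphism to it. -/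
def Vert (V : C) : Type w := Σ i : ι, Shrink.{w} (V ⟶ (Uf i).left)

variable {Uf}

/-- The morphism of a vertex. -/
noncomputable def Vert.hom {V : C} (s : Vert Uf V) : V ⟶ (Uf s.1).left := (equivShrink _).symm s.2

/-- The base of a vertex. -/
noncomputable def Vert.base {V : C} (s : Vert Uf V) : V ⟶ U := s.hom ≫ (Uf s.1).hom

/-- Constructor. -/
noncomputable def Vert.mk {V : C} (i : ι) (g : V ⟶ (Uf i).left) : Vert Uf V := ⟨i, equivShrink _ g⟩

lemma Vert.hom_mk {V : C} (i : ι) (g : V ⟶ (Uf i).left) : (Vert.mk (Uf := Uf) i g).hom = g :=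
  (equivShrink _).symm_apply_apply g

lemma Vert.mk_hom {V : C} (s : Vert Uf V) : Vert.mk s.1 s.hom = s :=
  Sigma.ext rfl (heq_of_eq ((equivShrink _).apply_symm_apply s.2))

/-- Restriction of vertices. -/
noncomputable def Vert.res {V W : C} (g : W ⟶ V) (s : Vert Uf V) : Vert Uf W := Vert.mk s.1 (g ≫ s.hom)

lemma Vert.base_res {V W : C} (g : W ⟶ V) (s : Vert Uf V) : (s.res g).base = g ≫ s.base := by
  show (Vert.mk s.1 (g ≫ s.hom)).hom ≫ _ = _
  rw [Vert.hom_mk]
  exact Category.assoc _ _ _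

variable (Uf)

/-- The simplices over `V`. -/
def Smp (V : C) (n : ℕ) : Type w :=
  {x : Fin (n + 1) → Vert Uf V // ∀ k l, (x k).base = (x l).base}

variable {Uf}

/-- Restriction of simplices. -/
noncomputable def Smp.res {V W : C} {n : ℕ} (g : W ⟶ V) (x : Smp Uf V n) : Smp Uf W n :=
  ⟨fun k => (x.1 k).res g, fun k l => by rw [Vert.base_res, Vert.base_res, x.2 k l]⟩

/-- Faces of simplices. -/
def Smp.face {V : C} {n : ℕ} (j : Fin (n + 2)) (x : Smp Uf V (n + 1)) : Smp Uf V n :=
  ⟨fun k => x.1 (j.succAbove k), fun _ _ => x.2 _ _⟩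

lemma Smp.res_id {V : C} {n : ℕ} (x : Smp Uf V n) : x.res (𝟙 V) = x :=
  Subtype.ext (funext fun k => by
    show Vert.mk (x.1 k).1 (𝟙 V ≫ (x.1 k).hom) = x.1 k
    rw [Category.id_comp, Vert.mk_hom])

lemma Smp.res_comp {V W W' : C} {n : ℕ} (g : W ⟶ V) (g' : W' ⟶ W) (x : Smp Uf V n) :
    x.res (g' ≫ g) = (x.res g).res g' :=
  Subtype.ext (funext fun k => by
    show Vert.mk (x.1 k).1 ((g' ≫ g) ≫ (x.1 k).hom) =
      Vert.mk (x.1 k).1 (g' ≫ (Vert.mk (x.1 k).1 (g ≫ (x.1 k).hom)).hom)
    rw [Category.assoc, Vert.hom_mk])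

/-- The index tuple of a simplex. -/
def Smp.idx {V : C} {n : ℕ} (x : Smp Uf V n) : Fin (n + 1) → ι := fun k => (x.1 k).1

/-- The morphism to the product given by a simplex. -/
noncomputable def Smp.lift {V : C} {n : ℕ} (x : Smp Uf V n) : V ⟶ (tup Uf x.idx).left :=
  (Pi.lift (f := Uf ∘ x.idx) fun k =>
    (Over.homMk (x.1 k).hom (x.2 k 0) : Over.mk (x.1 0).base ⟶ Uf (x.1 k).1)).left

lemma Smp.lift_π {V : C} {n : ℕ} (x : Smp Uf V n) (k : Fin (n + 1)) :
    x.lift ≫ (Pi.π (Uf ∘ x.idx) k).left = (x.1 k).hom := by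
  rw [Smp.lift, ← Over.comp_left, Pi.lift_π]
  rfl

lemma tup_hom_ext {n : ℕ} (a : Fin (n + 1) → ι) {V : C} (h h' : V ⟶ (tup Uf a).left)
    (hh : ∀ k, h ≫ (Pi.π (Uf ∘ a) k).left = h' ≫ (Pi.π (Uf ∘ a) k).left) : h = h' := by
  have w : h ≫ (tup Uf a).hom = h' ≫ (tup Uf a).hom := by
    rw [← Over.w (Pi.π (Uf ∘ a) 0), ← Category.assoc, ← Category.assoc]
    exact congrArg (· ≫ _) (hh 0)
  let W : Over U := Over.mk (h ≫ (tup Uf a).hom)
  have : (Over.homMk h rfl : W ⟶ tup Uf a) = Over.homMk h' w.symm := by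
    refine Pi.hom_ext _ _ fun k => ?_
    ext
    simpa using hh k
  exact congrArg CommaMorphism.left this

lemma Smp.lift_res {V W : C} {n : ℕ} (g : W ⟶ V) (x : Smp Uf V n) :
    (x.res g).lift = g ≫ x.lift :=
  tup_hom_ext _ _ _ fun k =>
    (Smp.lift_π (x.res g) k).trans ((Vert.hom_mk _ _).trans
      ((congrArg (g ≫ ·) (Smp.lift_π x k).symm).trans (Category.assoc _ _ _).symm))

lemma Smp.lift_face {V : C} {n : ℕ} (j : Fin (n + 2)) (x : Smp Uf V (n + 1)) :
    (x.face j).lift = x.lift ≫ (CechInj.face Uf j x.idx).left :=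
  tup_hom_ext _ _ _ fun k => by
    refine (Smp.lift_π (x.face j) k).trans ?_
    rw [Category.assoc]
    refine Eq.trans ?_ (congrArg (x.lift ≫ ·) (congrArg CommaMorphism.left
      (Pi.lift_π (fun k => Pi.π (Uf ∘ x.idx) (j.succAbove k)) k))).symm
    exact (Smp.lift_π x (j.succAbove k)).symm

/-- The universal simplex. -/
noncomputable def univ {n : ℕ} (a : Fin (n + 1) → ι) : Smp Uf (tup Uf a).left n :=
  ⟨fun k => Vert.mk (a k) (Pi.π (Uf ∘ a) k).left, fun k l => by
    show (Vert.mk (a k) (Pi.π (Uf ∘ a) k).left).hom ≫ _ = (Vert.mk (a l) (Pi.π (Uf ∘ a) l).left).hom ≫ _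
    rw [Vert.hom_mk, Vert.hom_mk]
    exact (Over.w (Pi.π (Uf ∘ a) k)).trans (Over.w (Pi.π (Uf ∘ a) l)).symm⟩

lemma lift_univ {n : ℕ} (a : Fin (n + 1) → ι) : (univ (Uf := Uf) a).lift = 𝟙 _ :=
  tup_hom_ext a _ _ fun k =>
    (Smp.lift_π (univ a) k).trans ((Vert.hom_mk _ _).trans (Category.id_comp _).symm)

lemma res_univ {n : ℕ} (j : Fin (n + 2)) (a : Fin (n + 2) → ι) :
    (univ (Uf := Uf) (a ∘ j.succAbove)).res (face Uf j a).left = (univ a).face j :=
  Subtype.ext (funext fun k => by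
    show Vert.mk (a (j.succAbove k)) ((face Uf j a).left ≫
      (Vert.mk (a (j.succAbove k)) (Pi.π (Uf ∘ (a ∘ j.succAbove)) k).left).hom) =
        Vert.mk (a (j.succAbove k)) (Pi.π (Uf ∘ a) (j.succAbove k)).left
    rw [Vert.hom_mk, ← Over.comp_left, Pi.lift_π])

/-- A chosen vertex with given base. -/
noncomputable def pick {V : C} (c : V ⟶ U) (h : ∃ s : Vert Uf V, s.base = c) : Vert Uf V := h.choose

lemma base_pick {V : C} (c : V ⟶ U) (h : ∃ s : Vert Uf V, s.base = c) : (pick c h).base = c :=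
  h.choose_spec

lemma pick_congr {V : C} {c c' : V ⟶ U} (e : c = c') (h : ∃ s : Vert Uf V, s.base = c) :
    pick c h = pick c' (e ▸ h) := by
  subst e; rfl

/-- The cone on a simplex. -/
noncomputable def Smp.cone {V : C} {n : ℕ} (x : Smp Uf V n) : Smp Uf V (n + 1) :=
  ⟨Fin.cons (pick (x.1 0).base ⟨x.1 0, rfl⟩) x.1, by
    intro k l
    induction k using Fin.cases with
    | zero =>
      induction l using Fin.cases with
      | zero => rfl
      | succ l => rw [Fin.cons_zero, Fin.cons_succ, base_pick]; exact x.2 0 l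
    | succ k =>
      induction l using Fin.cases with
      | zero => rw [Fin.cons_zero, Fin.cons_succ, base_pick]; exact x.2 k 0
      | succ l => rw [Fin.cons_succ, Fin.cons_succ]; exact x.2 k l⟩

lemma Smp.face_val {V : C} {n : ℕ} (j : Fin (n + 2)) (x : Smp Uf V (n + 1)) (k : Fin (n + 1)) :
    (x.face j).1 k = x.1 (j.succAbove k) := rfl

lemma Smp.cone_val {V : C} {n : ℕ} (x : Smp Uf V n) :
    x.cone.1 = Fin.cons (α := fun _ => Vert Uf V) (pick (x.1 0).base ⟨x.1 0, rfl⟩) x.1 := rfl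

lemma Smp.face_cone_zero {V : C} {n : ℕ} (x : Smp Uf V n) : x.cone.face 0 = x :=
  Subtype.ext (funext fun k => by
    rw [Smp.face_val, Fin.succAbove_zero, Smp.cone_val]
    exact Fin.cons_succ _ _ _)

lemma Smp.face_cone_succ {V : C} {n : ℕ} (j : Fin (n + 2)) (x : Smp Uf V (n + 1)) :
    x.cone.face j.succ = (x.face j).cone :=
  Subtype.ext (funext fun k => by
    rw [Smp.face_val, Smp.cone_val, Smp.cone_val]
    induction k using Fin.cases with
    | zero =>
      rw [Fin.succ_succAbove_zero]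
      rw [Fin.cons_zero, Fin.cons_zero]
      exact pick_congr (x.2 0 _) _
    | succ k =>
      rw [Fin.succ_succAbove_succ]
      rw [Fin.cons_succ, Fin.cons_succ]
      rfl)

variable (Uf)

/-- The free presheaf on simplices. -/
noncomputable def M (n : ℕ) : Cᵒᵖ ⥤ AddCommGrpCat.{w} where
  obj V := AddCommGrpCat.of (Smp Uf V.unop n →₀ ℤ)
  map g := AddCommGrpCat.ofHom (Finsupp.mapDomain.addMonoidHom (Smp.res g.unop))
  map_id V := by
    refine AddCommGrpCat.hom_ext (lin_ext fun x => ?_)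
    show Finsupp.mapDomain _ _ = _
    rw [Finsupp.mapDomain_single]
    exact congrArg (Finsupp.single · (1 : ℤ)) x.res_id
  map_comp g g' := by
    refine AddCommGrpCat.hom_ext (lin_ext fun x => ?_)
    show Finsupp.mapDomain _ _ = Finsupp.mapDomain _ (Finsupp.mapDomain _ _)
    simp only [Finsupp.mapDomain_single]
    exact congrArg (Finsupp.single · (1 : ℤ)) (x.res_comp g.unop g'.unop)

lemma M_map_single (n : ℕ) {V W : Cᵒᵖ} (g : V ⟶ W) (x : Smp Uf V.unop n) :
    (M Uf n).map g (Finsupp.single x 1) = Finsupp.single (x.res g.unop) 1 :=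
  Finsupp.mapDomain_single

/-- The differential. -/
noncomputable def dM (V : C) (n : ℕ) : (Smp Uf V (n + 1) →₀ ℤ) →+ (Smp Uf V n →₀ ℤ) :=
  lin fun x => ∑ j : Fin (n + 2), (-1 : ℤ) ^ (j : ℕ) • Finsupp.single (x.face j) (1 : ℤ)

lemma dM_single (V : C) (n : ℕ) (x : Smp Uf V (n + 1)) :
    dM Uf V n (Finsupp.single x 1) =
      ∑ j : Fin (n + 2), (-1 : ℤ) ^ (j : ℕ) • Finsupp.single (x.face j) (1 : ℤ) :=
  lin_single _ _

lemma dM_natural {V W : Cᵒᵖ} (g : V ⟶ W) (n : ℕ) (y : Smp Uf V.unop (n + 1) →₀ ℤ) :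
    (M Uf n).map g (dM Uf V.unop n y) = dM Uf W.unop n ((M Uf (n + 1)).map g y) := by
  suffices h : ((M Uf n).map g).hom.comp (dM Uf V.unop n) =
      (dM Uf W.unop n).comp ((M Uf (n + 1)).map g).hom from DFunLike.congr_fun h y
  refine lin_ext fun x => ?_
  show (M Uf n).map g (dM Uf V.unop n (Finsupp.single x 1)) =
    dM Uf W.unop n ((M Uf (n + 1)).map g (Finsupp.single x 1))
  rw [dM_single, M_map_single, dM_single, map_sum]
  refine Finset.sum_congr rfl fun j _ => ?_
  rw [map_zsmul, M_map_single]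
  rfl

lemma homotopy (V : C) (n : ℕ) (y : Smp Uf V (n + 1) →₀ ℤ) (hy : dM Uf V n y = 0) :
    dM Uf V (n + 1) (lin (fun x => Finsupp.single x.cone (1 : ℤ)) y) = y := by
  have h : (dM Uf V (n + 1)).comp (lin fun x : Smp Uf V (n + 1) => Finsupp.single x.cone (1 : ℤ)) +
      (lin fun x : Smp Uf V n => Finsupp.single x.cone (1 : ℤ)).comp (dM Uf V n) =
        AddMonoidHom.id _ := by
    refine lin_ext fun x => ?_
    rw [AddMonoidHom.add_apply, AddMonoidHom.comp_apply, AddMonoidHom.comp_apply, lin_single,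
      dM_single, dM_single, Fin.sum_univ_succ, map_sum, AddMonoidHom.id_apply]
    simp only [Fin.val_zero, pow_zero, one_smul, Smp.face_cone_zero, Smp.face_cone_succ, map_zsmul,
      lin_single, Fin.val_succ, pow_succ, mul_neg, mul_one, neg_smul, Finset.sum_neg_distrib]
    abel
  have := DFunLike.congr_fun h y
  rwa [AddMonoidHom.add_apply, AddMonoidHom.comp_apply, AddMonoidHom.comp_apply, hy, map_zero,
    add_zero] at this

/-- The image of the differential as a presheaf. -/
noncomputable def Rng (n : ℕ) : Cᵒᵖ ⥤ AddCommGrpCat.{w} where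
  obj V := AddCommGrpCat.of (dM Uf V.unop n).range
  map {V W} g := AddCommGrpCat.ofHom
    ((((M Uf n).map g).hom.comp (dM Uf V.unop n).range.subtype).codRestrict _ fun r => by
      obtain ⟨y, hy⟩ := r.2
      exact ⟨(M Uf (n + 1)).map g y, ((dM_natural Uf g n y).symm.trans
        (congrArg ((M Uf n).map g) hy))⟩)
  map_id V := by
    refine AddCommGrpCat.hom_ext (AddMonoidHom.ext fun r => Subtype.ext ?_)
    exact ConcreteCategory.congr_hom ((M Uf n).map_id V) r.1
  map_comp g g' := by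
    refine AddCommGrpCat.hom_ext (AddMonoidHom.ext fun r => Subtype.ext ?_)
    exact ConcreteCategory.congr_hom ((M Uf n).map_comp g g') r.1

/-- The inclusion. -/
noncomputable def rngι (n : ℕ) : Rng Uf n ⟶ M Uf n where
  app V := AddCommGrpCat.ofHom (dM Uf V.unop n).range.subtype

instance (n : ℕ) : Mono (rngι Uf n) :=
  haveI : ∀ V, Mono ((rngι Uf n).app V) := fun V =>
    (AddCommGrpCat.mono_iff_injective _).2 Subtype.val_injective
  NatTrans.mono_of_mono_app _

variable (I : Cᵒᵖ ⥤ AddCommGrpCat.{w})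

/-- The map out of simplices given by a cochain. -/
noncomputable def phi (n : ℕ) (z : (EtCech.cechComplex Uf I).X n) (V : C) :
    (Smp Uf V n →₀ ℤ) →+ I.obj (op V) :=
  lin fun x => I.map x.lift.op (co x.idx z)

lemma phi_natural {n : ℕ} (z : (EtCech.cechComplex Uf I).X n) {V W : Cᵒᵖ} (g : V ⟶ W)
    (y : Smp Uf V.unop n →₀ ℤ) :
    I.map g (phi Uf I n z V.unop y) = phi Uf I n z W.unop ((M Uf n).map g y) := by
  suffices h : (I.map g).hom.comp (phi Uf I n z V.unop) =
      (phi Uf I n z W.unop).comp ((M Uf n).map g).hom from DFunLike.congr_fun h y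
  refine lin_ext fun x => ?_
  show I.map g (phi Uf I n z V.unop (Finsupp.single x 1)) =
    phi Uf I n z W.unop ((M Uf n).map g (Finsupp.single x 1))
  rw [M_map_single, phi, phi, lin_single, lin_single, Smp.lift_res, op_comp, Functor.map_comp,
    ConcreteCategory.comp_apply]
  rfl

lemma phi_dM {n : ℕ} (z : (EtCech.cechComplex Uf I).X n) {V : C}
    (y : Smp Uf V (n + 1) →₀ ℤ) :
    phi Uf I n z V (dM Uf V n y) =
      phi Uf I (n + 1) ((EtCech.cechComplex Uf I).d n (n + 1) z) V y := by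
  suffices h : (phi Uf I n z V).comp (dM Uf V n) =
      phi Uf I (n + 1) ((EtCech.cechComplex Uf I).d n (n + 1) z) V from DFunLike.congr_fun h y
  refine lin_ext fun x => ?_
  rw [AddMonoidHom.comp_apply, dM_single, map_sum, phi, phi, lin_single, co_d, map_sum]
  refine Finset.sum_congr rfl fun j _ => ?_
  rw [map_zsmul, lin_single, map_zsmul, Smp.lift_face, op_comp, Functor.map_comp,
    ConcreteCategory.comp_apply]
  rfl

theorem exactAt [Injective I] (n : ℕ) : (EtCech.cechComplex Uf I).ExactAt (n + 1) := by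
  rw [HomologicalComplex.exactAt_iff' _ n (n + 1) (n + 2) (by simp) (by simp),
    ShortComplex.ab_exact_iff]
  intro z hz
  change (EtCech.cechComplex Uf I).d (n + 1) (n + 2) z = 0 at hz
  have hker : ∀ (V : C) (y : Smp Uf V (n + 1) →₀ ℤ), dM Uf V n y = 0 →
      phi Uf I (n + 1) z V y = 0 := by
    intro V y hy
    rw [← homotopy Uf V n y hy, phi_dM, hz]
    have : phi Uf I (n + 2) (0 : (EtCech.cechComplex Uf I).X (n + 2)) V = 0 :=
      lin_ext fun x => by rw [phi, lin_single, map_zero, map_zero]; rfl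
    rw [this]
    rfl
  have hwell : ∀ (V : C) (y y' : Smp Uf V (n + 1) →₀ ℤ), dM Uf V n y = dM Uf V n y' →
      phi Uf I (n + 1) z V y = phi Uf I (n + 1) z V y' := fun V y y' e =>
    sub_eq_zero.1 (by rw [← map_sub]; exact hker V _ (by rw [map_sub, e, sub_self]))
  let bar : ∀ V : Cᵒᵖ, (dM Uf V.unop n).range →+ I.obj V := fun V =>
    AddMonoidHom.mk' (fun r => phi Uf I (n + 1) z V.unop r.2.choose) fun r r' => by
      rw [← map_add]
      exact hwell _ _ _ ((r + r').2.choose_spec.trans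
        ((congrArg₂ (· + ·) r.2.choose_spec r'.2.choose_spec).symm.trans (map_add _ _ _).symm))
  let barN : Rng Uf n ⟶ I :=
    { app := fun V => AddCommGrpCat.ofHom (bar V)
      naturality := fun V W g => by
        refine AddCommGrpCat.hom_ext (AddMonoidHom.ext fun r => ?_)
        refine Eq.trans ?_ (phi_natural Uf I z g r.2.choose).symm
        refine hwell _ _ _ ?_
        refine ((Rng Uf n).map g r).2.choose_spec.trans ?_
        show (M Uf n).map g r.1 = _
        rw [← dM_natural, r.2.choose_spec] }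
  let ψ : M Uf n ⟶ I := Injective.factorThru barN (rngι Uf n)
  have hψ : ∀ (V : C) (y : Smp Uf V (n + 1) →₀ ℤ),
      ψ.app (op V) (dM Uf V n y) = phi Uf I (n + 1) z V y := by
    intro V y
    have h := ConcreteCategory.congr_hom
      (congrArg (fun α => α.app (op V)) (Injective.comp_factorThru barN (rngι Uf n)))
      (⟨dM Uf V n y, y, rfl⟩ : (dM Uf V n).range)
    refine h.trans ?_
    exact hwell _ _ _ (Exists.choose_spec (⟨y, rfl⟩ : ∃ y', dM Uf V n y' = dM Uf V n y))
  refine ⟨mk fun a => ψ.app _ (Finsupp.single (univ a) 1), co_ext fun a => ?_⟩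
  show co a ((EtCech.cechComplex Uf I).d n (n + 1) _) = co a z
  rw [co_d]
  simp only [co_mk]
  have h2 : ∀ j : Fin (n + 2),
      I.map (face Uf j a).left.op (ψ.app _ (Finsupp.single (univ (a ∘ j.succAbove)) 1)) =
        ψ.app _ (Finsupp.single ((univ a).face j) 1) := fun j => by
    rw [← res_univ j a]
    refine ((NatTrans.naturality_apply ψ (face Uf j a).left.op _).symm).trans ?_
    exact congrArg _ (M_map_single Uf n (face Uf j a).left.op (univ (a ∘ j.succAbove)))
  simp only [h2, ← map_zsmul]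
  rw [← map_sum]
  refine (congrArg (ψ.app _) (dM_single Uf _ n (univ a)).symm).trans ?_
  rw [hψ, phi, lin_single, lift_univ]
  exact ConcreteCategory.congr_hom (I.map_id _) _

theorem isZero_cechH [Injective I] (p : ℕ) : IsZero (EtCech.cechH Uf I (p + 1)) :=
  (HomologicalComplex.exactAt_iff_isZero_homology _ _).1 (exactAt Uf I p)

end Simp

end Groth.L27.CechInj
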