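import Mathlib.AlgebraicGeometry.Scheme

/-! # Idempotent functions from open-closed subsets of a scheme -/

set_option autoImplicit false
set_option backward.isDefEq.respectTransparency false
set_option linter.style.haveILetI false

universe u

open CategoryTheory AlgebraicGeometry TopologicalSpace Opposite

namespace Groth.L27.ClopenIdem

theorem exists_idem (X : Scheme.{u}) (U : X.Opens) (hU : IsClosed (U : Set X)) :
    ∃ e : Γ(X, ⊤), IsIdempotentElem e ∧ X.basicOpen e = U := by
  let U' : X.Opens := ⟨(U : Set X)ᶜ, hU.isOpen_compl⟩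
  let W : Bool → X.Opens := fun b => if b then U else U'
  let sf : ∀ b, Γ(X, W b) := fun b => if b then 1 else 0
  have hcov : (⊤ : X.Opens) ≤ iSup W := fun x _ => by
    by_cases hx : x ∈ U
    · exact Opens.mem_iSup.mpr ⟨true, hx⟩
    · exact Opens.mem_iSup.mpr ⟨false, hx⟩
  have hdisj : ∀ b c, b ≠ c → W b ⊓ W c = ⊥ := by
    intro b c hbc
    apply Opens.ext
    rcases b with _ | _ <;> rcases c with _ | _ <;> first | exact absurd rfl hbc | simp [W, U']
  have compat : TopCat.Presheaf.IsCompatible X.presheaf W sf := by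
    intro b c
    by_cases hbc : b = c
    · subst hbc; rfl
    · haveI : Subsingleton Γ(X, W b ⊓ W c) := by
        rw [hdisj b c hbc]
        exact CommRingCat.subsingleton_of_isTerminal X.sheaf.isTerminalOfEmpty
      exact Subsingleton.elim _ _
  obtain ⟨e, he, -⟩ := X.sheaf.existsUnique_gluing' W ⊤ (fun b => homOfLE le_top) hcov sf compat
  refine ⟨e, ?_, ?_⟩
  · refine X.sheaf.eq_of_locally_eq' W ⊤ (fun b => homOfLE le_top) hcov _ _ fun b => ?_
    refine (map_mul (X.presheaf.map (homOfLE (le_top : W b ≤ ⊤)).op).hom e e).trans ?_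
    erw [he b]
    cases b <;> simp [sf]
  · have h : ∀ b, W b ⊓ X.basicOpen e = X.basicOpen (sf b) := fun b => by
      rw [← he b]
      exact (X.basicOpen_res e (homOfLE le_top).op).symm
    have h1 : U ⊓ X.basicOpen e = X.basicOpen (1 : Γ(X, U)) := h true
    have h2 : U' ⊓ X.basicOpen e = X.basicOpen (0 : Γ(X, U')) := h false
    rw [Scheme.basicOpen_zero] at h2
    rw [Scheme.basicOpen_of_isUnit X isUnit_one] at h1
    apply le_antisymm
    · intro x hx
      by_contra hxU
      exact (h2.le ⟨hxU, hx⟩ : x ∈ (⊥ : X.Opens))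
    · exact inf_eq_left.mp h1

end Groth.L27.ClopenIdem
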