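import Groth.Agent.L27.WLocal
import Mathlib.Topology.Separation.Regular

/-! Pullbacks of spectral spaces along profinite sets over their components. -/

set_option autoImplicit false
set_option linter.unusedSectionVars false
set_option linter.style.haveILetI false
universe u

open Topology Set TopologicalSpace

namespace Groth.L27.ProfinitePullback

variable {X T : Type u} [TopologicalSpace X] [SpectralSpace X]
  [TopologicalSpace T] [CompactSpace T] [T2Space T] [TotallyDisconnectedSpace T]

theorem t2_components : T2Space (ConnectedComponents X) := by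
  refine ⟨fun a b hab => ?_⟩
  obtain ⟨x, rfl⟩ := ConnectedComponents.surjective_coe a
  obtain ⟨y, rfl⟩ := ConnectedComponents.surjective_coe b
  have hy : y ∉ connectedComponent x := fun h => hab (ConnectedComponents.coe_eq_coe'.mpr h).symm
  obtain ⟨w, hwy, hwc⟩ := (isClosed_closure (s := {y})).exists_closed_singleton ⟨y, subset_closure rfl⟩
  have hwyc : w ∈ connectedComponent y :=
    isPreconnected_singleton.closure.subset_connectedComponent (subset_closure rfl) hwy
  have hsub : connectedComponent x ⊆ ({w} : Set X)ᶜ := fun z hz hzw => hab (by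
    rw [mem_singleton_iff] at hzw
    subst hzw
    exact (ConnectedComponents.coe_eq_coe'.mpr hz).symm.trans (ConnectedComponents.coe_eq_coe'.mpr hwyc))
  obtain ⟨W, hW, hxW, hWw⟩ := Spectral.exists_clopen_subset_of_component_subset hwc.isOpen_compl hsub
  have hpre : ∀ S : Set X, IsClopen S →
      ConnectedComponents.mk ⁻¹' (ConnectedComponents.mk '' S) = S := fun S hS => by
    refine Subset.antisymm ?_ (subset_preimage_image _ _)
    rintro z ⟨s, hs, hsz⟩
    exact hS.connectedComponent_subset hs (ConnectedComponents.coe_eq_coe'.mp hsz.symm)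
  have hop : ∀ S : Set X, IsClopen S → IsOpen (ConnectedComponents.mk '' S) := fun S hS => by
    rw [← ConnectedComponents.isQuotientMap_coe.isOpen_preimage, hpre S hS]
    exact hS.2
  refine ⟨_, _, hop W hW, hop Wᶜ hW.compl, ⟨x, hxW, rfl⟩, ⟨y, ?_, rfl⟩, ?_⟩
  · exact fun hyW => hWw (hW.connectedComponent_subset hyW hwyc) rfl
  · rw [Set.disjoint_left]
    rintro _ ⟨s, hs, rfl⟩ ⟨t, ht, hts⟩
    exact ht (hW.connectedComponent_subset hs (ConnectedComponents.coe_eq_coe'.mp hts))

theorem boxes_basis : IsTopologicalBasis (image2 (· ×ˢ ·) {U : Set X | IsOpen U ∧ IsCompact U}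
    {V : Set T | IsClopen V}) :=
  PrespectralSpace.isTopologicalBasis.prod loc_compact_Haus_tot_disc_of_zero_dim

theorem spectralSpace_prod : SpectralSpace (X × T) := by
  have hB := boxes_basis (X := X) (T := T)
  have hBc : ∀ b ∈ image2 (· ×ˢ ·) {U : Set X | IsOpen U ∧ IsCompact U} {V : Set T | IsClopen V},
      IsCompact b := by
    rintro _ ⟨U, hU, V, hV, rfl⟩
    exact hU.2.prod hV.1.isCompact
  haveI : PrespectralSpace (X × T) := .of_isTopologicalBasis hB hBc
  haveI : QuasiSober (X × T) := by
    refine ⟨fun {S} hirr hS => ?_⟩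
    have h1 : (Prod.snd '' S).Subsingleton := by
      have := hirr.image Prod.snd continuous_snd.continuousOn
      exact isIrreducible_iff_singleton.mp this |>.elim fun t ht => ht ▸ subsingleton_singleton
    obtain ⟨⟨x₀, t⟩, hx₀⟩ := hirr.1
    have hSt : ∀ p ∈ S, p.2 = t := fun p hp => h1 ⟨p, hp, rfl⟩ ⟨_, hx₀, rfl⟩
    have hirr1 := hirr.image Prod.fst continuous_fst.continuousOn
    have hcl : IsClosed (Prod.fst '' S) := by
      have : Prod.fst '' S = (fun x => (x, t)) ⁻¹' S := by
        ext x
        refine ⟨?_, fun h => ⟨_, h, rfl⟩⟩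
        rintro ⟨p, hp, rfl⟩
        have := hSt p hp
        subst this
        exact hp
      rw [this]
      exact hS.preimage (by fun_prop)
    obtain ⟨x, hx⟩ := QuasiSober.sober hirr1 hcl
    refine ⟨(x, t), ?_⟩
    rw [isGenericPoint_def, ← singleton_prod_singleton, closure_prod_eq, hx.def, closure_singleton]
    ext ⟨a, b⟩
    refine ⟨?_, fun h => ⟨⟨_, h, rfl⟩, hSt _ h⟩⟩
    rintro ⟨⟨p, hp, rfl⟩, hb⟩
    rw [mem_singleton_iff] at hb
    obtain rfl : p.2 = b := (hSt p hp).trans hb.symm
    exact hp
  haveI : QuasiSeparatedSpace (X × T) := by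
    refine ⟨fun K L hKo hKc hLo hLc => ?_⟩
    have key : ∀ K : Set (X × T), IsOpen K → IsCompact K →
        ∃ s : Set (Set (X × T)), s.Finite ∧ s ⊆ image2 (· ×ˢ ·) {U : Set X | IsOpen U ∧ IsCompact U}
          {V : Set T | IsClopen V} ∧ K = ⋃₀ s := by
      intro K hKo hKc
      obtain ⟨S, hS, rfl⟩ := hB.open_eq_sUnion hKo
      rw [sUnion_eq_iUnion] at hKc
      obtain ⟨t, ht⟩ := hKc.elim_finite_subcover (fun i : S => (i : Set (X × T)))
        (fun i => hB.isOpen (hS i.2)) Subset.rfl
      refine ⟨(fun i : S => (i : Set (X × T))) '' t, t.finite_toSet.image _, ?_, ?_⟩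
      · rintro _ ⟨i, -, rfl⟩
        exact hS i.2
      · refine Subset.antisymm ?_ (sUnion_mono ?_)
        · rw [sUnion_eq_iUnion]
          refine ht.trans ?_
          intro p hp
          obtain ⟨i, hi, hp⟩ := mem_iUnion₂.mp hp
          exact ⟨_, ⟨i, hi, rfl⟩, hp⟩
        · rintro _ ⟨i, -, rfl⟩
          exact i.2
    obtain ⟨s, hsf, hs, rfl⟩ := key K hKo hKc
    obtain ⟨r, hrf, hr, rfl⟩ := key L hLo hLc
    rw [sUnion_inter_sUnion]
    refine (hsf.prod hrf).isCompact_biUnion fun p hp => ?_
    obtain ⟨U, hU, V, hV, h1⟩ := hs hp.1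
    obtain ⟨U', hU', V', hV', h2⟩ := hr hp.2
    rw [← h1, ← h2, prod_inter_prod]
    exact (hU.2.inter_of_isOpen hU'.2 hU.1 hU'.1).prod (hV.1.inter hV'.1).isCompact
  exact { }

variable (g : C(T, ConnectedComponents X))

/-- The pullback. -/
abbrev P : Set (X × T) := {p | ConnectedComponents.mk p.1 = g p.2}

theorem isClosed_P : IsClosed (P g) := by
  haveI := t2_components (X := X)
  exact isClosed_eq (ConnectedComponents.continuous_coe.comp continuous_fst) (g.continuous.comp continuous_snd)

theorem spectralSpace_P : SpectralSpace (P g) := by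
  haveI := spectralSpace_prod (X := X) (T := T)
  exact WLocal.spectralSpace_closed _ (isClosed_P g)

theorem components_P : ∃ e : ConnectedComponents (P g) ≃ₜ T,
    ∀ y : P g, e (ConnectedComponents.mk y) = y.1.2 := by
  haveI := spectralSpace_P g
  have hf : Continuous (fun y : P g => y.1.2) := continuous_snd.comp continuous_subtype_val
  let L := hf.connectedComponentsLift
  have hL : Continuous L := hf.connectedComponentsLift_continuous
  have hbij : Function.Bijective L := by
    refine ⟨fun a b hab => ?_, fun t => ?_⟩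
    · obtain ⟨⟨⟨x, t⟩, hx⟩, rfl⟩ := ConnectedComponents.surjective_coe a
      obtain ⟨⟨⟨x', t'⟩, hx'⟩, rfl⟩ := ConnectedComponents.surjective_coe b
      have htt : t = t' := by simpa [L, Continuous.connectedComponentsLift_apply_coe] using hab
      subst htt
      have hx'c : x' ∈ connectedComponent x :=
        ConnectedComponents.coe_eq_coe'.mp (hx'.trans hx.symm)
      let j : connectedComponent x → P g := fun z =>
        ⟨(z.1, t), (ConnectedComponents.coe_eq_coe'.mpr z.2).trans hx⟩
      have hj : Continuous j := (continuous_subtype_val.prodMk continuous_const).subtype_mk _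
      haveI : PreconnectedSpace (connectedComponent x) :=
        isPreconnected_iff_preconnectedSpace.mp isPreconnected_connectedComponent
      exact (ConnectedComponents.coe_eq_coe'.mpr ((isPreconnected_range hj).subset_connectedComponent
        ⟨⟨x, mem_connectedComponent⟩, rfl⟩ ⟨⟨x', hx'c⟩, rfl⟩)).symm
    · obtain ⟨x, hx⟩ := ConnectedComponents.surjective_coe (g t)
      exact ⟨ConnectedComponents.mk ⟨(x, t), hx⟩, Continuous.connectedComponentsLift_apply_coe hf _⟩
  exact ⟨(Continuous.homeoOfEquivCompactToT2 (f := Equiv.ofBijective L hbij) hL),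
    fun y => Continuous.connectedComponentsLift_apply_coe hf y⟩

theorem specializes_iff_P (y y' : P g) : y ⤳ y' ↔ y.1.1 ⤳ y'.1.1 ∧ y.1.2 = y'.1.2 := by
  rw [subtype_specializes_iff, specializes_prod]
  exact and_congr Iff.rfl (specializes_iff_eq (X := T))

theorem isClosed_singleton_iff_P (y : P g) :
    IsClosed ({y} : Set (P g)) ↔ IsClosed ({y.1.1} : Set X) := by
  haveI := spectralSpace_P g
  constructor
  · intro h
    rw [← closure_subset_iff_isClosed]
    intro z hz
    have hzc : z ∈ connectedComponent y.1.1 :=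
      isPreconnected_singleton.closure.subset_connectedComponent (subset_closure rfl) hz
    let y' : P g := ⟨(z, y.1.2), (ConnectedComponents.coe_eq_coe'.mpr hzc).trans y.2⟩
    have : y ⤳ y' := (specializes_iff_P g y y').mpr ⟨specializes_iff_mem_closure.mpr hz, rfl⟩
    have := h.closure_eq ▸ specializes_iff_mem_closure.mp this
    exact congrArg (fun w : P g => w.1.1) this
  · intro h
    rw [← closure_subset_iff_isClosed]
    intro z hz
    obtain ⟨h1, h2⟩ := (specializes_iff_P g y z).mp (specializes_iff_mem_closure.mpr hz)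
    have h3 := specializes_iff_mem_closure.mp h1
    rw [h.closure_eq, mem_singleton_iff] at h3
    exact Subtype.ext (Prod.ext h3 h2.symm)

theorem wLocal_P (hX : ProEtW.IsWLocal X) :
    ProEtW.IsWLocal (P g) ∧ ProEtW.IsWLocalMap (fun y : P g => y.1.1) ∧
      ProEtW.closedPoints (P g) = (fun y : P g => y.1.1) ⁻¹' ProEtW.closedPoints X := by
  have hcp : {y : P g | IsClosed ({y} : Set (P g))} =
      (fun y : P g => y.1.1) ⁻¹' {x : X | IsClosed ({x} : Set X)} :=
    ext fun y => isClosed_singleton_iff_P g y
  have hc : Continuous (fun y : P g => y.1.1) := continuous_fst.comp continuous_subtype_val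
  refine ⟨⟨spectralSpace_P g, hcp ▸ hX.2.1.preimage hc, fun y => ?_⟩,
    ⟨⟨hc, fun U hU hUc => ?_⟩, fun y => (isClosed_singleton_iff_P g y).mp⟩, hcp⟩
  · obtain ⟨z, ⟨hzc, hyz⟩, huniq⟩ := hX.2.2 y.1.1
    have hz' : z ∈ connectedComponent y.1.1 := isPreconnected_singleton.closure.subset_connectedComponent
      (subset_closure rfl) (specializes_iff_mem_closure.mp hyz)
    refine ⟨⟨(z, y.1.2), (ConnectedComponents.coe_eq_coe'.mpr hz').trans y.2⟩,
      ⟨(isClosed_singleton_iff_P g _).mpr hzc, (specializes_iff_P g _ _).mpr ⟨hyz, rfl⟩⟩, ?_⟩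
    rintro w ⟨hw, hyw⟩
    obtain ⟨h1, h2⟩ := (specializes_iff_P g _ _).mp hyw
    exact Subtype.ext (Prod.ext (huniq _ ⟨(isClosed_singleton_iff_P g w).mp hw, h1⟩) h2.symm)
  · have := (isClosed_P g).isClosedEmbedding_subtypeVal.isCompact_preimage (hUc.prod (isCompact_univ (X := T)))
    convert this using 1
    ext y
    simp

end Groth.L27.ProfinitePullback
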