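import Groth.Agent.L27.IndZariski
import Groth.Agent.L27.ProfinitePullback
import Mathlib.Topology.LocallyConstant.Algebra
import Mathlib.RingTheory.Spectrum.Prime.Topology

/-! Ind-Zariski algebras realising closed sets of components and profinite sets over them. -/

set_option autoImplicit false
set_option linter.unusedSectionVars false
set_option linter.style.haveILetI false
universe u

open Topology

namespace Groth.L27.ClopenQuotient

/-- A closed set, saturated for connected components, is the spectrum of an ind-Zariski quotient. -/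
theorem exists_quotient (A A' : Type u) [CommRing A] [CommRing A'] [Algebra A A']
    (h : EtPBC.IsIndZariski A A') (Z : Set (PrimeSpectrum A')) (hZ : IsClosed Z)
    (hsat : ∀ x ∈ Z, connectedComponent x ⊆ Z) :
    ∃ I : Ideal A', EtPBC.IsIndZariski A (A' ⧸ I) ∧
      Set.range (PrimeSpectrum.comap (Ideal.Quotient.mk I)) = Z := by
  let S : Set A' := {e | IsIdempotentElem e ∧ ∀ p ∈ Z, e ∈ p.asIdeal}
  refine ⟨Ideal.span S, IndZariski.quotient_idempotents A A' h _ ⟨S, fun e he => he.1, rfl⟩, ?_⟩
  rw [range_comap_of_surjective _ _ Ideal.Quotient.mk_surjective, Ideal.mk_ker,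
    PrimeSpectrum.zeroLocus_span]
  refine Set.Subset.antisymm (fun p hp => ?_) fun p hp e he => he.2 p hp
  by_contra hpZ
  have hsub : connectedComponent p ⊆ Zᶜ := fun y hy hyZ =>
    hpZ (hsat y hyZ (connectedComponent_eq hy ▸ mem_connectedComponent))
  obtain ⟨W, hW, hpW, hWZ⟩ := Spectral.exists_clopen_subset_of_component_subset hZ.isOpen_compl hsub
  obtain ⟨e, f, hef, hef', rfl⟩ := PrimeSpectrum.isClopen_iff_mul_add.mp hW
  have he : e ∈ S := ⟨by
    change e * e = e
    linear_combination -hef + e * hef', fun q hq => by_contra fun hne => hWZ hne hq⟩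
  exact hpW (hp he)

/-- `LC(T, A')` is ind-Zariski over `A` when `A'` is. -/
theorem indZariski_locallyConstant' (A A' T : Type u) [CommRing A] [CommRing A'] [Algebra A A']
    [TopologicalSpace T] [CompactSpace T] (h : EtPBC.IsIndZariski A A') :
    EtPBC.IsIndZariski A (LocallyConstant T A') := by
  rw [IndZariski.isIndZariski_iff_exists_factor] at h ⊢
  intro P _ _ _ φ
  obtain ⟨n, π, hπ, -⟩ := Algebra.FinitePresentation.out (R := A) (A := P)
  let F : T → Fin n → A' := fun t i => φ (π (.X i)) t
  have hF : IsLocallyConstant F := by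
    rw [IsLocallyConstant.iff_exists_open]
    intro t
    refine ⟨⋂ i, {s | φ (π (.X i)) s = φ (π (.X i)) t},
      isOpen_iInter_of_finite fun i => (φ (π (.X i))).isLocallyConstant.isOpen_fiber _,
      Set.mem_iInter.mpr fun _ => rfl, fun s hs => funext fun i => Set.mem_iInter.mp hs i⟩
  haveI : Finite (Set.range F) := hF.range_finite
  choose E i₁ i₂ α β hE hc using fun r : Set.range F =>
    h P ((LocallyConstant.evalₐ A r.2.choose).comp φ)
  haveI : Algebra.IsLocalIso A (∀ r, E r) := Algebra.IsLocalIso.pi_of_finite A E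
  let γ : (∀ r, E r) →ₐ[A] LocallyConstant T A' :=
    { toFun := fun e => ⟨fun t => β ⟨F t, t, rfl⟩ (e ⟨F t, t, rfl⟩), by
        rw [IsLocallyConstant.iff_exists_open]
        intro t
        refine ⟨F ⁻¹' {F t}, hF.isOpen_fiber (F t), rfl, fun s hs => ?_⟩
        exact congrArg (fun r : Set.range F => β r (e r)) (Subtype.ext hs)⟩
      map_one' := LocallyConstant.ext fun t => map_one (β _)
      map_mul' := fun _ _ => LocallyConstant.ext fun t => map_mul (β _) _ _
      map_zero' := LocallyConstant.ext fun t => map_zero (β _)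
      map_add' := fun _ _ => LocallyConstant.ext fun t => map_add (β _) _ _
      commutes' := fun a => LocallyConstant.ext fun t => (β _).commutes a }
  refine ⟨∀ r, E r, inferInstance, inferInstance, AlgHom.pi α, γ, inferInstance, ?_⟩
  refine AlgHom.ext fun x => LocallyConstant.ext fun t => ?_
  have h : F (Set.mem_range_self (f := F) t).choose = F t := (Set.mem_range_self (f := F) t).choose_spec
  have : ((LocallyConstant.evalₐ A (Set.mem_range_self (f := F) t).choose).comp φ).comp π =
      ((LocallyConstant.evalₐ A t).comp φ).comp π :=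
    MvPolynomial.algHom_ext fun i => congrFun h i
  obtain ⟨p, rfl⟩ := hπ x
  exact (AlgHom.congr_fun (hc ⟨F t, t, rfl⟩) (π p)).trans (AlgHom.congr_fun this p)

/-- The `ind-Zariski` algebra `LC(T, A)`. -/
theorem indZariski_locallyConstant (A T : Type u) [CommRing A] [TopologicalSpace T] [CompactSpace T] :
    EtPBC.IsIndZariski A (LocallyConstant T A) :=
  indZariski_locallyConstant' A A T (IndZariski.refl A)

section spec

variable (A T : Type u) [CommRing A] [TopologicalSpace T] [CompactSpace T] [T2Space T]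
  [TotallyDisconnectedSpace T]

/-- The map from `Spec A × T`. -/
noncomputable def Φ (x : PrimeSpectrum A × T) : PrimeSpectrum (LocallyConstant T A) :=
  PrimeSpectrum.comap (LocallyConstant.evalRingHom x.2) x.1

theorem mem_Φ (p : PrimeSpectrum A) (t : T) (f : LocallyConstant T A) :
    f ∈ (Φ A T (p, t)).asIdeal ↔ f t ∈ p.asIdeal := Iff.rfl

theorem Φ_bijective : Function.Bijective (Φ A T) := by
  classical
  constructor
  · rintro ⟨p, t⟩ ⟨p', t'⟩ h
    have key : ∀ f : LocallyConstant T A, f t ∈ p.asIdeal ↔ f t' ∈ p'.asIdeal := fun f => by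
      rw [← mem_Φ, ← mem_Φ, h]
    have hp : p = p' := PrimeSpectrum.ext (Ideal.ext fun a => key (LocallyConstant.const T a))
    subst hp
    refine Prod.ext rfl (by_contra fun hne => ?_)
    obtain ⟨U, hU, htU, hU'⟩ := compact_exists_isClopen_in_isOpen (isOpen_compl_singleton (x := t')) hne
    have := (key (LocallyConstant.charFn A hU)).mpr (by
      simp [LocallyConstant.coe_charFn, Set.indicator_of_notMem (fun h' : t' ∈ U => hU' h' rfl)])
    rw [LocallyConstant.coe_charFn, Set.indicator_of_mem htU] at this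
    exact p.isPrime.ne_top ((Ideal.eq_top_iff_one _).mpr this)
  · intro q
    let χ : {U : Set T // IsClopen U} → LocallyConstant T A := fun U => LocallyConstant.charFn A U.2
    have hinter : (⋂ U : {U : {U : Set T // IsClopen U} // χ U ∉ q.asIdeal}, U.1.1).Nonempty := by
      haveI : Nonempty {U : {U : Set T // IsClopen U} // χ U ∉ q.asIdeal} :=
        ⟨⟨⟨Set.univ, isClopen_univ⟩, fun h1 => q.isPrime.ne_top ((Ideal.eq_top_iff_one _).mpr (by
          convert h1 using 1
          ext s
          simp [χ, LocallyConstant.coe_charFn]))⟩⟩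
      refine IsCompact.nonempty_iInter_of_directed_nonempty_isCompact_isClosed _ ?_ (fun U => ?_)
        (fun U => U.1.2.1.isCompact) fun U => U.1.2.1
      · rintro ⟨⟨U, hU⟩, hUq⟩ ⟨⟨V, hV⟩, hVq⟩
        refine ⟨⟨⟨U ∩ V, hU.inter hV⟩, fun h => (q.isPrime.mem_or_mem (?_ : χ ⟨U, hU⟩ * χ ⟨V, hV⟩ ∈ q.asIdeal)).elim hUq hVq⟩,
          Set.inter_subset_left, Set.inter_subset_right⟩
        convert h using 1
        ext s
        by_cases h1 : s ∈ U <;> by_cases h2 : s ∈ V <;>
          simp [χ, LocallyConstant.coe_charFn, h1, h2]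
      · by_contra hne
        rw [Set.not_nonempty_iff_eq_empty] at hne
        refine U.2 ?_
        convert q.asIdeal.zero_mem using 1
        ext s
        simp [χ, LocallyConstant.coe_charFn, hne]
    obtain ⟨t, ht⟩ := hinter
    refine ⟨(PrimeSpectrum.comap (algebraMap A (LocallyConstant T A)) q, t),
      PrimeSpectrum.ext (Ideal.ext fun f => ?_)⟩
    rw [mem_Φ]
    let U : {U : Set T // IsClopen U} := ⟨f ⁻¹' {f t}, f.isLocallyConstant.isClopen_fiber (f t)⟩
    have hUq : χ U ∉ q.asIdeal := by
      intro hmem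
      have hc : χ ⟨U.1ᶜ, U.2.compl⟩ ∉ q.asIdeal := fun hc => q.isPrime.ne_top
        ((Ideal.eq_top_iff_one _).mpr (by
          convert add_mem hmem hc using 1
          ext s
          by_cases h1 : s ∈ U.1 <;> simp [χ, LocallyConstant.coe_charFn, h1]))
      exact Set.mem_iInter.mp ht ⟨_, hc⟩ rfl
    have hf : f * χ U = algebraMap A (LocallyConstant T A) (f t) * χ U := by
      ext s
      by_cases h1 : s ∈ U.1
      · simp [χ, LocallyConstant.coe_charFn, Set.indicator_of_mem h1, show f s = f t from h1]
      · simp [χ, LocallyConstant.coe_charFn, Set.indicator_of_notMem h1]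
    change algebraMap A (LocallyConstant T A) (f t) ∈ q.asIdeal ↔ f ∈ q.asIdeal
    constructor
    · exact fun h => (q.isPrime.mem_or_mem (hf ▸ Ideal.mul_mem_right _ _ h)).resolve_right hUq
    · exact fun h => (q.isPrime.mem_or_mem (hf ▸ Ideal.mul_mem_right _ _ h)).resolve_right hUq

theorem Φ_continuous : Continuous (Φ A T) := by
  rw [PrimeSpectrum.isTopologicalBasis_basic_opens.continuous_iff]
  rintro _ ⟨f, rfl⟩
  rw [isOpen_iff_forall_mem_open]
  rintro ⟨p, t⟩ h
  refine ⟨(PrimeSpectrum.basicOpen (f t) : Set _) ×ˢ (f ⁻¹' {f t}), ?_,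
    (PrimeSpectrum.basicOpen (f t)).isOpen.prod (f.isLocallyConstant.isOpen_fiber (f t)), ⟨h, rfl⟩⟩
  rintro ⟨p', t'⟩ ⟨hp', ht'⟩
  change f t' ∉ p'.asIdeal
  rw [show f t' = f t from ht']
  exact hp'

theorem Φ_isOpenMap : IsOpenMap (Φ A T) := by
  classical
  intro O hO
  rw [isOpen_iff_forall_mem_open]
  rintro _ ⟨⟨p, t⟩, hpt, rfl⟩
  obtain ⟨O₁, O₂, hO₁, hO₂, hp, ht, hsub⟩ := isOpen_prod_iff.mp hO p t hpt
  obtain ⟨_, ⟨a, rfl⟩, hpa, hsuba⟩ := PrimeSpectrum.isTopologicalBasis_basic_opens.exists_subset_of_mem_open hp hO₁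
  obtain ⟨U, hU, htU, hU'⟩ := compact_exists_isClopen_in_isOpen hO₂ ht
  refine ⟨PrimeSpectrum.basicOpen (algebraMap A (LocallyConstant T A) a * LocallyConstant.charFn A hU),
    fun q hq => ?_, (PrimeSpectrum.basicOpen _).isOpen, ?_⟩
  · obtain ⟨⟨p', t'⟩, rfl⟩ := (Φ_bijective A T).2 q
    change algebraMap A (LocallyConstant T A) a t' * LocallyConstant.charFn A hU t' ∉ p'.asIdeal at hq
    have ht' : t' ∈ U := by
      by_contra ht'
      simp [LocallyConstant.coe_charFn, Set.indicator_of_notMem ht'] at hq
    refine ⟨(p', t'), hsub ⟨hsuba ?_, hU' ht'⟩, rfl⟩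
    intro ha
    exact hq (Ideal.mul_mem_right _ _ ha)
  · change algebraMap A (LocallyConstant T A) a t * LocallyConstant.charFn A hU t ∉ p.asIdeal
    rw [LocallyConstant.coe_charFn, Set.indicator_of_mem htU, Pi.one_apply, mul_one]
    exact hpa

/-- `Spec LC(T, A) = Spec A × T`. -/
noncomputable def specHomeo : PrimeSpectrum A × T ≃ₜ PrimeSpectrum (LocallyConstant T A) :=
  (Equiv.ofBijective _ (Φ_bijective A T)).toHomeomorphOfContinuousOpen (Φ_continuous A T) (Φ_isOpenMap A T)

end spec

theorem exists_surjective_onto_preimage (A : Type u) [CommRing A]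
    (T : Set (ConnectedComponents (PrimeSpectrum A))) (hT : IsClosed T) :
    ∃ (B : Type u) (_ : CommRing B) (_ : Algebra A B), EtPBC.IsIndZariski A B ∧
      Function.Surjective (algebraMap A B) ∧ IsEmbedding (PrimeSpectrum.comap (algebraMap A B)) ∧
      Set.range (PrimeSpectrum.comap (algebraMap A B)) = ConnectedComponents.mk ⁻¹' T := by
  obtain ⟨I, hI, hr⟩ := exists_quotient A A (IndZariski.refl A) (ConnectedComponents.mk ⁻¹' T)
    (hT.preimage ConnectedComponents.continuous_coe) fun x hx y hy => by
      rw [Set.mem_preimage, ConnectedComponents.coe_eq_coe'.mpr hy]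
      exact hx
  exact ⟨A ⧸ I, inferInstance, inferInstance, hI, Ideal.Quotient.mk_surjective,
    (PrimeSpectrum.isClosedEmbedding_comap_of_surjective _ _ Ideal.Quotient.mk_surjective).isEmbedding, hr⟩

/-- Homeomorphisms act on connected components. -/
noncomputable def componentsHomeo {X Y : Type u} [TopologicalSpace X] [TopologicalSpace Y] (e : X ≃ₜ Y) :
    ConnectedComponents X ≃ₜ ConnectedComponents Y where
  toFun := e.continuous.connectedComponentsMap
  invFun := e.symm.continuous.connectedComponentsMap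
  left_inv c := by
    obtain ⟨x, rfl⟩ := ConnectedComponents.surjective_coe c
    exact congrArg ConnectedComponents.mk (e.symm_apply_apply x)
  right_inv c := by
    obtain ⟨y, rfl⟩ := ConnectedComponents.surjective_coe c
    exact congrArg ConnectedComponents.mk (e.apply_symm_apply y)
  continuous_toFun := e.continuous.connectedComponentsMap_continuous
  continuous_invFun := e.symm.continuous.connectedComponentsMap_continuous

theorem exists_realizing_profinite' (A₀ A T : Type u) [CommRing A₀] [CommRing A] [Algebra A₀ A]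
    [TopologicalSpace T] [CompactSpace T] [T2Space T] [TotallyDisconnectedSpace T]
    (hA : EtPBC.IsIndZariski A₀ A) (g : C(T, ConnectedComponents (PrimeSpectrum A))) :
    ∃ (B : Type u) (_ : CommRing B) (_ : Algebra A₀ B) (_ : Algebra A B) (_ : IsScalarTower A₀ A B)
      (e : ConnectedComponents (PrimeSpectrum B) ≃ₜ T), EtPBC.IsIndZariski A₀ B ∧
      (∀ y : PrimeSpectrum B, g (e (ConnectedComponents.mk y)) =
        ConnectedComponents.mk (PrimeSpectrum.comap (algebraMap A B) y)) ∧
      IsEmbedding (fun y : PrimeSpectrum B =>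
        (PrimeSpectrum.comap (algebraMap A B) y, e (ConnectedComponents.mk y))) ∧
      Set.range (fun y : PrimeSpectrum B =>
        (PrimeSpectrum.comap (algebraMap A B) y, e (ConnectedComponents.mk y))) =
        {p : PrimeSpectrum A × T | ConnectedComponents.mk p.1 = g p.2} := by
  let h := specHomeo A T
  let P := ProfinitePullback.P g
  have hPc : IsClosed (h '' P) := h.isClosedMap _ (ProfinitePullback.isClosed_P g)
  obtain ⟨I, hI, hr⟩ := exists_quotient A₀ (LocallyConstant T A) (indZariski_locallyConstant' A₀ A T hA)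
    (h '' P) hPc fun x hx y hy => by
      obtain ⟨⟨p, t⟩, hpt, rfl⟩ := hx
      refine ⟨h.symm y, ?_, h.apply_symm_apply y⟩
      have hy' : h.symm y ∈ connectedComponent (p, t) := by
        have := h.symm.continuous.image_connectedComponent_subset _ ⟨y, hy, rfl⟩
        rwa [h.symm_apply_apply] at this
      have h1 : (h.symm y).2 = t := (isPreconnected_connectedComponent.image Prod.snd
        continuous_snd.continuousOn).subsingleton ⟨_, hy', rfl⟩ ⟨_, mem_connectedComponent, rfl⟩
      have h2 : (h.symm y).1 ∈ connectedComponent p :=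
        continuous_fst.image_connectedComponent_subset _ ⟨_, hy', rfl⟩
      change ConnectedComponents.mk (h.symm y).1 = g (h.symm y).2
      rw [ConnectedComponents.coe_eq_coe'.mpr h2, h1]
      exact hpt
  let f := PrimeSpectrum.comap (Ideal.Quotient.mk I)
  have hf : IsEmbedding f :=
    (PrimeSpectrum.isClosedEmbedding_comap_of_surjective _ _ Ideal.Quotient.mk_surjective).isEmbedding
  let j : PrimeSpectrum (LocallyConstant T A ⧸ I) → P := fun y => ⟨h.symm (f y), by
    obtain ⟨x, hx, hxy⟩ : f y ∈ h '' P := hr ▸ Set.mem_range_self y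
    rwa [← hxy, h.symm_apply_apply]⟩
  have hje : IsEmbedding (fun y => h.symm (f y)) := h.symm.isEmbedding.comp hf
  have hjb : Function.Bijective j := by
    refine ⟨fun y y' hyy => hje.injective (congrArg Subtype.val hyy), fun ⟨x, hx⟩ => ?_⟩
    obtain ⟨y, hy⟩ : h x ∈ Set.range f := hr.symm ▸ ⟨x, hx, rfl⟩
    exact ⟨y, Subtype.ext (by change h.symm (f y) = x; rw [hy, h.symm_apply_apply])⟩
  let hj : PrimeSpectrum (LocallyConstant T A ⧸ I) ≃ₜ P :=
    (Equiv.ofBijective j hjb).toHomeomorphOfIsInducing (IsInducing.subtypeVal.of_comp_iff.mp hje.isInducing)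
  obtain ⟨e₀, he₀⟩ := ProfinitePullback.components_P g
  let e := (componentsHomeo hj).trans e₀
  have he : ∀ y, e (ConnectedComponents.mk y) = (h.symm (f y)).2 := fun y => he₀ (hj y)
  have hfst : ∀ y, PrimeSpectrum.comap (algebraMap A (LocallyConstant T A ⧸ I)) y = (h.symm (f y)).1 := by
    intro y
    obtain ⟨x, hx⟩ := h.surjective (f y)
    rw [← hx, h.symm_apply_apply, IsScalarTower.algebraMap_eq A (LocallyConstant T A)
      (LocallyConstant T A ⧸ I), PrimeSpectrum.comap_comp_apply]
    change PrimeSpectrum.comap _ (f y) = _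
    rw [← hx]
    exact PrimeSpectrum.ext (Ideal.ext fun a => Iff.rfl)
  have hpair : (fun y => (PrimeSpectrum.comap (algebraMap A (LocallyConstant T A ⧸ I)) y,
      e (ConnectedComponents.mk y))) = fun y => h.symm (f y) :=
    funext fun y => Prod.ext (hfst y) (he y)
  refine ⟨LocallyConstant T A ⧸ I, inferInstance, inferInstance, inferInstance,
    .of_algebraMap_eq fun a => rfl, e, hI, fun y => ?_, hpair ▸ hje, ?_⟩
  · rw [he, hfst]
    exact (j y).2.symm
  · rw [hpair]
    refine Set.Subset.antisymm ?_ fun x hx => ?_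
    · rintro _ ⟨y, rfl⟩
      exact (j y).2
    · obtain ⟨y, hy⟩ := hjb.2 ⟨x, hx⟩
      exact ⟨y, congrArg Subtype.val hy⟩

theorem exists_realizing_profinite (A T : Type u) [CommRing A] [TopologicalSpace T] [CompactSpace T]
    [T2Space T] [TotallyDisconnectedSpace T] (g : C(T, ConnectedComponents (PrimeSpectrum A))) :
    ∃ (B : Type u) (_ : CommRing B) (_ : Algebra A B)
      (e : ConnectedComponents (PrimeSpectrum B) ≃ₜ T), EtPBC.IsIndZariski A B ∧
      (∀ y : PrimeSpectrum B, g (e (ConnectedComponents.mk y)) =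
        ConnectedComponents.mk (PrimeSpectrum.comap (algebraMap A B) y)) ∧
      IsEmbedding (fun y : PrimeSpectrum B =>
        (PrimeSpectrum.comap (algebraMap A B) y, e (ConnectedComponents.mk y))) ∧
      Set.range (fun y : PrimeSpectrum B =>
        (PrimeSpectrum.comap (algebraMap A B) y, e (ConnectedComponents.mk y))) =
        {p : PrimeSpectrum A × T | ConnectedComponents.mk p.1 = g p.2} := by
  obtain ⟨B, i₁, i₂, i₃, htower, e, hI, h1, h2, h3⟩ :=
    exists_realizing_profinite' A A T (IndZariski.refl A) g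
  have : i₂ = i₃ := by
    refine Algebra.algebra_ext _ _ fun a => ?_
    exact @IsScalarTower.algebraMap_apply A A B _ _ _ (Algebra.id A) i₃ i₂ htower a
  subst this
  exact ⟨B, i₁, i₂, e, hI, h1, h2, h3⟩

end Groth.L27.ClopenQuotient
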