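import Groth.Agent.L27.Quot.Desc
import Mathlib.CategoryTheory.EffectiveEpi.Basic
import Mathlib.AlgebraicGeometry.PullbackCarrier

/-!
Submersive morphisms with an equalizer property on functions are effective epimorphisms of schemes.
-/

set_option autoImplicit false
set_option linter.style.haveILetI false

universe u

open CategoryTheory CategoryTheory.Limits AlgebraicGeometry TopologicalSpace Opposite

namespace Groth.L27.EffEpi

open Groth.L27.Quot (liftRangeHom liftRangeHom_spec appLE_eq_of_eq)

variable {X Y Z : Scheme.{u}} (p : X ⟶ Y) (hq : Topology.IsQuotientMap p)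
  (hinj : ∀ U : Y.Opens, Function.Injective (p.app U).hom)
  (heq : ∀ (U : Y.Opens) (s : Γ(X, p ⁻¹ᵁ U)),
    (SGA1.overlapFstApp p U).hom s = (SGA1.overlapSndApp p U).hom s →
      s ∈ Set.range (p.app U).hom)
  (h : X ⟶ Z) (hh : pullback.fst p p ≫ h = pullback.snd p p ≫ h)

/-- The map on points. -/
noncomputable def descFun (y : Y) : Z := h (Function.surjInv hq.surjective y)

include hh in
lemma descFun_map (x : X) : descFun p hq h (p x) = h x := by
  obtain ⟨z, hz1, hz2⟩ := Scheme.Pullback.exists_preimage_pullback (f := p) (g := p)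
    (Function.surjInv hq.surjective (p x)) x (Function.surjInv_eq hq.surjective (p x))
  show h (Function.surjInv hq.surjective (p x)) = h x
  calc h (Function.surjInv hq.surjective (p x)) = h (pullback.fst p p z) := by rw [hz1]
    _ = h (pullback.snd p p z) := by
        rw [← Scheme.Hom.comp_apply, hh, Scheme.Hom.comp_apply]
    _ = h x := by rw [hz2]

include hh in
lemma descFun_continuous : Continuous (descFun p hq h) := by
  rw [hq.continuous_iff]
  exact (funext (descFun_map p hq h hh) : descFun p hq h ∘ p = h) ▸ h.continuous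

/-- The continuous map. -/
noncomputable def descBase :
    Y.toPresheafedSpace.carrier ⟶ Z.toPresheafedSpace.carrier :=
  TopCat.ofHom ⟨descFun p hq h, descFun_continuous p hq h hh⟩

lemma preimage_descBase (W : Z.Opens) :
    p ⁻¹ᵁ ((Opens.map (descBase p hq h hh)).obj W) = h ⁻¹ᵁ W := by
  ext x
  show descFun p hq h (p x) ∈ W ↔ h x ∈ W
  rw [descFun_map p hq h hh]

/-- The map on sections. -/
noncomputable def descApp (W : Z.Opens) :
    Γ(Z, W) ⟶ Γ(Y, (Opens.map (descBase p hq h hh)).obj W) :=
  CommRingCat.ofHom <| liftRangeHom _ (hinj _)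
    (h.appLE W _ (preimage_descBase p hq h hh W).le).hom fun c => by
      refine heq _ _ ?_
      rw [SGA1.overlapFstApp, SGA1.overlapSndApp, Scheme.Hom.app_eq_appLE, ← CommRingCat.comp_apply,
        ← CommRingCat.comp_apply, Scheme.Hom.appLE_comp_appLE, Scheme.Hom.appLE_comp_appLE,
        appLE_eq_of_eq hh]

lemma descApp_app (W : Z.Opens) :
    descApp p hq hinj heq h hh W ≫ p.app _ = h.appLE W _ (preimage_descBase p hq h hh W).le := by
  ext c
  exact liftRangeHom_spec _ (hinj _) _ _ c

/-- The induced morphism of schemes. -/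
noncomputable def desc : Y ⟶ Z :=
  Scheme.Hom.mk
    { toHom :=
        { base := descBase p hq h hh
          c :=
            { app := fun W => descApp p hq hinj heq h hh W.unop
              naturality := fun W W' i => by
                ext s
                apply hinj _
                show (Z.presheaf.map i ≫ descApp p hq hinj heq h hh W'.unop ≫ p.app _).hom s =
                  (descApp p hq hinj heq h hh W.unop ≫
                    Y.presheaf.map ((Opens.map (descBase p hq h hh)).map i.unop).op ≫ p.app _).hom s
                rw [p.naturality, descApp_app,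
                  reassoc_of% descApp_app p hq hinj heq h hh W.unop,
                  Scheme.Hom.map_appLE, Scheme.Hom.appLE_map] } }
      prop := fun y => by
        obtain ⟨x, rfl⟩ := hq.surjective y
        refine ⟨fun a ha => ?_⟩
        obtain ⟨W, hW, s, rfl⟩ := TopCat.Presheaf.exists_germ_eq _ a
        erw [PresheafedSpace.stalkMap_germ_apply] at ha
        refine (Z.mem_basicOpen s _ hW).mp ?_
        have hx : x ∈ p ⁻¹ᵁ Y.basicOpen ((descApp p hq hinj heq h hh W).hom s) :=
          (Y.mem_basicOpen _ _ hW).mpr ha
        rw [Scheme.preimage_basicOpen, ← CommRingCat.comp_apply, descApp_app,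
          Scheme.basicOpen_appLE] at hx
        change descFun p hq h (p x) ∈ Z.basicOpen s
        rw [descFun_map p hq h hh]
        exact hx.2 }

lemma desc_app (W : Z.Opens) :
    (desc p hq hinj heq h hh).app W = descApp p hq hinj heq h hh W := rfl

theorem comp_desc : p ≫ desc p hq hinj heq h hh = h := by
  refine Scheme.Hom.ext ?_ fun W => ?_
  · ext x
    exact descFun_map p hq h hh x
  · rw [Scheme.Hom.comp_app, desc_app]
    erw [descApp_app]
    exact (Scheme.Hom.appLE_map _ _ _).trans (h.app_eq_appLE).symm

include hq hinj in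
theorem hom_ext {h₁ h₂ : Y ⟶ Z} (e : p ≫ h₁ = p ≫ h₂) : h₁ = h₂ := by
  refine Scheme.Hom.ext ?_ fun W => ?_
  · ext y
    obtain ⟨x, rfl⟩ := hq.surjective y
    rw [← Scheme.Hom.comp_apply, ← Scheme.Hom.comp_apply, e]
  · ext s
    apply hinj _
    show ((h₁.app W ≫ Y.presheaf.map _) ≫ p.app _).hom s = (h₂.app W ≫ p.app _).hom s
    rw [Category.assoc, p.naturality, ← Category.assoc, ← Scheme.Hom.comp_app,
      ← Scheme.Hom.comp_app]
    simp only [Scheme.Hom.app_eq_appLE (f := p ≫ h₁), Scheme.Hom.app_eq_appLE (f := p ≫ h₂)]
    erw [Scheme.Hom.appLE_map]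
    rw [appLE_eq_of_eq e]
    rfl

include hq hinj heq in
theorem effectiveEpi : EffectiveEpi p :=
  ⟨⟨{ desc := fun e he => desc p hq hinj heq e (he _ _ pullback.condition)
      fac := fun e he => comp_desc p hq hinj heq e _
      uniq := fun e he m hm => hom_ext p hq hinj (hm.trans (comp_desc p hq hinj heq e _).symm) }⟩⟩

end Groth.L27.EffEpi
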