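import Groth.Agent.L27.UniversalCover
import Groth.Prelude.Def_ProEtW
import Mathlib.CategoryTheory.Functor.OfSequence
import Mathlib.RingTheory.Spectrum.Prime.Chevalley
import Mathlib.RingTheory.LocalRing.ResidueField.Fiber

/-! Every ring has a faithfully flat ind-etale algebra with etale retractions. -/

set_option autoImplicit false
set_option linter.style.haveILetI false
universe u

open TensorProduct CategoryTheory CategoryTheory.Limits MorphismProperty

namespace Groth.L27.EtaleHull

/-- A point of a finite type algebra with values in an algebraically closed field. -/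
theorem exists_algHom {A E K : Type u} [CommRing A] [CommRing E] [Algebra A E] [Algebra.FiniteType A E]
    [Field K] [IsAlgClosed K] [Algebra A K]
    (h : (⟨RingHom.ker (algebraMap A K), RingHom.ker_isPrime _⟩ : PrimeSpectrum A) ∈
      Set.range (PrimeSpectrum.comap (algebraMap A E))) : Nonempty (E →ₐ[A] K) := by
  let p : PrimeSpectrum A := ⟨RingHom.ker (algebraMap A K), RingHom.ker_isPrime _⟩
  haveI := p.isPrime
  let ψ : p.asIdeal.ResidueField →+* K := Ideal.ResidueField.lift p.asIdeal (algebraMap A K)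
    (fun x hx => hx) (fun x hx => isUnit_iff_ne_zero.mpr hx)
  haveI : Nontrivial (p.asIdeal.ResidueField ⊗[A] E) :=
    (PrimeSpectrum.nontrivial_iff_mem_rangeComap p).mpr h
  obtain ⟨n, hn⟩ := Ideal.exists_maximal (p.asIdeal.ResidueField ⊗[A] E)
  letI := Ideal.Quotient.field n
  haveI := finite_of_finite_type_of_isJacobsonRing p.asIdeal.ResidueField
    ((p.asIdeal.ResidueField ⊗[A] E) ⧸ n)
  letI : Algebra p.asIdeal.ResidueField K := ψ.toAlgebra
  haveI : IsScalarTower A p.asIdeal.ResidueField K :=
    .of_algebraMap_eq fun a => (Ideal.ResidueField.lift_algebraMap ..).symm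
  let j : ((p.asIdeal.ResidueField ⊗[A] E) ⧸ n) →ₐ[p.asIdeal.ResidueField] K := IsAlgClosed.lift
  exact ⟨((j.comp (Ideal.Quotient.mkₐ _ n)).restrictScalars A).comp
    Algebra.TensorProduct.includeRight⟩

theorem mem_range_comap_tensor {R S E : Type u} [CommRing R] [CommRing S] [CommRing E] [Algebra R S]
    [Algebra R E] [Algebra.FiniteType R E] (P : PrimeSpectrum S)
    (h : PrimeSpectrum.comap (algebraMap R S) P ∈ Set.range (PrimeSpectrum.comap (algebraMap R E))) :
    P ∈ Set.range (PrimeSpectrum.comap (algebraMap S (S ⊗[R] E))) := by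
  let K := AlgebraicClosure P.asIdeal.ResidueField
  have hker : RingHom.ker (algebraMap S K) = P.asIdeal := by
    rw [IsScalarTower.algebraMap_eq S P.asIdeal.ResidueField K,
      RingHom.ker_comp_of_injective _ (algebraMap P.asIdeal.ResidueField K).injective,
      Ideal.ker_algebraMap_residueField]
  obtain ⟨φ⟩ := exists_algHom (A := R) (E := E) (K := K) (by
    convert h using 1
    refine PrimeSpectrum.ext ?_
    change RingHom.ker (algebraMap R K) = _
    rw [IsScalarTower.algebraMap_eq R S K, ← RingHom.comap_ker, hker]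
    rfl)
  let Φ := Algebra.TensorProduct.lift (Algebra.ofId S K) φ fun _ _ => Commute.all _ _
  refine ⟨⟨RingHom.ker Φ, RingHom.ker_isPrime _⟩, PrimeSpectrum.ext ?_⟩
  refine Eq.trans ?_ hker
  rw [PrimeSpectrum.comap_asIdeal]
  ext x
  simp only [Ideal.mem_comap, RingHom.mem_ker, AlgHom.commutes]

/-- Presentations of faithfully flat etale algebras. -/
def Cov (A : Type u) [CommRing A] : Type u :=
  {i : Σ n : ℕ, Ideal (MvPolynomial (Fin n) A) //
    Algebra.Etale A (MvPolynomial (Fin i.1) A ⧸ i.2) ∧
    Module.FaithfullyFlat A (MvPolynomial (Fin i.1) A ⧸ i.2)}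

/-- The tensor product of all faithfully flat etale algebras. -/
abbrev Hull (A : Type u) [CommRing A] : Type u :=
  UniversalCover.Tens (fun i : Cov A => i.1.1) (fun i : Cov A => i.1.2)

theorem indEtale_hull (A : Type u) [CommRing A] : EtPBC.IsIndEtale A (Hull A) :=
  UniversalCover.indEtale fun i => i.2.1

theorem faithfullyFlat_hull (A : Type u) [CommRing A] : Module.FaithfullyFlat A (Hull A) := by
  haveI := IndEtale.flat A (Hull A) (indEtale_hull A)
  refine ⟨fun m hm => ?_⟩
  rw [Ideal.smul_top_eq_map]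
  intro htop
  letI := Ideal.Quotient.field m
  let K := AlgebraicClosure (A ⧸ m)
  have hker : RingHom.ker (algebraMap A K) = m := by
    rw [IsScalarTower.algebraMap_eq A (A ⧸ m) K, RingHom.ker_comp_of_injective _
      (algebraMap (A ⧸ m) K).injective, Ideal.Quotient.algebraMap_eq, Ideal.mk_ker]
  have := fun i : Cov A => haveI := i.2.1; haveI := i.2.2
    (exists_algHom (A := A) (E := MvPolynomial (Fin i.1.1) A ⧸ i.1.2) (K := K)
      (PrimeSpectrum.comap_surjective_of_faithfullyFlat _))
  obtain ⟨F, -⟩ := UniversalCover.exists_lift (n := fun i : Cov A => i.1.1)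
    (I := fun i : Cov A => i.1.2) fun i => (this i).some
  have h1 : (1 : Hull A) ∈ Ideal.map (algebraMap A (Hull A)) m := by
    rw [Submodule.restrictScalars_eq_top_iff] at htop
    rw [htop]
    trivial
  have h2 : Ideal.map (algebraMap A (Hull A)) m ≤ RingHom.ker F := Ideal.map_le_iff_le_comap.mpr
    fun x hx => by
      rw [Ideal.mem_comap, RingHom.mem_ker, F.commutes, ← RingHom.mem_ker, hker]
      exact hx
  exact one_ne_zero ((map_one F).symm.trans (h2 h1))

theorem exists_map_to_hull (A E : Type u) [CommRing A] [CommRing E] [Algebra A E] [Algebra.Etale A E]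
    (h : Module.FaithfullyFlat A E) : Nonempty (E →ₐ[A] Hull A) := by
  obtain ⟨n, π, hπ, -⟩ := Algebra.FinitePresentation.out (R := A) (A := E)
  let e := (Ideal.quotientKerAlgEquivOfSurjective hπ).symm
  let i : Cov A := ⟨⟨n, RingHom.ker π⟩, Algebra.Etale.of_equiv e,
    Module.FaithfullyFlat.of_linearEquiv A E e.symm.toLinearEquiv⟩
  exact ⟨(UniversalCover.incl (fun i : Cov A => i.1.1) (fun i : Cov A => i.1.2) i).comp e.toAlgHom⟩

/-- The stages. -/
noncomputable def St (A : Type u) [CommRing A] : ℕ → CommRingCat.{u}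
  | 0 => CommRingCat.of A
  | n + 1 => CommRingCat.of (Hull (St A n))

/-- The transition maps. -/
noncomputable def step (A : Type u) [CommRing A] (n : ℕ) : St A n ⟶ St A (n + 1) :=
  CommRingCat.ofHom (algebraMap (St A n) (Hull (St A n)))

/-- The chain. -/
noncomputable def chain (A : Type u) [CommRing A] : ULift.{u} ℕ ⥤ CommRingCat.{u} :=
  (Monotone.functor (f := (ULift.down : ULift.{u} ℕ → ℕ)) fun _ _ h => h) ⋙
    Functor.ofSequence (step A)

/-- The structure maps of the stages. -/
noncomputable def toSt (A : Type u) [CommRing A] : ∀ n, CommRingCat.of A ⟶ St A n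
  | 0 => 𝟙 _
  | n + 1 => toSt A n ≫ step A n

theorem toSt_comp (A : Type u) [CommRing A] {i j : ℕ} (h : i ≤ j) :
    toSt A i ≫ (Functor.ofSequence (step A)).map (homOfLE h) = toSt A j := by
  induction h with
  | refl => exact (congrArg _ ((Functor.ofSequence (step A)).map_id i)).trans (Category.comp_id _)
  | @step m hm ih =>
    have : (Functor.ofSequence (step A)).map (homOfLE (Nat.le.step hm)) =
        (Functor.ofSequence (step A)).map (homOfLE hm) ≫ step A m := by
      rw [← homOfLE_comp hm (Nat.le_succ m)]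
      exact ((Functor.ofSequence (step A)).map_comp _ _).trans
        (congrArg _ (Functor.ofSequence_map_homOfLE_succ _ m))
    rw [this]
    exact (Category.assoc _ _ _).symm.trans (congrArg (· ≫ step A m) ih)

theorem faithfullyFlat_toSt (A : Type u) [CommRing A] : ∀ n, (toSt A n).hom.FaithfullyFlat
  | 0 => RingHom.FaithfullyFlat.of_bijective Function.bijective_id
  | n + 1 => RingHom.FaithfullyFlat.stableUnderComposition _ _ (faithfullyFlat_toSt A n)
      (RingHom.faithfullyFlat_algebraMap_iff.mpr (faithfullyFlat_hull (St A n)) :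
        (algebraMap (St A n) (Hull (St A n))).FaithfullyFlat)

theorem indEtale_toSt (A : Type u) [CommRing A] : ∀ n, ind.{u} IndEtale.EtaleProp.{u} (toSt A n)
  | 0 => le_ind _ _ (RingHom.Etale.of_bijective Function.bijective_id)
  | n + 1 => (IsStableUnderComposition.ind_of_preIndSpreads IndEtale.etaleProp_le_fp).comp_mem _ _
      (indEtale_toSt A n) ((IndEtale.isIndEtale_iff _ _).mp (indEtale_hull _))

/-- An ideal of a stage generating the unit ideal of the colimit does so at a later stage. -/
theorem exists_map_eq_top {J : Type u} [SmallCategory J] [IsFiltered J] (D : J ⥤ CommRingCat.{u})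
    (c : Cocone D) (hc : IsColimit c) (j : J) (I : Ideal (D.obj j))
    (h : I.map (c.ι.app j).hom = ⊤) : ∃ (k : J) (f : j ⟶ k), I.map (D.map f).hom = ⊤ := by
  have hc' := isColimitOfPreserves (forget CommRingCat.{u}) hc
  have key : ∀ x ∈ I.map (c.ι.app j).hom, ∃ (k : J) (f : j ⟶ k), ∃ y ∈ I.map (D.map f).hom,
      (c.ι.app k).hom y = x := by
    intro x hx
    induction hx using Submodule.span_induction with
    | mem x hx =>
      obtain ⟨y, hy, rfl⟩ := hx
      exact ⟨j, 𝟙 j, y, by simpa using hy, rfl⟩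
    | zero => exact ⟨j, 𝟙 j, 0, zero_mem _, map_zero _⟩
    | add x y _ _ hx hy =>
      obtain ⟨k, f, a, ha, rfl⟩ := hx
      obtain ⟨l, g, b, hb, rfl⟩ := hy
      let m := IsFiltered.max k l
      let p := IsFiltered.coeq (f ≫ IsFiltered.leftToMax k l) (g ≫ IsFiltered.rightToMax k l)
      let kk : k ⟶ p := IsFiltered.leftToMax k l ≫ IsFiltered.coeqHom _ _
      let ll : l ⟶ p := IsFiltered.rightToMax k l ≫ IsFiltered.coeqHom _ _
      have hfg : f ≫ kk = g ≫ ll := by
        simpa [kk, ll, Category.assoc] using IsFiltered.coeq_condition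
          (f ≫ IsFiltered.leftToMax k l) (g ≫ IsFiltered.rightToMax k l)
      refine ⟨p, f ≫ kk, (D.map kk).hom a + (D.map ll).hom b, add_mem ?_ ?_, ?_⟩
      · rw [D.map_comp, CommRingCat.hom_comp, ← Ideal.map_map]
        exact Ideal.mem_map_of_mem _ ha
      · rw [hfg, D.map_comp, CommRingCat.hom_comp, ← Ideal.map_map]
        exact Ideal.mem_map_of_mem _ hb
      · rw [map_add, ← CommRingCat.comp_apply, ← CommRingCat.comp_apply, c.w, c.w]
    | smul r x _ hx =>
      obtain ⟨k, f, a, ha, rfl⟩ := hx
      obtain ⟨l, b, rfl⟩ := Types.jointly_surjective_of_isColimit hc' r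
      let kk : k ⟶ IsFiltered.max k l := IsFiltered.leftToMax k l
      refine ⟨_, f ≫ kk, (D.map (IsFiltered.rightToMax k l)).hom b * (D.map kk).hom a, ?_, ?_⟩
      · rw [D.map_comp, CommRingCat.hom_comp, ← Ideal.map_map]
        exact Ideal.mul_mem_left _ _ (Ideal.mem_map_of_mem _ ha)
      · rw [map_mul, ← CommRingCat.comp_apply, ← CommRingCat.comp_apply, c.w, c.w]
        rfl
  obtain ⟨k, f, y, hy, hy1⟩ := key 1 (h ▸ trivial)
  obtain ⟨l, g, g', hgg⟩ := (Types.FilteredColimit.isColimit_eq_iff _ hc').mp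
    (show (c.ι.app k).hom y = (c.ι.app k).hom 1 by rw [hy1, map_one])
  let q := IsFiltered.coeqHom g g'
  refine ⟨_, f ≫ g ≫ q, (Ideal.eq_top_iff_one _).mpr ?_⟩
  rw [D.map_comp, CommRingCat.hom_comp, ← Ideal.map_map]
  have h1 : (D.map (g ≫ q)).hom y = 1 := by
    have := congrArg (D.map q).hom hgg
    rw [D.map_comp]
    exact this.trans (((congrArg (D.map q).hom (map_one (D.map g').hom))).trans (map_one (D.map q).hom))
  rw [← h1]
  exact Ideal.mem_map_of_mem _ hy

theorem exists_hull (A : Type u) [CommRing A] :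
    ∃ (C : Type u) (_ : CommRing C) (_ : Algebra A C),
      Module.FaithfullyFlat A C ∧ EtPBC.IsIndEtale A C ∧ ProEtW.HasEtaleRetractions C := by
  let D := chain A
  let c := colimit.cocone D
  have hc : IsColimit c := colimit.isColimit D
  let t : (Functor.const (ULift.{u} ℕ)).obj (CommRingCat.of A) ⟶ D :=
    { app := fun j => toSt A j.down
      naturality := fun i j f => (Category.id_comp _).trans (toSt_comp A f.le).symm }
  let str : CommRingCat.of A ⟶ c.pt := c.ι.app ⟨0⟩
  have hst : ∀ j, t.app j ≫ c.ι.app j = str := fun j => by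
    rw [show str = c.ι.app ⟨0⟩ from rfl, ← c.w (homOfLE (Nat.zero_le j.down) : (⟨0⟩ : ULift.{u} ℕ) ⟶ j)]
    exact congrArg (· ≫ c.ι.app j) ((toSt_comp A (Nat.zero_le j.down)).symm.trans (Category.id_comp _))
  letI : Algebra A c.pt := str.hom.toAlgebra
  have hind : EtPBC.IsIndEtale A c.pt := by
    rw [IndEtale.isIndEtale_iff]
    have h : ind.{u} (ind.{u} IndEtale.EtaleProp.{u}) str :=
      ⟨ULift.{u} ℕ, inferInstance, inferInstance, D, t, c.ι, hc, fun j => ⟨indEtale_toSt A j.down, hst j⟩⟩
    have e := ind_ind.{u} IndEtale.etaleProp_le_fp.{u}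
    exact e ▸ h
  haveI := IndEtale.flat A c.pt hind
  refine ⟨c.pt, inferInstance, inferInstance, ⟨fun m hm => ?_⟩, hind, ?_⟩
  · rw [Ideal.smul_top_eq_map, Ne, Submodule.restrictScalars_eq_top_iff]
    intro htop
    obtain ⟨k, f, hk⟩ := exists_map_eq_top D c hc ⟨0⟩ m htop
    have hf : (toSt A k.down).hom = (D.map f).hom :=
      congrArg CommRingCat.Hom.hom ((toSt_comp A (Nat.zero_le k.down)).symm.trans (Category.id_comp _))
    letI : Algebra A (D.obj k) := (toSt A k.down).hom.toAlgebra
    haveI : Module.FaithfullyFlat A (D.obj k) := faithfullyFlat_toSt A k.down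
    refine Module.FaithfullyFlat.submodule_ne_top (R := A) (M := D.obj k) hm ?_
    rw [Ideal.smul_top_eq_map, Submodule.restrictScalars_eq_top_iff,
      show algebraMap A (D.obj k) = (toSt A k.down).hom from rfl, hf]
    exact hk
  · intro T _ _ hT hTe
    obtain ⟨j, T', g, gT, hpush, hg⟩ := PreIndSpreads.exists_isPushout (P := IndEtale.EtaleProp.{u}) hc
      (CommRingCat.ofHom (algebraMap c.pt T)) ((IndEtale.etaleProp_iff c.pt T).mpr hTe)
    letI : Algebra (D.obj j) T' := g.hom.toAlgebra
    haveI : Algebra.Etale (D.obj j) T' := (IndEtale.etaleProp_iff (D.obj j) T').mp hg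
    have hU := (PrimeSpectrum.isOpenMap_comap_of_hasGoingDown_of_finitePresentation
      (R := D.obj j) (S := T')).isOpen_range
    obtain ⟨I, hI⟩ := (PrimeSpectrum.isClosed_iff_zeroLocus_ideal _).mp hU.isClosed_compl
    have htop : I.map (c.ι.app j).hom = ⊤ := by
      by_contra hne
      obtain ⟨M, hM, hIM⟩ := Ideal.exists_le_maximal _ hne
      haveI := hT
      obtain ⟨Q, hQ⟩ := PrimeSpectrum.comap_surjective_of_faithfullyFlat (A := c.pt) (B := T)
        ⟨M, hM.isPrime⟩
      have hmem : PrimeSpectrum.comap (c.ι.app j).hom ⟨M, hM.isPrime⟩ ∈ PrimeSpectrum.zeroLocus I :=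
        fun x hx => hIM (Ideal.mem_map_of_mem _ hx)
      rw [← hI] at hmem
      refine hmem ⟨PrimeSpectrum.comap gT.hom Q, ?_⟩
      rw [← hQ, ← PrimeSpectrum.comap_comp_apply, ← PrimeSpectrum.comap_comp_apply]
      exact congrArg (fun φ => PrimeSpectrum.comap φ Q) (congrArg CommRingCat.Hom.hom hpush.w).symm
    obtain ⟨k, f, hk⟩ := exists_map_eq_top D c hc j I htop
    letI : Algebra (D.obj j) (D.obj k) := (D.map f).hom.toAlgebra
    have hff : Module.FaithfullyFlat (D.obj k) (D.obj k ⊗[D.obj j] T') := by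
      refine Module.FaithfullyFlat.of_comap_surjective fun P => ?_
      have hP : PrimeSpectrum.comap (D.map f).hom P ∈ Set.range (PrimeSpectrum.comap g.hom) := by
        by_contra hP
        have : PrimeSpectrum.comap (D.map f).hom P ∈ PrimeSpectrum.zeroLocus I := hI ▸ hP
        exact P.isPrime.ne_top (top_le_iff.mp (hk ▸ Ideal.map_le_iff_le_comap.mpr this))
      exact mem_range_comap_tensor P hP
    obtain ⟨ψ⟩ := exists_map_to_hull (D.obj k) (D.obj k ⊗[D.obj j] T') hff
    let k' : ULift.{u} ℕ := ⟨k.down + 1⟩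
    let s : k ⟶ k' := homOfLE (show k.down ≤ k.down + 1 by omega)
    have hs : D.map s = step A k.down := Functor.ofSequence_map_homOfLE_succ _ _
    let a : T' ⟶ c.pt := CommRingCat.ofHom
      (ψ.toRingHom.comp (Algebra.TensorProduct.includeRight (R := D.obj j) (A := D.obj k) (B := T')).toRingHom) ≫
        c.ι.app k'
    have hga : c.ι.app j ≫ 𝟙 c.pt = g ≫ a := by
      refine (Category.comp_id (c.ι.app j)).trans ?_
      rw [← c.w (f ≫ s), D.map_comp, hs, ← Category.assoc]
      refine congrArg (· ≫ c.ι.app k') (CommRingCat.hom_ext (RingHom.ext fun x => ?_))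
      change algebraMap (D.obj k) _ ((D.map f).hom x) =
        ψ (Algebra.TensorProduct.includeRight (algebraMap (D.obj j) T' x))
      rw [AlgHom.commutes, IsScalarTower.algebraMap_apply (D.obj j) (D.obj k) (D.obj k ⊗[D.obj j] T'),
        ψ.commutes]
      rfl
    exact ⟨{ (hpush.desc (𝟙 c.pt) a hga).hom with
      commutes' := fun x => congr($(hpush.inl_desc (𝟙 c.pt) a hga).hom x) }⟩

end Groth.L27.EtaleHull
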