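import Mathlib.CategoryTheory.Galois.Prorepresentability
import Mathlib.CategoryTheory.Limits.Constructions.FiniteProductsOfBinaryProducts
import Mathlib.CategoryTheory.CofilteredSystem

/-! Uniqueness of fibre functors on a Galois category. -/

set_option autoImplicit false
universe u v w u' v'

open CategoryTheory CategoryTheory.Limits CategoryTheory.PreGaloisCategory

namespace Groth.L27.Galois

variable {C : Type u} [Category.{v} C] [GaloisCategory C]
variable (F : C ⥤ FintypeCat.{w}) [FiberFunctor F]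
variable (F' : C ⥤ FintypeCat.{w})

include F in
theorem isCofilteredOrEmpty_pointed : IsCofilteredOrEmpty (PointedGaloisObject F) where
  cone_objs := fun ⟨A, a, _⟩ ⟨B, b, _⟩ => by
    obtain ⟨Z, f, z, hgal, hfz⟩ := exists_hom_from_galois_of_fiber F (A ⨯ B)
      <| (fiberBinaryProductEquiv F A B).symm (a, b)
    refine ⟨⟨Z, z, hgal⟩, ⟨f ≫ prod.fst, ?_⟩, ⟨f ≫ prod.snd, ?_⟩, trivial⟩
    · simp only [F.map_comp, hfz, FintypeCat.comp_apply, fiberBinaryProductEquiv_symm_fst_apply]
    · simp only [F.map_comp, hfz, FintypeCat.comp_apply, fiberBinaryProductEquiv_symm_snd_apply]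
  cone_maps := fun ⟨A, a, _⟩ ⟨B, b, _⟩ ⟨f, hf⟩ ⟨g, hg⟩ => by
    obtain ⟨Z, h, z, hgal, hhz⟩ := exists_hom_from_galois_of_fiber F A a
    refine ⟨⟨Z, z, hgal⟩, ⟨h, hhz⟩, PointedGaloisObject.hom_ext ?_⟩
    apply evaluation_injective_of_isConnected F Z B z
    simp only [PointedGaloisObject.comp_val, F.map_comp, FintypeCat.comp_apply, hhz, hf, hg]

theorem isEmpty_obj_initial [PreservesColimitsOfShape (Discrete WalkingPair) F'] :
    IsEmpty (F'.obj (⊥_ C)) := by
  let e : (⊥_ C) ⨿ (⊥_ C) ≅ ⊥_ C :=
    { hom := coprod.desc (𝟙 _) (𝟙 _), inv := coprod.inl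
      hom_inv_id := coprod.hom_ext (initialIsInitial.hom_ext _ _) (initialIsInitial.hom_ext _ _)
      inv_hom_id := coprod.inl_desc _ _ }
  let i : F'.obj (⊥_ C) ⨿ F'.obj (⊥_ C) ≅ F'.obj (⊥_ C) :=
    PreservesColimitPair.iso F' _ _ ≪≫ F'.mapIso e
  -- the two injections agree after composition with `i`, so they agree
  have hil : (coprod.inl : F'.obj (⊥_ C) ⟶ _) = coprod.inr := by
    rw [← cancel_mono i.hom]
    simp only [i, Iso.trans_hom, Functor.mapIso_hom, PreservesColimitPair.iso_hom]
    rw [← Category.assoc, ← Category.assoc, coprodComparison_inl, coprodComparison_inr]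
    congr 2
    exact initialIsInitial.hom_ext _ _
  refine ⟨fun x => ?_⟩
  let T := FintypeCat.of (ULift.{w} Bool)
  let a : F'.obj (⊥_ C) ⟶ T := FintypeCat.homMk fun _ => ULift.up true
  let b : F'.obj (⊥_ C) ⟶ T := FintypeCat.homMk fun _ => ULift.up false
  have h1 : coprod.inl ≫ coprod.desc a b = coprod.inr ≫ coprod.desc a b := by rw [hil]
  rw [coprod.inl_desc, coprod.inr_desc] at h1
  have := congrArg (fun f : F'.obj (⊥_ C) ⟶ T => (f x).down) h1
  simp [a, b] at this

theorem isEmpty_obj_of_isInitial [PreservesColimitsOfShape (Discrete WalkingPair) F'] {X : C}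
    (h : IsInitial X) : IsEmpty (F'.obj X) :=
  ⟨fun x => (isEmpty_obj_initial F').false (F'.map (h.to (⊥_ C)) x)⟩

/-- A point of a fibre as a morphism from a one-point type. -/
def point {G : C ⥤ FintypeCat.{w}} {X : C} (x : G.obj X) : FintypeCat.of PUnit.{w + 1} ⟶ G.obj X :=
  FintypeCat.homMk fun _ => x

theorem exists_equalizer_point [PreservesFiniteLimits F'] {A X : C} (f g : A ⟶ X) (b : F'.obj A)
    (h : F'.map f b = F'.map g b) : ∃ e : F'.obj (equalizer f g), F'.map (equalizer.ι f g) e = b := by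
  have hk : point b ≫ F'.map f = point b ≫ F'.map g := FintypeCat.hom_ext _ _ fun _ => h
  let l := (isLimitOfHasEqualizerOfPreservesLimit F' f g)
  refine ⟨Fork.IsLimit.lift l (point b) hk PUnit.unit, ?_⟩
  exact ConcreteCategory.congr_hom (Fork.IsLimit.lift_ι' l (point b) hk) PUnit.unit

theorem exists_prod_point [PreservesFiniteLimits F'] {A B : C} (a : F'.obj A) (b : F'.obj B) :
    ∃ z : F'.obj (A ⨯ B), F'.map prod.fst z = a ∧ F'.map prod.snd z = b := by
  let l := isLimitOfHasBinaryProductOfPreservesLimit F' A B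
  obtain ⟨k, hk₁, hk₂⟩ := BinaryFan.IsLimit.lift' l (point a) (point b)
  exact ⟨k PUnit.unit, ConcreteCategory.congr_hom hk₁ PUnit.unit,
    ConcreteCategory.congr_hom hk₂ PUnit.unit⟩

theorem exists_sigma_point {ι : Type v} [Finite ι] (G : C ⥤ FintypeCat.{w})
    [PreservesColimitsOfShape (Discrete ι) G] (Z : ι → C) (z : G.obj (∐ Z)) :
    ∃ (i : ι) (a : G.obj (Z i)), G.map (Sigma.ι Z i) a = z := by
  let hs := isColimitOfPreserves FintypeCat.incl.{w}
    (isColimitOfPreserves G (colimit.isColimit (Discrete.functor Z)))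
  obtain ⟨⟨i⟩, a, ha⟩ := Types.jointly_surjective _ hs z
  exact ⟨i, a, ha⟩

/-- A functor preserving finite limits and binary coproducts with no hidden empty fibres is isomorphic
to any fibre functor. -/
theorem nonempty_iso [PreservesFiniteLimits F'] [PreservesColimitsOfShape (Discrete WalkingPair) F']
    (h : ∀ X : C, IsEmpty (F'.obj X) → Nonempty (IsInitial X)) : Nonempty (F' ≅ F) := by
  haveI := isCofilteredOrEmpty_pointed F
  have hne : ∀ A : PointedGaloisObject F, Nonempty (F'.obj A.obj) := fun A => by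
    by_contra hcon
    obtain ⟨hi⟩ := h A.obj (not_nonempty_iff.mp hcon)
    exact IsConnected.notInitial hi
  let D : PointedGaloisObject F ⥤ Type w := PointedGaloisObject.incl F ⋙ F' ⋙ FintypeCat.incl
  haveI : ∀ A, Finite (D.obj A) := fun A => inferInstanceAs (Finite (F'.obj A.obj))
  haveI : ∀ A, Nonempty (D.obj A) := fun A => hne A
  obtain ⟨b', hb'⟩ := nonempty_sections_of_finite_cofiltered_system D
  let b : ∀ A : PointedGaloisObject F, F'.obj A.obj := fun A => b' A
  have hb : ∀ {R P : PointedGaloisObject F} (p : R ⟶ P), F'.map p.val (b R) = b P := fun p => hb' p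
  -- independence of the presentation
  have key : ∀ {X : C} (P Q : PointedGaloisObject F) (f : P.obj ⟶ X) (g : Q.obj ⟶ X),
      F.map f P.pt = F.map g Q.pt → F'.map f (b P) = F'.map g (b Q) := by
    intro X P Q f g hfg
    obtain ⟨R, p, q, -⟩ := IsCofilteredOrEmpty.cone_objs P Q
    have hpq : p.val ≫ f = q.val ≫ g := by
      apply evaluation_injective_of_isConnected F R.obj X R.pt
      simp only [F.map_comp, FintypeCat.comp_apply, p.comp, q.comp, hfg]
    rw [← hb p, ← hb q]
    change (F'.map p.val ≫ F'.map f) (b R) = (F'.map q.val ≫ F'.map g) (b R)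
    rw [← F'.map_comp, ← F'.map_comp, hpq]
  have hex : ∀ (X : C) (x : F.obj X), ∃ (P : PointedGaloisObject F) (f : P.obj ⟶ X), F.map f P.pt = x := by
    intro X x
    obtain ⟨A, f, a, hA, hfa⟩ := exists_hom_from_galois_of_fiber F X x
    exact ⟨⟨A, a, hA⟩, f, hfa⟩
  choose P f hf using hex
  let t : F ⟶ F' :=
    { app := fun X => FintypeCat.homMk fun x => F'.map (f X x) (b (P X x))
      naturality := fun X Y φ => FintypeCat.hom_ext _ _ fun x => by
        change F'.map (f Y (F.map φ x)) (b (P Y (F.map φ x))) = F'.map φ (F'.map (f X x) (b (P X x)))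
        rw [← FintypeCat.comp_apply (F'.map (f X x)), ← F'.map_comp]
        refine key _ _ _ _ ?_
        rw [F.map_comp, FintypeCat.comp_apply, hf, hf] }
  have ht : ∀ {X : C} (Q : PointedGaloisObject F) (g : Q.obj ⟶ X),
      t.app X (F.map g Q.pt) = F'.map g (b Q) := fun Q g => key _ _ _ _ (hf _ _)
  have hinj : ∀ X, Function.Injective (t.app X) := by
    intro X x y hxy
    obtain ⟨R, p, q, -⟩ := IsCofilteredOrEmpty.cone_objs (P X x) (P X y)
    have hx : F.map (p.val ≫ f X x) R.pt = x := by
      simp only [F.map_comp, FintypeCat.comp_apply, p.comp, hf]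
    have hy : F.map (q.val ≫ f X y) R.pt = y := by
      simp only [F.map_comp, FintypeCat.comp_apply, q.comp, hf]
    rw [← hx, ← hy, ht, ht] at hxy
    obtain ⟨e, -⟩ := exists_equalizer_point F' _ _ (b R) hxy
    have : IsIso (equalizer.ι (p.val ≫ f X x) (q.val ≫ f X y)) :=
      IsConnected.noTrivialComponent _ _ fun hi => (isEmpty_obj_of_isInitial F' hi).false e
    rw [← hx, ← hy, eq_of_epi_equalizer (f := p.val ≫ f X x) (g := q.val ≫ f X y)]
  have hsurj : ∀ X, Function.Surjective (t.app X) := by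
    intro X y
    obtain ⟨A, a, hA, hbij⟩ := exists_galois_representative F X
    obtain ⟨z, hz₁, hz₂⟩ := exists_prod_point F' y (b ⟨A, a, hA⟩)
    let Φ : (∐ fun _ : (A ⟶ X) => A) ⟶ X ⨯ A := Sigma.desc fun g => prod.lift g (𝟙 A)
    have hΦ : ∀ g : A ⟶ X, Sigma.ι (fun _ : (A ⟶ X) => A) g ≫ Φ = prod.lift g (𝟙 A) :=
      fun g => Sigma.ι_desc _ _
    have hfib : ∀ (g : A ⟶ X) (a' : F.obj A),
        fiberBinaryProductEquiv F X A (F.map Φ (F.map (Sigma.ι (fun _ : (A ⟶ X) => A) g) a')) =
          (F.map g a', a') := by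
      intro g a'
      rw [← FintypeCat.comp_apply, ← F.map_comp, hΦ, ← Equiv.eq_symm_apply]
      apply (fiberBinaryProductEquiv F X A).injective
      rw [Equiv.apply_symm_apply]
      refine Prod.ext ?_ ?_
      · rw [← fiberBinaryProductEquiv_symm_fst_apply (F := F) (fiberBinaryProductEquiv F X A _).1
          (fiberBinaryProductEquiv F X A (F.map (prod.lift g (𝟙 A)) a')).2, Prod.mk.eta,
          Equiv.symm_apply_apply, ← FintypeCat.comp_apply, ← F.map_comp, prod.lift_fst]
      · rw [← fiberBinaryProductEquiv_symm_snd_apply (F := F) (fiberBinaryProductEquiv F X A _).1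
          (fiberBinaryProductEquiv F X A (F.map (prod.lift g (𝟙 A)) a')).2, Prod.mk.eta,
          Equiv.symm_apply_apply, ← FintypeCat.comp_apply, ← F.map_comp, prod.lift_snd, F.map_id,
          FintypeCat.id_apply]
    have hbij' : ∀ a' : F.obj A, Function.Bijective fun g : A ⟶ X => F.map g a' := by
      intro a'
      obtain ⟨σ, rfl⟩ := MulAction.exists_smul_eq (Aut F) a a'
      have : (fun g : A ⟶ X => F.map g (σ • a)) = (fun x : F.obj X => σ • x) ∘ fun g : A ⟶ X => F.map g a :=
        funext fun g => (mulAction_naturality F σ g a).symm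
      rw [this]
      exact (MulAction.bijective σ).comp hbij
    haveI : PreservesColimitsOfShape (Discrete (A ⟶ X)) F := inferInstance
    have : IsIso (F.map Φ) := by
      rw [ConcreteCategory.isIso_iff_bijective]
      refine ⟨fun w₁ w₂ hw => ?_, fun r => ?_⟩
      · obtain ⟨g₁, a₁, rfl⟩ := exists_sigma_point F _ w₁
        obtain ⟨g₂, a₂, rfl⟩ := exists_sigma_point F _ w₂
        have := congrArg (fiberBinaryProductEquiv F X A) hw
        rw [hfib, hfib, Prod.mk.injEq] at this
        obtain ⟨h1, rfl⟩ := this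
        obtain rfl := (hbij' a₁).1 h1
        rfl
      · obtain ⟨g, hg⟩ := (hbij' (fiberBinaryProductEquiv F X A r).2).2 (fiberBinaryProductEquiv F X A r).1
        refine ⟨F.map (Sigma.ι (fun _ : (A ⟶ X) => A) g) (fiberBinaryProductEquiv F X A r).2,
          (fiberBinaryProductEquiv F X A).injective ?_⟩
        rw [hfib]
        exact Prod.ext hg rfl
    have : IsIso Φ := isIso_of_reflects_iso Φ F
    haveI : PreservesColimitsOfShape (Discrete.{0} PEmpty) F' := by
      haveI := isEmpty_obj_initial F'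
      haveI : PreservesColimit (Functor.empty.{0} C) F' := preservesInitial_of_iso F'
        (initialIsInitial.uniqueUpToIso (IsInitial.ofUniqueHom
          (fun Y => FintypeCat.homMk fun x : F'.obj (⊥_ C) => isEmptyElim x)
          fun Y m => FintypeCat.hom_ext _ _ fun x => isEmptyElim x))
      exact ⟨fun {K} => preservesColimit_of_iso_diagram F' (Functor.uniqueFromEmpty K).symm⟩
    haveI := PreservesFiniteCoproducts.of_preserves_binary_and_initial F' (A ⟶ X)
    obtain ⟨g, b', hb'⟩ := exists_sigma_point F' (fun _ : (A ⟶ X) => A) (F'.map (inv Φ) z)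
    have hz : F'.map (prod.lift g (𝟙 A)) b' = z := by
      rw [← hΦ, F'.map_comp, FintypeCat.comp_apply, hb', ← FintypeCat.comp_apply, ← F'.map_comp,
        IsIso.inv_hom_id, F'.map_id, FintypeCat.id_apply]
    rw [← hz, ← FintypeCat.comp_apply, ← F'.map_comp, prod.lift_fst] at hz₁
    rw [← hz, ← FintypeCat.comp_apply, ← F'.map_comp, prod.lift_snd, F'.map_id, FintypeCat.id_apply] at hz₂
    refine ⟨F.map g a, ?_⟩
    rw [ht ⟨A, a, hA⟩ g, ← hz₂]
    exact hz₁
  have : ∀ X, IsIso (t.app X) := fun X =>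
    (ConcreteCategory.isIso_iff_bijective _).mpr ⟨hinj X, hsurj X⟩
  have : IsIso t := NatIso.isIso_of_isIso_app t
  exact ⟨(asIso t).symm⟩

/-- Exact functors to finite types have no hidden empty fibres. -/
theorem isInitial_of_isEmpty (F' : C ⥤ FintypeCat.{w}) [PreservesFiniteLimits F'] [F'.PreservesEpimorphisms]
    (X : C) (h : IsEmpty (F'.obj X)) : Nonempty (IsInitial X) := by
  let F₀ := GaloisCategory.getFiberFunctor C
  by_contra hne
  have : Nonempty (F₀.obj X) := (not_initial_iff_fiber_nonempty F₀ X).mp fun hi => hne ⟨hi⟩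
  obtain ⟨x⟩ := this
  obtain ⟨A, f, a, hA, -⟩ := exists_hom_from_galois_of_fiber F₀ X x
  have hempty : IsEmpty (F'.obj A) := ⟨fun y => h.false (F'.map f y)⟩
  have hc : IsConnected (⊤_ C) := by
    refine ⟨fun hi => ?_, fun Y i _ hY => ?_⟩
    · have := (initial_iff_fiber_empty F₀ (⊤_ C)).mp ⟨hi⟩
      exact this.false (F₀.map (terminal.from A) a)
    · obtain ⟨y⟩ := (not_initial_iff_fiber_nonempty F₀ Y).mp hY
      have : IsIso (F₀.map i) := by
        rw [ConcreteCategory.isIso_iff_bijective]
        refine ⟨(ConcreteCategory.mono_iff_injective_of_preservesPullback _).mp inferInstance, fun r => ⟨y, ?_⟩⟩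
        exact ConcreteCategory.congr_hom ((IsTerminal.isTerminalObj F₀ _ terminalIsTerminal).hom_ext
          (point (F₀.map i y)) (point r)) PUnit.unit
      exact isIso_of_reflects_iso i F₀
  have : Nonempty (F₀.obj A) := ⟨a⟩
  have : Epi (terminal.from A) := epi_of_nonempty_of_isConnected F₀ (terminal.from A)
  have hsur := (ConcreteCategory.epi_iff_surjective_of_preservesPushout (F'.map (terminal.from A))).mp inferInstance
  let k := (IsTerminal.isTerminalObj F' _ terminalIsTerminal).from (FintypeCat.of PUnit.{w + 1})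
  obtain ⟨y, -⟩ := hsur (k PUnit.unit)
  exact hempty.false y

theorem nonempty_iso_of_exact [PreservesFiniteLimits F'] [F'.PreservesEpimorphisms]
    [PreservesColimitsOfShape (Discrete WalkingPair) F'] : Nonempty (F' ≅ F) :=
  nonempty_iso F F' (isInitial_of_isEmpty F')

variable {C' : Type u'} [Category.{v'} C'] [GaloisCategory C']

/-- An exact functor followed by a fibre functor is a fibre functor. -/
theorem nonempty_fiberFunctor_comp (H : C ⥤ C') [PreservesFiniteLimits H] [PreservesFiniteColimits H]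
    (G : C' ⥤ FintypeCat.{w}) [FiberFunctor G] : Nonempty (FiberFunctor (H ⋙ G)) := by
  have hq : ∀ (K : Type v) [Group K] [Finite K], PreservesColimitsOfShape (SingleObj K) H := by
    intro K _ _
    obtain ⟨K', hg, hf, ⟨e⟩⟩ := Finite.exists_type_univ_nonempty_mulEquiv.{v, 0} K
    letI := Fintype.ofFinite K'
    haveI : PreservesColimitsOfShape (SingleObj K') H := inferInstance
    exact preservesColimitsOfShape_of_equiv e.toSingleObjEquiv.symm H
  haveI : H.PreservesEpimorphisms := inferInstance
  haveI : PreservesColimitsOfShape (Discrete WalkingPair) (H ⋙ G) := inferInstance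
  let F₀ : C ⥤ FintypeCat.{w} := GaloisCategory.getFiberFunctor C ⋙ FintypeCat.uSwitch.{v, w}
  haveI : FiberFunctor F₀ := FiberFunctor.comp_right _
  haveI : PreservesFiniteLimits (H ⋙ G) := comp_preservesFiniteLimits H G
  obtain ⟨e⟩ := nonempty_iso_of_exact F₀ (H ⋙ G)
  haveI : (H ⋙ G).ReflectsIsomorphisms := reflectsIsomorphisms_of_iso e.symm
  haveI : PreservesFiniteCoproducts (H ⋙ G) := ⟨fun n => inferInstance⟩
  exact ⟨{ preservesQuotientsByFiniteGroups := fun K _ _ =>
            haveI := hq K; comp_preservesColimitsOfShape H G }⟩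

end Groth.L27.Galois
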