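import Groth.Agent.L27.TopSets
import Groth.Agent.L27.HenselProperGen

/-! # Zariski sections of a proper scheme over a henselian pair -/

set_option autoImplicit false
set_option linter.style.haveILetI false
set_option backward.isDefEq.respectTransparency false
set_option backward.isDefEq.respectTransparency.types false

universe u

open CategoryTheory CategoryTheory.Limits AlgebraicGeometry TopologicalSpace Opposite Topology

noncomputable section

namespace Groth.L27.H0Zariski

open Groth.L27.HenselProper

theorem spectralSpace_of_qcqs (X : Scheme.{u}) [CompactSpace X] [QuasiSeparatedSpace X] : SpectralSpace X :=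
  { (inferInstance : T0Space X), (inferInstance : CompactSpace X), (inferInstance : QuasiSober X),
    (inferInstance : QuasiSeparatedSpace X), (inferInstance : PrespectralSpace X) with }

variable {A : Type u} [CommRing A] (I : Ideal A) [HenselianRing A I]
  {X : Scheme.{u}} (f : X ⟶ Spec (CommRingCat.of A)) [IsProper f]

/-- The special fibre of the closure of a point is connected. -/
theorem isConnected_inter_closure (x : X) :
    _root_.IsConnected (Set.range (pullback.fst f (ι I)) ∩ closure {x}) := by
  let 𝓘 : Scheme.IdealSheafData X := Scheme.IdealSheafData.vanishingIdeal ⟨closure {x}, isClosed_closure⟩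
  let e : 𝓘.subscheme ⟶ X := 𝓘.subschemeι
  have he : Set.range e = closure {x} := by
    show Set.range 𝓘.subschemeι = _
    rw [Scheme.IdealSheafData.range_subschemeι]
    exact Scheme.IdealSheafData.coe_support_vanishingIdeal _
  haveI : IsClosedImmersion e := inferInstanceAs (IsClosedImmersion 𝓘.subschemeι)
  have hW : IrreducibleSpace 𝓘.subscheme := by
    have h : IsIrreducible (Set.range e) := he ▸ isIrreducible_singleton.closure
    haveI := Subtype.irreducibleSpace h
    let φ := e.isEmbedding.toHomeomorph.symm
    have h2 : IsIrreducible (Set.univ : Set 𝓘.subscheme) := by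
      rw [← φ.surjective.range_eq, ← Set.image_univ]
      exact IsIrreducible.image (IrreducibleSpace.isIrreducible_univ _) _ φ.continuous.continuousOn
    exact irreducibleSpace_def _ |>.mpr h2
  haveI := hW
  let j := pullback.fst (e ≫ f) (ι I)
  have himage : Set.range (pullback.fst f (ι I)) ∩ closure {x} = e '' Set.range j := by
    rw [← he]
    show _ = e '' Set.range (pullback.fst (e ≫ f) (ι I))
    rw [Scheme.Pullback.range_fst, Scheme.Pullback.range_fst, Scheme.Hom.comp_base, TopCat.coe_comp,
      Set.preimage_comp, Set.image_preimage_eq_inter_range]
  haveI : ConnectedSpace ↥(pullback (e ≫ f) (ι I)) := by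
    refine connectedSpace_iff_clopen.mpr ⟨?_, fun V hV => ?_⟩
    · by_contra hne
      rw [not_nonempty_iff] at hne
      exact Set.empty_ne_univ (closed_eq_empty_general I (e ≫ f) isClosed_univ
        (Set.disjoint_left.mpr fun _ ⟨t, _⟩ => (hne.false t).elim)).symm
    · obtain ⟨U, hU, rfl⟩ := exists_clopen_general I (e ≫ f) V hV
      rcases isClopen_iff.mp hU with rfl | rfl <;> simp
  rw [himage]
  exact (isConnected_range j.continuous).image _ e.continuous.continuousOn

theorem bijective_unit (F : TopCat.Sheaf (Type u) X.carrier) :
    Function.Bijective
      (((TopCat.Sheaf.pullbackPushforwardAdjunction (Type u)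
        (TopCat.ofHom ⟨(Subtype.val : (Set.range (pullback.fst f (ι I))) → X),
          continuous_subtype_val⟩)).unit.app F).hom.app (op ⊤)) := by
  haveI : CompactSpace X := QuasiCompact.compactSpace_of_compactSpace f
  haveI : QuasiSeparatedSpace X := quasiSeparatedSpace_of_quasiSeparated f
  haveI : SpectralSpace X.carrier := spectralSpace_of_qcqs X
  haveI : IsClosedImmersion (ι I) := IsClosedImmersion.spec_of_surjective _ Ideal.Quotient.mk_surjective
  exact TopSets.bijective_unit (pullback.fst f (ι I)).isClosedEmbedding.isClosed_range
    (isConnected_inter_closure I f) F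

end Groth.L27.H0Zariski
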