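import Mathlib.Topology.Spectral.Basic
import Mathlib.Topology.Spectral.ConstructibleTopology
import Mathlib.Topology.Connected.TotallyDisconnected
import Mathlib.Order.Disjointed

/-! Clopen subsets and connected components of spectral spaces. -/

set_option autoImplicit false
set_option linter.unusedSectionVars false
universe u
open Topology Set

namespace Groth.L27.Spectral

variable {X : Type u} [TopologicalSpace X] [SpectralSpace X]

/-- A closed set meeting all finite intersections of a family of compact opens meets its intersection. -/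
theorem nonempty_inter_sInter {C : Set X} (hC : IsClosed C) (𝒲 : Set (Set X))
    (h𝒲 : ∀ W ∈ 𝒲, IsOpen W ∧ IsCompact W)
    (hfip : ∀ t ⊆ 𝒲, t.Finite → (C ∩ ⋂₀ t).Nonempty) : (C ∩ ⋂₀ 𝒲).Nonempty := by
  let 𝒦 : Set (Set X) := {K | IsOpen K ∧ IsCompact K ∧ Disjoint K C}
  let ι := 𝒲 ⊕ 𝒦
  let f : ι → Set X := Sum.elim (fun W => W.1) (fun K => K.1ᶜ)
  let g : WithConstructibleTopology X → X := WithTopology.ofTopology
  have hcl : ∀ i, IsClosed (g ⁻¹' f i) := by
    intro i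
    rw [WithConstructibleTopology.isClosed_iff]
    refine @IsClosed.mk X (constructibleTopology X) _ ?_
    rcases i with W | K
    · exact IsCompact.isOpen_constructibleTopology_of_isClosed (s := W.1ᶜ)
        (by rw [compl_compl]; exact (h𝒲 _ W.2).2) (h𝒲 _ W.2).1.isClosed_compl
    · change @IsOpen X (constructibleTopology X) (K.1ᶜ)ᶜ
      rw [compl_compl]
      exact K.2.2.1.isOpen_constructibleTopology_of_isOpen K.2.1
  obtain ⟨w, hw⟩ := CompactSpace.iInter_nonempty (t := fun i => g ⁻¹' f i) hcl fun u => by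
    obtain ⟨x, hxC, hx⟩ := hfip ((fun W : 𝒲 => W.1) '' {W | Sum.inl W ∈ u})
      (by rintro _ ⟨W, -, rfl⟩; exact W.2)
      ((u.finite_toSet.preimage Sum.inl_injective.injOn).image _)
    refine ⟨WithTopology.toTopology _ x, mem_iInter₂.mpr fun i hi => ?_⟩
    change x ∈ f i
    rcases i with W | K
    · exact hx _ ⟨W, hi, rfl⟩
    · exact fun hK => K.2.2.2.le_bot ⟨hK, hxC⟩
  refine ⟨g w, ?_, fun W hW => mem_iInter.mp hw (Sum.inl ⟨W, hW⟩)⟩
  by_contra hwC
  obtain ⟨K, ⟨hKo, hKc⟩, hwK, hKC⟩ :=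
    PrespectralSpace.isTopologicalBasis.exists_subset_of_mem_open (show g w ∈ Cᶜ from hwC) hC.isOpen_compl
  exact mem_iInter.mp hw (Sum.inr ⟨K, hKo, hKc, disjoint_left.mpr fun a ha haC => hKC ha haC⟩) hwK

/-- A set cut out of a closed set by compact opens which is stable under specialization is closed. -/
theorem isClosed_inter_sInter {C : Set X} (hC : IsClosed C) (𝒲 : Set (Set X))
    (h𝒲 : ∀ W ∈ 𝒲, IsOpen W ∧ IsCompact W)
    (hs : ∀ x y : X, x ⤳ y → x ∈ C ∩ ⋂₀ 𝒲 → y ∈ C ∩ ⋂₀ 𝒲) : IsClosed (C ∩ ⋂₀ 𝒲) := by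
  rw [← closure_subset_iff_isClosed]
  intro y hy
  obtain ⟨w, hwC, hw⟩ := nonempty_inter_sInter hC (𝒲 ∪ {V | IsOpen V ∧ IsCompact V ∧ y ∈ V})
    (by rintro W (hW | ⟨hW, hW', -⟩); exacts [h𝒲 W hW, ⟨hW, hW'⟩]) fun t ht htf => by
      have ho : IsOpen (⋂₀ {V ∈ t | y ∈ V}) := (htf.subset (sep_subset _ _)).isOpen_sInter
        fun V hV => (ht hV.1).elim (fun h => (h𝒲 V h).1) (fun h => h.1)
      obtain ⟨z, hz1, hzC, hz2⟩ := mem_closure_iff.mp hy _ ho (fun V hV => hV.2)
      refine ⟨z, hzC, fun V hV => ?_⟩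
      rcases ht hV with h | h
      · exact hz2 V h
      · exact hz1 V ⟨hV, h.2.2⟩
  refine hs w y ?_ ⟨hwC, fun W hW => hw W (Or.inl hW)⟩
  rw [specializes_iff_forall_open]
  intro O hO hyO
  obtain ⟨V, ⟨hVo, hVc⟩, hyV, hVO⟩ :=
    PrespectralSpace.isTopologicalBasis.exists_subset_of_mem_open hyO hO
  exact hVO (hw V (Or.inr ⟨hVo, hVc, hyV⟩))

/-- The set of generalizations of a compact set is an intersection of compact opens. -/
theorem generalizations_eq {K : Set X} (hK : IsCompact K) :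
    {x : X | ∃ z ∈ K, x ⤳ z} = ⋂₀ {W | IsOpen W ∧ IsCompact W ∧ K ⊆ W} := by
  ext x
  refine ⟨fun ⟨z, hz, hxz⟩ W hW => hxz.mem_open hW.1 (hW.2.2 hz), fun hx => ?_⟩
  by_contra hne
  simp only [mem_setOf_eq, not_exists, not_and] at hne
  obtain ⟨W, hWc, hWo, hKW, hW⟩ := PrespectralSpace.exists_isCompact_and_isOpen_between hK
    (isClosed_closure (s := {x})).isOpen_compl
    (fun z hz hzc => hne z hz (specializes_iff_mem_closure.mpr hzc))
  exact hW (hx W ⟨hWo, hWc, hKW⟩) (subset_closure rfl)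

theorem exists_lift_decomposition (Z : Set X)
    (hconn : ∀ x : X, IsConnected (Z ∩ closure {x})) (Z₁ Z₂ : Set X) (h₁ : IsClosed Z₁)
    (h₂ : IsClosed Z₂) (hdisj : Disjoint Z₁ Z₂) (hunion : Z₁ ∪ Z₂ = Z) :
    ∃ X₁ X₂ : Set X, IsClosed X₁ ∧ IsClosed X₂ ∧ Disjoint X₁ X₂ ∧ X₁ ∪ X₂ = Set.univ ∧
      Z₁ = Z ∩ X₁ ∧ Z₂ = Z ∩ X₂ := by
  have hexcl : ∀ x z₁ z₂, z₁ ∈ Z₁ → z₂ ∈ Z₂ → x ⤳ z₁ → x ⤳ z₂ → False := by
    intro x z₁ z₂ hz₁ hz₂ hx₁ hx₂
    obtain ⟨w, -, hw⟩ := isPreconnected_closed_iff.mp (hconn x).2 Z₁ Z₂ h₁ h₂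
      (inter_subset_left.trans hunion.ge)
      ⟨z₁, ⟨hunion ▸ Or.inl hz₁, hx₁.mem_closure⟩, hz₁⟩
      ⟨z₂, ⟨hunion ▸ Or.inr hz₂, hx₂.mem_closure⟩, hz₂⟩
    exact hdisj.le_bot hw
  have hcl : ∀ A B : Set X, IsClosed A → Z ⊆ A ∪ B →
      (∀ x a b, a ∈ A → b ∈ B → x ⤳ a → x ⤳ b → False) → IsClosed {x : X | ∃ z ∈ A, x ⤳ z} := by
    intro A B hA hAB hex
    rw [generalizations_eq hA.isCompact, ← univ_inter (⋂₀ _)]
    refine isClosed_inter_sInter isClosed_univ _ (fun W hW => ⟨hW.1, hW.2.1⟩) fun x y hxy hx => ?_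
    rw [← generalizations_eq hA.isCompact] at hx ⊢
    obtain ⟨-, a, ha, hxa⟩ := hx
    obtain ⟨z, hzZ, hyz⟩ := (hconn y).1
    refine ⟨trivial, z, ?_, specializes_iff_mem_closure.mpr hyz⟩
    exact (hAB hzZ).resolve_right fun hzB =>
      hex x a z ha hzB hxa (hxy.trans (specializes_iff_mem_closure.mpr hyz))
  refine ⟨{x | ∃ z ∈ Z₁, x ⤳ z}, {x | ∃ z ∈ Z₂, x ⤳ z}, hcl Z₁ Z₂ h₁ hunion.ge hexcl,
    hcl Z₂ Z₁ h₂ (by rw [union_comm]; exact hunion.ge) (fun x a b ha hb hxa hxb => hexcl x b a hb ha hxb hxa),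
    disjoint_left.mpr fun x ⟨a, ha, hxa⟩ ⟨b, hb, hxb⟩ => hexcl x a b ha hb hxa hxb,
    eq_univ_of_forall fun x => ?_, ?_, ?_⟩
  · obtain ⟨z, hz, hxz⟩ := (hconn x).1
    rcases hunion.ge hz with h | h
    · exact Or.inl ⟨z, h, specializes_iff_mem_closure.mpr hxz⟩
    · exact Or.inr ⟨z, h, specializes_iff_mem_closure.mpr hxz⟩
  · ext x
    refine ⟨fun hx => ⟨hunion ▸ Or.inl hx, x, hx, specializes_rfl⟩, fun ⟨hxZ, a, ha, hxa⟩ => ?_⟩
    exact (hunion.ge hxZ).resolve_right fun hxb => hexcl x a x ha hxb hxa specializes_rfl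
  · ext x
    refine ⟨fun hx => ⟨hunion ▸ Or.inr hx, x, hx, specializes_rfl⟩, fun ⟨hxZ, a, ha, hxa⟩ => ?_⟩
    exact (hunion.ge hxZ).resolve_left fun hxb => hexcl x x a hxb ha specializes_rfl hxa

theorem closedPoints_to_components_surjective :
    Function.Surjective (fun x : {x : X // IsClosed ({x} : Set X)} => ConnectedComponents.mk x.1) := by
  intro c
  obtain ⟨x, rfl⟩ := ConnectedComponents.surjective_coe c
  obtain ⟨z, hz, hzc⟩ := isClosed_connectedComponent.exists_closed_singleton ⟨x, mem_connectedComponent⟩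
  exact ⟨⟨z, hzc⟩, ConnectedComponents.coe_eq_coe'.mpr hz⟩

theorem components_injective_of_unique_specialization (h0 : IsClosed {x : X | IsClosed ({x} : Set X)})
    (huniq : ∀ x : X, ∃! z : X, IsClosed ({z} : Set X) ∧ x ⤳ z) :
    Function.Injective (fun x : {x : X // IsClosed ({x} : Set X)} => ConnectedComponents.mk x.1) := by
  rintro ⟨a, ha⟩ ⟨b, hb⟩ hab
  by_contra hne
  replace hne : a ≠ b := fun e => hne (Subtype.ext e)
  obtain ⟨U, ⟨hUo, hUc⟩, haU, hUb⟩ := PrespectralSpace.isTopologicalBasis.exists_subset_of_mem_open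
    (show a ∈ ({b} : Set X)ᶜ from hne) hb.isOpen_compl
  set Z := {x : X | IsClosed ({x} : Set X)}
  have hZ1 : IsClosed (Z ∩ U) := by
    have := isClosed_inter_sInter h0 {U} (by rintro W rfl; exact ⟨hUo, hUc⟩) fun x y hxy hx => by
      rwa [show y = x from hx.1.closure_eq.subset hxy.mem_closure]
    rwa [sInter_singleton] at this
  have hconn : ∀ x : X, IsConnected (Z ∩ closure {x}) := by
    intro x
    obtain ⟨z, ⟨hz, hxz⟩, huz⟩ := huniq x
    have : Z ∩ closure {x} = {z} :=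
      eq_singleton_iff_unique_mem.mpr ⟨⟨hz, hxz.mem_closure⟩,
        fun w hw => huz w ⟨hw.1, specializes_iff_mem_closure.mpr hw.2⟩⟩
    rw [this]; exact isConnected_singleton
  obtain ⟨X₁, X₂, h₁, h₂, hd, hu, hX₁, hX₂⟩ := exists_lift_decomposition Z hconn (Z ∩ U)
    (Z ∩ Uᶜ) hZ1 (h0.inter hUo.isClosed_compl) (disjoint_left.mpr fun x hx hx' => hx'.2 hx.2)
    (by rw [← inter_union_distrib_left, union_compl_self, inter_univ])
  have hX₁o : X₁ = X₂ᶜ := (IsCompl.of_eq hd.inter_eq hu).eq_compl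
  have hclopen : IsClopen X₁ := ⟨h₁, hX₁o ▸ h₂.isOpen_compl⟩
  have hbmem : b ∈ connectedComponent a := ConnectedComponents.coe_eq_coe'.mp hab.symm
  have hbX₁ : b ∈ X₁ := hclopen.connectedComponent_subset (hX₁.le ⟨ha, haU⟩).2 hbmem
  exact hUb (hX₁.ge ⟨hb, hbX₁⟩).2 rfl

theorem components_bijective_of_unique_specialization (h0 : IsClosed {x : X | IsClosed ({x} : Set X)})
    (huniq : ∀ x : X, ∃! z : X, IsClosed ({z} : Set X) ∧ x ⤳ z) :
    Function.Bijective (fun x : {x : X // IsClosed ({x} : Set X)} => ConnectedComponents.mk x.1) :=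
  ⟨components_injective_of_unique_specialization h0 huniq, closedPoints_to_components_surjective⟩

/-- In a spectral space connected components are intersections of clopens. -/
theorem exists_clopen_subset_of_component_subset {x : X} {O : Set X} (hO : IsOpen O)
    (h : connectedComponent x ⊆ O) : ∃ W, IsClopen W ∧ x ∈ W ∧ W ⊆ O := by
  let ι := {W : Set X // IsClopen W ∧ x ∈ W}
  have : Nonempty ι := ⟨⟨univ, isClopen_univ, trivial⟩⟩
  let S : Set X := ⋂ W : ι, W.1
  have hScl : IsClosed S := isClosed_iInter fun W => W.2.1.1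
  have hxS : x ∈ S := mem_iInter.mpr fun W => W.2.2
  have hdir : Directed (· ⊇ ·) (fun W : ι => W.1) := fun A B =>
    ⟨⟨A.1 ∩ B.1, A.2.1.inter B.2.1, A.2.2, B.2.2⟩, inter_subset_left, inter_subset_right⟩
  have hpre : IsPreconnected S := by
    rw [isPreconnected_iff_subset_of_fully_disjoint_closed hScl]
    intro B C hB hC hSBC hBC
    wlog hxB : x ∈ B generalizing B C
    · exact (this C B hC hB (by rwa [union_comm]) hBC.symm ((hSBC hxS).resolve_left hxB)).symm
    left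
    obtain ⟨U, hUc, hUo, hBU, hUC⟩ := PrespectralSpace.exists_isCompact_and_isOpen_between
      (hScl.inter hB).isCompact hC.isOpen_compl (fun y hy hyC => hBC.le_bot ⟨hy.2, hyC⟩)
    obtain ⟨V, hVc, hVo, hCV, hVB⟩ := PrespectralSpace.exists_isCompact_and_isOpen_between
      (hScl.inter hC).isCompact hB.isOpen_compl (fun y hy hyB => hBC.le_bot ⟨hyB, hy.2⟩)
    have hK : IsCompact ((U ∪ V)ᶜ ∪ (U ∩ V)) :=
      ((hUo.union hVo).isClosed_compl.isCompact).union (hUc.inter_of_isOpen hVc hUo hVo)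
    have hKS : ((U ∪ V)ᶜ ∪ (U ∩ V)) ∩ S = ∅ := by
      refine eq_empty_of_forall_notMem fun y ⟨hy, hyS⟩ => ?_
      rcases hy with hy | hy
      · rcases hSBC hyS with h | h
        · exact hy (Or.inl (hBU ⟨hyS, h⟩))
        · exact hy (Or.inr (hCV ⟨hyS, h⟩))
      · rcases hSBC hyS with h | h
        · exact hVB hy.2 h
        · exact hUC hy.1 h
    obtain ⟨W, hW⟩ := hK.elim_directed_family_closed (fun W : ι => W.1) (fun W => W.2.1.1)
      hKS hdir
    have hWsub : W.1 ⊆ (U ∪ V) ∩ (U ∩ V)ᶜ := fun y hy => by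
      refine ⟨?_, fun h' => eq_empty_iff_forall_notMem.mp hW y ⟨Or.inr h', hy⟩⟩
      by_contra h'
      exact eq_empty_iff_forall_notMem.mp hW y ⟨Or.inl h', hy⟩
    have hWU : IsClopen (W.1 ∩ U) := by
      refine ⟨?_, W.2.1.2.inter hUo⟩
      have : W.1 ∩ U = W.1 ∩ Vᶜ := by
        ext y
        refine and_congr_right fun hy => ⟨fun h1 h2 => (hWsub hy).2 ⟨h1, h2⟩, fun h1 => ?_⟩
        exact (hWsub hy).1.resolve_right h1
      rw [this]
      exact W.2.1.1.inter hVo.isClosed_compl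
    intro y hy
    have hyU : y ∈ U := (mem_iInter.mp hy (⟨_, hWU, W.2.2, hBU ⟨hxS, hxB⟩⟩ : ι)).2
    exact (hSBC hy).resolve_right (hUC hyU)
  have hsub : S ⊆ O := (hpre.subset_connectedComponent hxS).trans h
  obtain ⟨W, hW⟩ := hO.isClosed_compl.isCompact.elim_directed_family_closed (fun W : ι => W.1)
    (fun W => W.2.1.1) (eq_empty_of_forall_notMem fun y hy => hy.1 (hsub hy.2)) hdir
  exact ⟨W.1, W.2.1, W.2.2, fun y hy => by_contra fun h' => eq_empty_iff_forall_notMem.mp hW y ⟨h', hy⟩⟩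

theorem clopen_refinement_iff :
    (∀ (ι : Type u) (U : ι → Set X), (∀ i, IsOpen (U i)) → (⋃ i, U i) = Set.univ →
      ∃ (n : ℕ) (V : Fin n → Set X), (∀ k, IsClopen (V k)) ∧
        Pairwise (fun k l => Disjoint (V k) (V l)) ∧ (⋃ k, V k) = Set.univ ∧ ∀ k, ∃ i, V k ⊆ U i) ↔
    Function.Bijective (fun x : {x : X // IsClosed ({x} : Set X)} => ConnectedComponents.mk x.1) := by
  constructor
  · intro h
    refine ⟨?_, closedPoints_to_components_surjective⟩
    rintro ⟨a, ha⟩ ⟨b, hb⟩ hab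
    by_contra hne
    replace hne : a ≠ b := fun e => hne (Subtype.ext e)
    obtain ⟨n, V, hV, -, hVu, hVsub⟩ := h (ULift Bool) (fun i => if i.down then {a}ᶜ else {b}ᶜ)
      (fun i => by rcases i with ⟨_ | _⟩ <;> simp [ha.isOpen_compl, hb.isOpen_compl])
      (eq_univ_of_forall fun y => by
        by_cases hy : y = a
        · exact mem_iUnion.mpr ⟨⟨false⟩, by simp [hy, hne]⟩
        · exact mem_iUnion.mpr ⟨⟨true⟩, by simp [hy]⟩)
    obtain ⟨k, hk⟩ := mem_iUnion.mp (hVu ▸ mem_univ a)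
    have hbk : b ∈ V k := (hV k).connectedComponent_subset hk (ConnectedComponents.coe_eq_coe'.mp hab.symm)
    obtain ⟨⟨i⟩, hi⟩ := hVsub k
    cases i
    · simpa using hi hbk
    · simpa using hi hk
  · intro hbij ι U hU hcov
    have hW : ∀ x : X, ∃ W, IsClopen W ∧ x ∈ W ∧ ∃ i, W ⊆ U i := by
      intro x
      obtain ⟨⟨z, hzc⟩, hz⟩ := hbij.2 (ConnectedComponents.mk x)
      obtain ⟨i, hi⟩ := mem_iUnion.mp (hcov ▸ mem_univ z)
      have hsub : connectedComponent x ⊆ U i := by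
        intro y hy
        obtain ⟨w, hwy, hwc⟩ := (isClosed_closure (s := {y})).exists_closed_singleton
          ⟨y, subset_closure rfl⟩
        have hyc : ConnectedComponents.mk y = ConnectedComponents.mk x :=
          ConnectedComponents.coe_eq_coe'.mpr hy
        have hwy' : ConnectedComponents.mk w = ConnectedComponents.mk y :=
          ConnectedComponents.coe_eq_coe'.mpr
            ((isPreconnected_singleton.closure).subset_connectedComponent (subset_closure rfl) hwy)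
        have : (⟨w, hwc⟩ : {x : X // IsClosed ({x} : Set X)}) = ⟨z, hzc⟩ :=
          hbij.1 (hwy'.trans (hyc.trans hz.symm))
        obtain rfl : w = z := congrArg Subtype.val this
        exact (specializes_iff_mem_closure.mpr hwy).mem_open (hU i) hi
      obtain ⟨W, hW1, hW2, hW3⟩ := exists_clopen_subset_of_component_subset (hU i) hsub
      exact ⟨W, hW1, hW2, i, hW3⟩
    choose W hW1 hW2 hW3 using hW
    obtain ⟨t, ht⟩ := isCompact_univ.elim_finite_subcover W (fun x => (hW1 x).2)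
      (fun x _ => mem_iUnion.mpr ⟨x, hW2 x⟩)
    let f : Fin t.card → Set X := fun k => W (t.equivFin.symm k).1
    have hcl : ∀ k, IsClopen (disjointed f k) := fun k =>
      disjointedRec (fun A i hA => hA.diff (hW1 _)) (hW1 _)
    refine ⟨t.card, disjointed f, hcl, disjoint_disjointed f, ?_, fun k => ?_⟩
    · rw [iUnion_disjointed]
      refine eq_univ_of_forall fun y => ?_
      obtain ⟨x, hx, hy⟩ := mem_iUnion₂.mp (ht (mem_univ y))
      exact mem_iUnion.mpr ⟨t.equivFin ⟨x, hx⟩, by simpa [f] using hy⟩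
    · obtain ⟨i, hi⟩ := hW3 (t.equivFin.symm k).1
      exact ⟨i, (disjointed_le f k).trans hi⟩

end Groth.L27.Spectral
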