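import Mathlib.FieldTheory.IsAlgClosed.Basic
import Mathlib.FieldTheory.Perfect
import Mathlib.LinearAlgebra.Dimension.Finrank
import Mathlib.LinearAlgebra.FiniteDimensional.Lemmas
import Mathlib.LinearAlgebra.TensorProduct.RightExactness
import Mathlib.RingTheory.Flat.Basic
import Mathlib.Algebra.CharP.Lemmas
import Mathlib.Algebra.CharP.Algebra
import Mathlib.GroupTheory.Index

/-! Frobenius-semilinear endomorphisms over algebraically closed fields. -/

set_option autoImplicit false
set_option linter.unusedSectionVars false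
universe u
open TensorProduct Polynomial

namespace Groth.L27.Frobenius

variable {k : Type u} [Field k] [IsAlgClosed k] (p : ℕ) [Fact p.Prime] [CharP k p]
variable {V : Type u} [AddCommGroup V] [Module k V]

theorem exists_fixed [FiniteDimensional k V] [Nontrivial V] (F : V →+ V)
    (hF : ∀ (c : k) (v : V), F (c • v) = c ^ p • F v) (hinj : Function.Injective F) :
    ∃ e : V, e ≠ 0 ∧ F e = e := by
  classical
  obtain ⟨v, hv⟩ := exists_ne (0 : V)
  let f : ℕ → V := fun i => F^[i] v
  have hf : ∀ i, F (f i) = f (i + 1) := fun i => (Function.iterate_succ_apply' F i v).symm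
  let S : ℕ → Submodule k V := fun m => Submodule.span k (f '' {i | i < m})
  have hex : ∃ m, f m ∈ S m := by
    by_contra! hn
    have hlt : ∀ m, Module.finrank k (S m) < Module.finrank k (S (m + 1)) := fun m => by
      apply Submodule.finrank_lt_finrank_of_lt
      refine lt_of_le_of_ne (Submodule.span_mono (Set.image_mono fun i (hi : i < m) => hi.trans (Nat.lt_succ_self m))) ?_
      intro he
      exact hn m (he ▸ Submodule.subset_span ⟨m, Nat.lt_succ_self m, rfl⟩)
    have hge : ∀ m, m ≤ Module.finrank k (S m) := fun m => by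
      induction m with
      | zero => exact Nat.zero_le _
      | succ m ih => exact ih.trans_lt (hlt m)
    exact absurd ((hge (Module.finrank k V + 1)).trans (Submodule.finrank_le _)) (by omega)
  obtain ⟨n, hm⟩ : ∃ n, Nat.find hex = n + 1 := by
    refine ⟨Nat.find hex - 1, (Nat.succ_pred_eq_of_ne_zero fun h0 => ?_).symm⟩
    have := Nat.find_spec hex
    rw [h0] at this
    simp [S, f, hv] at this
  have hmin : ∀ i ≤ n, f i ∉ S i := fun i hi => Nat.find_min hex (by omega)
  have hspec : f (n + 1) ∈ S (n + 1) := hm ▸ Nat.find_spec hex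
  obtain ⟨a, ha⟩ : ∃ a : ℕ → k, ∑ i ∈ Finset.range (n + 1), a i • f i = f (n + 1) := by
    have h' : f (n + 1) ∈ Submodule.span k (f '' ↑(Finset.range (n + 1))) := by
      simpa [S, Finset.coe_range, Set.Iio_def] using hspec
    obtain ⟨a, hsupp, ha⟩ := Finsupp.mem_span_image_iff_linearCombination k |>.mp h'
    refine ⟨a, ?_⟩
    rw [← ha]
    refine (Finsupp.sum_of_support_subset a ?_ (fun i c => c • f i) (fun i _ => zero_smul k _)).symm
    exact fun i hi => Finset.mem_coe.mp (hsupp hi)
  have ha0 : a 0 ≠ 0 := by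
    intro h0
    have hroot : ∀ c : k, ∃ d : k, d ^ p = c := fun c =>
      IsAlgClosed.exists_pow_nat_eq c (Fact.out : p.Prime).pos
    choose r hr using hroot
    rw [Finset.sum_range_succ', h0, zero_smul, add_zero] at ha
    have h2 : F (f n - ∑ i ∈ Finset.range n, r (a (i + 1)) • f i) = 0 := by
      rw [map_sub, map_sum, hf, ← ha, sub_eq_zero]
      exact Finset.sum_congr rfl fun i _ => by rw [hF, hr, hf]
    refine hmin n le_rfl ?_
    rw [sub_eq_zero.mp (hinj (h2.trans (map_zero F).symm))]
    exact Submodule.sum_mem _ fun i hi =>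
      Submodule.smul_mem _ _ (Submodule.subset_span ⟨i, Finset.mem_range.mp hi, rfl⟩)
  have hp : 1 < p := (Fact.out : p.Prime).one_lt
  let P : ℕ → k[X] := fun i => Nat.rec (C (a 0) * X ^ p) (fun j q => q ^ p + C (a (j + 1)) * X ^ p) i
  have hdeg : ∀ i, (P i).natDegree = p ^ (i + 1) := fun i => by
    induction i with
    | zero => simp [P, natDegree_C_mul_X_pow _ _ ha0]
    | succ i ih =>
      change (P i ^ p + C (a (i + 1)) * X ^ p).natDegree = _
      have h1 : (P i ^ p).natDegree = p ^ (i + 1 + 1) := by rw [natDegree_pow, ih, pow_succ' p (i + 1)]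
      rw [natDegree_add_eq_left_of_natDegree_lt (lt_of_le_of_lt (natDegree_C_mul_X_pow_le _ _) ?_), h1]
      rw [h1]
      calc p = p ^ 1 := (pow_one p).symm
        _ < p ^ (i + 1 + 1) := Nat.pow_lt_pow_right hp (by omega)
  have hder : ∀ i, derivative (P i) = 0 := fun i => by
    induction i with
    | zero => simp [P, derivative_pow]
    | succ i ih =>
      change derivative (P i ^ p + C (a (i + 1)) * X ^ p) = 0
      simp [derivative_pow]
  have hgdeg : (P n - X).natDegree = p ^ (n + 1) := by
    rw [natDegree_sub_eq_left_of_natDegree_lt (by rw [natDegree_X, hdeg]; exact Nat.one_lt_pow n.succ_ne_zero hp), hdeg]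
  have hsep : (P n - X).Separable := by
    rw [Polynomial.Separable, derivative_sub, hder, derivative_X, zero_sub]
    exact isCoprime_one_right.neg_right
  obtain ⟨y, hy, hy0⟩ : ∃ y, y ∈ (P n - X).roots ∧ y ≠ 0 := by
    by_contra! hn
    have h1 : ((P n - X).roots.toFinset).card ≤ 1 := Finset.card_le_one.mpr fun b hb c hc => by
      rw [hn b (Multiset.mem_toFinset.mp hb), hn c (Multiset.mem_toFinset.mp hc)]
    rw [Multiset.toFinset_card_of_nodup (nodup_roots hsep),
      IsAlgClosed.card_roots_eq_natDegree, hgdeg] at h1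
    exact absurd h1 (not_le.mpr (Nat.one_lt_pow n.succ_ne_zero hp))
  have hy' : (P n).eval y = y := sub_eq_zero.mp (by simpa using (isRoot_of_mem_roots hy).eq_zero)
  refine ⟨∑ i ∈ Finset.range (n + 1), (P i).eval y • f i, fun h0 => ?_, ?_⟩
  · refine hmin n le_rfl ?_
    rw [Finset.sum_range_succ, hy', add_comm, ← eq_neg_iff_add_eq_zero] at h0
    have : f n = y⁻¹ • -∑ i ∈ Finset.range n, (P i).eval y • f i := by
      rw [← h0, inv_smul_smul₀ hy0]
    rw [this]
    exact Submodule.smul_mem _ _ (Submodule.neg_mem _ (Submodule.sum_mem _ fun i hi =>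
      Submodule.smul_mem _ _ (Submodule.subset_span ⟨i, Finset.mem_range.mp hi, rfl⟩)))
  · rw [map_sum, Finset.sum_range_succ]
    simp only [hF, hf]
    rw [← ha, Finset.smul_sum, hy', Finset.sum_range_succ' _ n, Finset.sum_range_succ' _ n,
      ← add_assoc, ← Finset.sum_add_distrib]
    congr 1
    · refine Finset.sum_congr rfl fun i _ => ?_
      simp only [P, eval_add, eval_pow, eval_mul, eval_C, eval_X, smul_smul, ← add_smul]
      rw [mul_comm (a (i + 1))]
    · change y ^ p • a 0 • f 0 = (C (a 0) * X ^ p : k[X]).eval y • f 0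
      rw [smul_smul, eval_mul, eval_C, eval_pow, eval_X, mul_comm]

theorem exists_stable_subspace [FiniteDimensional k V] [Nontrivial V] (F : V →+ V)
    (hF : ∀ (c : k) (v : V), F (c • v) = c ^ p • F v) :
    ∃ W : Submodule k V, W ≠ ⊥ ∧ ((∃ e, F e = e ∧ W = k ∙ e) ∨ ∀ w ∈ W, F w = 0) := by
  by_cases hinj : Function.Injective F
  · obtain ⟨e, he, hfe⟩ := exists_fixed p F hF hinj
    exact ⟨k ∙ e, by simpa using he, Or.inl ⟨e, hfe, rfl⟩⟩
  · let K : Submodule k V :=
      { carrier := {v | F v = 0}
        add_mem' := fun {a b} ha hb => by simp [show F a = 0 from ha, show F b = 0 from hb]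
        zero_mem' := map_zero F
        smul_mem' := fun c v hv => by simp [hF, show F v = 0 from hv] }
    refine ⟨K, fun h => hinj ?_, Or.inr fun w hw => hw⟩
    rw [injective_iff_map_eq_zero]
    intro a ha
    simpa [h] using (show a ∈ K from ha)

theorem stable {F : V →+ V} (hF : ∀ (c : k) (v : V), F (c • v) = c ^ p • F v) {W : Submodule k V}
    (hW : (∃ e, F e = e ∧ W = k ∙ e) ∨ ∀ w ∈ W, F w = 0) : ∀ w ∈ W, F w ∈ W := by
  intro w hw
  rcases hW with ⟨e, he, rfl⟩ | h
  · obtain ⟨c, rfl⟩ := Submodule.mem_span_singleton.mp hw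
    rw [hF, he]
    exact Submodule.smul_mem _ _ (Submodule.mem_span_singleton_self e)
  · rw [h w hw]; exact W.zero_mem

/-- The map induced on a quotient by a stable subspace. -/
def quot (F : V →+ V) (W : Submodule k V) (hW : ∀ w ∈ W, F w ∈ W) : V ⧸ W →+ V ⧸ W :=
  QuotientAddGroup.map W.toAddSubgroup W.toAddSubgroup F hW

theorem quot_mk (F : V →+ V) (W : Submodule k V) (hW : ∀ w ∈ W, F w ∈ W) (v : V) :
    quot F W hW (Submodule.Quotient.mk v) = Submodule.Quotient.mk (F v) := rfl

theorem quot_smul {F : V →+ V} (hF : ∀ (c : k) (v : V), F (c • v) = c ^ p • F v) (W : Submodule k V)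
    (hW : ∀ w ∈ W, F w ∈ W) (c : k) (v : V ⧸ W) :
    quot F W hW (c • v) = c ^ p • quot F W hW v := by
  obtain ⟨v, rfl⟩ := Submodule.Quotient.mk_surjective W v
  rw [← Submodule.Quotient.mk_smul, quot_mk, quot_mk, hF, Submodule.Quotient.mk_smul]

theorem finrank_quot_lt [FiniteDimensional k V] (W : Submodule k V) (hW : W ≠ ⊥) :
    Module.finrank k (V ⧸ W) < Module.finrank k V := by
  have h1 := W.finrank_quotient_add_finrank
  have h2 : 0 < Module.finrank k W := Submodule.one_le_finrank_iff.mpr hW
  omega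

theorem surjective_aux : ∀ (n : ℕ) (V : Type u) [AddCommGroup V] [Module k V] [FiniteDimensional k V],
    Module.finrank k V = n → ∀ F : V →+ V, (∀ (c : k) (v : V), F (c • v) = c ^ p • F v) →
    Function.Surjective fun v => F v - v := by
  intro n
  induction n using Nat.strong_induction_on with
  | h n ih =>
    intro V _ _ _ hn F hF v
    rcases subsingleton_or_nontrivial V with h | h
    · exact ⟨0, Subsingleton.elim _ _⟩
    obtain ⟨W, hW0, hW⟩ := exists_stable_subspace p F hF
    have hWF := stable p hF hW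
    obtain ⟨x, hx⟩ := ih _ (hn ▸ finrank_quot_lt W hW0) (V ⧸ W) rfl (quot F W hWF)
      (quot_smul p hF W hWF) (Submodule.Quotient.mk v)
    obtain ⟨x, rfl⟩ := Submodule.Quotient.mk_surjective W x
    have hmem : v - (F x - x) ∈ W := by
      rw [← Submodule.Quotient.eq]
      exact hx.symm
    obtain ⟨y, hy⟩ : ∃ y, F y - y = v - (F x - x) := by
      rcases hW with ⟨e, he, rfl⟩ | h0
      · obtain ⟨c, hc⟩ := Submodule.mem_span_singleton.mp hmem
        have hp1 : 1 < p := (Fact.out : p.Prime).one_lt
        obtain ⟨r, hr⟩ := IsAlgClosed.exists_root (X ^ p - X - C c : k[X]) (by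
          rw [Polynomial.degree_sub_C] <;>
            rw [Polynomial.degree_sub_eq_left_of_degree_lt] <;> simp <;> omega)
        refine ⟨r • e, ?_⟩
        rw [hF, he, ← sub_smul, ← hc]
        congr 1
        exact sub_eq_zero.mp (by simpa using hr.eq_zero)
      · exact ⟨-(v - (F x - x)), by rw [map_neg, h0 _ hmem]; simp⟩
    refine ⟨x + y, ?_⟩
    change F (x + y) - (x + y) = v
    rw [map_add, add_sub_add_comm, hy, add_sub_cancel]

theorem surjective [FiniteDimensional k V] (F : V →+ V)
    (hF : ∀ (c : k) (v : V), F (c • v) = c ^ p • F v) : Function.Surjective fun v => F v - v :=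
  surjective_aux p _ V rfl F hF

theorem Xp_ne (K : Type u) [Field K] {q : ℕ} (hq : 1 < q) : (X ^ q - X : K[X]) ≠ 0 := fun h => by
  have := congrArg (fun g : K[X] => g.coeff q) h
  simp [coeff_X, hq.ne] at this

/-- The group of fixed points. -/
def fixed (F : V →+ V) : AddSubgroup V := (F - AddMonoidHom.id V).ker

theorem mem_fixed {F : V →+ V} {v : V} : v ∈ fixed F ↔ F v = v := by
  simp [fixed, sub_eq_zero]

theorem card_aux : ∀ (n : ℕ) (V : Type u) [AddCommGroup V] [Module k V] [FiniteDimensional k V],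
    Module.finrank k V = n → ∀ F : V →+ V, (∀ (c : k) (v : V), F (c • v) = c ^ p • F v) →
    Finite (fixed F) ∧ Nat.card (fixed F) ≤ p ^ n := by
  intro n
  induction n using Nat.strong_induction_on with
  | h n ih =>
    intro V _ _ _ hn F hF
    have hp := (Fact.out : p.Prime)
    rcases subsingleton_or_nontrivial V with h | h
    · refine ⟨inferInstance, ?_⟩
      rw [Nat.card_of_subsingleton (0 : fixed F)]
      exact Nat.one_le_pow _ _ hp.pos
    obtain ⟨W, hW0, hW⟩ := exists_stable_subspace p F hF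
    have hWF := stable p hF hW
    obtain ⟨hfinQ, hcardQ⟩ := ih _ (hn ▸ finrank_quot_lt W hW0) (V ⧸ W) rfl (quot F W hWF)
      (quot_smul p hF W hWF)
    let φ : fixed F →+ fixed (quot F W hWF) :=
      ((QuotientAddGroup.mk' W.toAddSubgroup).comp (fixed F).subtype).codRestrict _ fun x =>
        mem_fixed.mpr ((quot_mk F W hWF x.1).trans (congrArg _ (mem_fixed.mp x.2)))
    have hker : Finite φ.ker ∧ Nat.card φ.ker ≤ p := by
      have hmem : ∀ x : φ.ker, (x.1 : V) ∈ W := fun x =>
        (Submodule.Quotient.mk_eq_zero W).mp (congrArg Subtype.val x.2)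
      rcases hW with ⟨e, he, rfl⟩ | h0
      · have he0 : e ≠ 0 := fun h => hW0 (by simp [h])
        choose c hc using fun x => Submodule.mem_span_singleton.mp (hmem x)
        classical
        let T := (X ^ p - X : k[X]).roots.toFinset
        have hne : (X ^ p - X : k[X]) ≠ 0 := Xp_ne k hp.one_lt
        have hcT : ∀ x, c x ∈ T := fun x => by
          have h1 := mem_fixed.mp x.1.2
          rw [← hc x, hF, he] at h1
          rw [Multiset.mem_toFinset, mem_roots hne, IsRoot.def, eval_sub, eval_pow, eval_X,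
            sub_eq_zero]
          exact smul_left_injective k he0 h1
        have hinj : Function.Injective (fun x => (⟨c x, hcT x⟩ : T)) := fun x x' hxx => by
          refine Subtype.ext (Subtype.ext ?_)
          rw [← hc x, ← hc x', show c x = c x' from congrArg Subtype.val hxx]
        refine ⟨Finite.of_injective _ hinj, (Nat.card_le_card_of_injective _ hinj).trans ?_⟩
        rw [Nat.card_eq_fintype_card, Fintype.card_coe]
        refine (Multiset.toFinset_card_le _).trans ((card_roots' _).trans ?_)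
        exact (natDegree_sub_le _ _).trans (by simp [hp.one_le])
      · have : Subsingleton φ.ker := ⟨fun x x' => by
          have h1 := (mem_fixed.mp x.1.2).symm.trans (h0 _ (hmem x))
          have h2 := (mem_fixed.mp x'.1.2).symm.trans (h0 _ (hmem x'))
          exact Subtype.ext (Subtype.ext (h1.trans h2.symm))⟩
        exact ⟨inferInstance, (Nat.card_of_subsingleton (0 : φ.ker)).trans_le hp.one_le⟩
    obtain ⟨hkf, hkc⟩ := hker
    have hq : Finite (fixed F ⧸ φ.ker) :=
      Finite.of_injective _ (QuotientAddGroup.kerLift_injective φ)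
    have hfin : Finite (fixed F) := Finite.of_equiv _ (AddSubgroup.addGroupEquivQuotientProdAddSubgroup (s := φ.ker)).symm
    refine ⟨hfin, ?_⟩
    rw [AddSubgroup.card_eq_card_quotient_mul_card_addSubgroup φ.ker]
    refine (Nat.mul_le_mul ((Nat.card_le_card_of_injective _ (QuotientAddGroup.kerLift_injective φ)).trans
      hcardQ) hkc).trans ?_
    rw [← pow_succ]
    exact Nat.pow_le_pow_right hp.pos (hn ▸ finrank_quot_lt W hW0)

theorem finite_fixed [FiniteDimensional k V] (F : V →+ V)
    (hF : ∀ (c : k) (v : V), F (c • v) = c ^ p • F v) :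
    Set.Finite {v : V | F v = v} ∧ Nat.card {v : V | F v = v} ≤ p ^ Module.finrank k V := by
  obtain ⟨h1, h2⟩ := card_aux p _ V rfl F hF
  have he : ({v : V | F v = v} : Set V) = (fixed F : Set V) := Set.ext fun v => mem_fixed.symm
  rw [he]
  exact ⟨Set.toFinite _, h2⟩

variable (k' : Type u) [Field k'] [Algebra k k']

theorem exists_baseChange [CharP k' p] (F : V →+ V) (hF : ∀ (c : k) (v : V), F (c • v) = c ^ p • F v) :
    ∃ F' : k' ⊗[k] V →+ k' ⊗[k] V, ∀ (c : k') (v : V), F' (c ⊗ₜ v) = (c ^ p) ⊗ₜ F v := by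
  refine ⟨TensorProduct.liftAddHom (AddMonoidHom.mk' (fun c => AddMonoidHom.mk' (fun v => (c ^ p) ⊗ₜ[k] F v)
    fun v w => by rw [map_add, tmul_add]) fun c d => AddMonoidHom.ext fun v => ?_) fun r c v => ?_,
    fun c v => TensorProduct.liftAddHom_tmul _ _ _ _⟩
  · change ((c + d) ^ p) ⊗ₜ[k] F v = _
    rw [add_pow_char, add_tmul]
    rfl
  · change ((r • c) ^ p) ⊗ₜ[k] F v = (c ^ p) ⊗ₜ[k] F (r • v)
    rw [hF, tmul_smul, smul_pow, smul_tmul']

theorem baseChange_aux [IsAlgClosed k'] [CharP k' p] :
    ∀ (n : ℕ) (V : Type u) [AddCommGroup V] [Module k V] [FiniteDimensional k V],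
    Module.finrank k V = n → ∀ F : V →+ V, (∀ (c : k) (v : V), F (c • v) = c ^ p • F v) →
    ∀ F' : k' ⊗[k] V →+ k' ⊗[k] V, (∀ (c : k') (v : V), F' (c ⊗ₜ v) = (c ^ p) ⊗ₜ F v) →
    ∀ w, F' w = w → ∃ v, F v = v ∧ (1 : k') ⊗ₜ[k] v = w := by
  intro n
  induction n using Nat.strong_induction_on with
  | h n ih =>
    intro V _ _ _ hn F hF F' hF' w hw
    rcases subsingleton_or_nontrivial V with h | h
    · refine ⟨0, Subsingleton.elim _ _, ?_⟩
      have : ∀ t : k' ⊗[k] V, t = 0 := fun t => by
        induction t with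
        | zero => rfl
        | tmul c v => rw [Subsingleton.elim v 0, tmul_zero]
        | add a b ha hb => rw [ha, hb, add_zero]
      rw [this w, tmul_zero]
    obtain ⟨W, hW0, hW⟩ := exists_stable_subspace p F hF
    have hWF := stable p hF hW
    obtain ⟨G', hG'⟩ := exists_baseChange p k' (quot F W hWF) (quot_smul p hF W hWF)
    let π := LinearMap.lTensor k' W.mkQ
    have hπ : ∀ t, π (F' t) = G' (π t) := fun t => by
      induction t with
      | zero => simp
      | tmul c v => simp [π, hF', hG', quot_mk]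
      | add a b ha hb => simp [ha, hb]
    obtain ⟨v, hv, hvw⟩ := ih _ (hn ▸ finrank_quot_lt W hW0) (V ⧸ W) rfl (quot F W hWF)
      (quot_smul p hF W hWF) G' hG' (π w) (by rw [← hπ, hw])
    obtain ⟨v, rfl⟩ := Submodule.Quotient.mk_surjective W v
    have hd : F v - v ∈ W := (Submodule.Quotient.eq W).mp hv
    obtain ⟨v₁, hv₁, hvv₁⟩ : ∃ v₁, F v₁ = v₁ ∧ Submodule.Quotient.mk (p := W) v₁ = Submodule.Quotient.mk v := by
      rcases hW with ⟨e, he, rfl⟩ | h0
      · obtain ⟨c, hc⟩ := Submodule.mem_span_singleton.mp hd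
        obtain ⟨r, hr⟩ := surjective p (V := k)
          (AddMonoidHom.mk' (fun x => x ^ p) fun a b => add_pow_char a b p)
          (fun a b => mul_pow a b p) (-c)
        replace hr : r ^ p - r = -c := hr
        refine ⟨v + r • e, ?_, (Submodule.Quotient.eq _).mpr
          (by simpa using Submodule.smul_mem _ r (Submodule.mem_span_singleton_self e))⟩
        rw [← sub_eq_zero, map_add, hF, he, add_sub_add_comm, ← sub_smul, hr, neg_smul, hc, add_neg_cancel]
      · exact ⟨F v, sub_eq_zero.mp (by rw [← map_sub, h0 _ hd]), (Submodule.Quotient.eq _).mpr hd⟩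
    have hker : π (w - (1 : k') ⊗ₜ v₁) = 0 := by
      rw [map_sub, ← hvw]
      simp [π, hvv₁]
    obtain ⟨y, hy⟩ := (lTensor_exact k' (LinearMap.exact_subtype_mkQ W) W.mkQ_surjective _).mp hker
    have hfix : F' (w - (1 : k') ⊗ₜ v₁) = w - (1 : k') ⊗ₜ v₁ := by
      rw [map_sub, hw, hF', one_pow, hv₁]
    rcases hW with ⟨e, he, rfl⟩ | h0
    · obtain ⟨c, hc⟩ : ∃ c : k', LinearMap.lTensor k' (k ∙ e).subtype y = c ⊗ₜ e := by
        clear hy
        induction y with
        | zero => exact ⟨0, by simp⟩
        | tmul a x =>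
          obtain ⟨r, hr⟩ := Submodule.mem_span_singleton.mp x.2
          exact ⟨r • a, by rw [LinearMap.lTensor_tmul, Submodule.subtype_apply, ← hr, smul_tmul]⟩
        | add a b ha hb =>
          obtain ⟨c, hc⟩ := ha
          obtain ⟨d, hd⟩ := hb
          exact ⟨c + d, by rw [map_add, hc, hd, add_tmul]⟩
      rw [hy] at hc
      rw [hc, hF', he] at hfix
      have he0 : e ≠ 0 := fun h => hW0 (by simp [h])
      have hinj : Function.Injective fun a : k' => a ⊗ₜ[k] e := by
        obtain ⟨f, hf⟩ : ∃ f : V →ₗ[k] k, f e = 1 := by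
          obtain ⟨g, hg⟩ := LinearMap.exists_extend (LinearEquiv.toSpanNonzeroSingleton k V e he0).symm.toLinearMap
          exact ⟨g, (LinearMap.congr_fun hg ⟨e, Submodule.mem_span_singleton_self e⟩).trans
            (LinearEquiv.coord_self k V e he0)⟩
        intro a b hab
        simpa [hf] using congrArg (fun t => TensorProduct.rid k k' (LinearMap.lTensor k' f t)) hab
      have hcp : c ^ p = c := hinj hfix
      obtain ⟨a, ha⟩ : ∃ a : k, algebraMap k k' a = c ∧ a ^ p = a := by
        have hp := (Fact.out : p.Prime)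
        let g : k[X] := X ^ p - X
        have hg : (g.map (algebraMap k k')) ≠ 0 := by
          simpa [g] using Xp_ne k' hp.one_lt
        have : c ∈ (g.map (algebraMap k k')).roots := by
          rw [mem_roots hg]; simp [g, hcp]
        rw [Polynomial.Splits.roots_map (IsAlgClosed.splits g) (algebraMap k k')] at this
        obtain ⟨a, ha, rfl⟩ := Multiset.mem_map.mp this
        refine ⟨a, rfl, sub_eq_zero.mp ?_⟩
        simpa [g] using (isRoot_of_mem_roots ha).eq_zero
      refine ⟨v₁ + a • e, by rw [map_add, hv₁, hF, he, ha.2], ?_⟩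
      rw [tmul_add, tmul_smul, smul_tmul', ← Algebra.algebraMap_eq_smul_one, ha.1, ← hc, add_sub_cancel]
    · refine ⟨v₁, hv₁, (sub_eq_zero.mp ?_).symm⟩
      rw [← hfix, ← hy]
      clear hy
      induction y with
      | zero => simp
      | tmul a x => simp [hF', h0 _ x.2]
      | add a b ha hb => rw [map_add, map_add, ha, hb, add_zero]

theorem baseChange_bijOn [IsAlgClosed k'] [FiniteDimensional k V] (F : V →+ V)
    (hF : ∀ (c : k) (v : V), F (c • v) = c ^ p • F v)
    (F' : k' ⊗[k] V →+ k' ⊗[k] V) (hF' : ∀ (c : k') (v : V), F' (c ⊗ₜ[k] v) = (c ^ p) ⊗ₜ[k] F v) :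
    Set.BijOn (fun v : V => (1 : k') ⊗ₜ[k] v) {v : V | F v = v} {w : k' ⊗[k] V | F' w = w} := by
  have : CharP k' p := charP_of_injective_algebraMap (algebraMap k k').injective p
  refine ⟨fun v hv => ?_, fun a _ b _ hab => ?_, fun w hw => ?_⟩
  · change F' _ = _
    rw [hF', one_pow, show F v = v from hv]
  · have hi := Module.Flat.rTensor_preserves_injective_linearMap (M := V)
      (Algebra.linearMap k k') (algebraMap k k').injective
    have := hi (a₁ := (1 : k) ⊗ₜ a) (a₂ := (1 : k) ⊗ₜ b) (by simpa using hab)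
    simpa using congrArg (TensorProduct.lid k V) this
  · obtain ⟨v, hv, hvw⟩ := baseChange_aux p k' _ V rfl F hF F' hF' w hw
    exact ⟨v, hv, hvw⟩

end Groth.L27.Frobenius
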