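import Mathlib.Topology.Algebra.ClopenNhdofOne
import Mathlib.GroupTheory.Index
import Mathlib.Data.Nat.Prime.Basic

/-! Elementary facts on profinite groups. -/

set_option autoImplicit false
universe u v

namespace Groth.L27.Profinite

variable {G : Type u} [Group G] [TopologicalSpace G] [IsTopologicalGroup G] [CompactSpace G]
  [TotallyDisconnectedSpace G]

theorem closed_eq_iInf (H : Subgroup G) (hH : IsClosed (H : Set G)) :
    ⨅ U : {U : OpenSubgroup G // H ≤ U.toSubgroup}, (U.1.toSubgroup) = H := by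
  refine le_antisymm ?_ (le_iInf fun U => U.2)
  have h := ProfiniteGrp.closedSubgroup_eq_sInf_open (⟨H, hH⟩ : ClosedSubgroup G)
  conv_rhs => rw [show H = sInf {N : Subgroup G | IsOpen (N : Set G) ∧ H ≤ N} from h]
  refine le_sInf fun N hN => ?_
  exact iInf_le_of_le ⟨⟨N, hN.1⟩, hN.2⟩ le_rfl

theorem eq_one_of_forall_mem_openNormal (g : G) (h : ∀ U : OpenNormalSubgroup G, g ∈ U) : g = 1 := by
  by_contra hg
  obtain ⟨U, hU⟩ := ProfiniteGrp.exist_openNormalSubgroup_sub_open_nhds_of_one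
    (isClosed_singleton (x := g)).isOpen_compl (show (1 : G) ∈ ({g} : Set G)ᶜ from fun e => hg (by simpa using e.symm))
  exact hU (h U) rfl

theorem exists_openSubgroup_inf_eq (H V' : Subgroup G) (hle : V' ≤ H)
    (hopen : IsOpen ((Subtype.val : H → G) ⁻¹' (V' : Set G))) :
    ∃ V : OpenSubgroup G, V.toSubgroup ⊓ H = V' := by
  obtain ⟨W, hW, hWV⟩ := isOpen_induced_iff.mp hopen
  have h1 : (1 : G) ∈ W := by
    have : (1 : H) ∈ (Subtype.val : H → G) ⁻¹' W := by rw [hWV]; exact V'.one_mem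
    simpa using this
  obtain ⟨N, hN⟩ := ProfiniteGrp.exist_openNormalSubgroup_sub_open_nhds_of_one hW h1
  refine ⟨⟨N.toSubgroup ⊔ V', Subgroup.isOpen_mono le_sup_left N.isOpen'⟩, le_antisymm ?_ ?_⟩
  · rintro g ⟨hg1, hg2⟩
    obtain ⟨n, hn, v, hv, rfl⟩ := Subgroup.mem_sup_of_normal_left.mp hg1
    have hnH : n ∈ H := by
      have h3 : n * v * v⁻¹ ∈ H := H.mul_mem hg2 (H.inv_mem (hle hv))
      simpa using h3
    have hnW : (⟨n, hnH⟩ : H) ∈ (Subtype.val : H → G) ⁻¹' W := hN hn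
    rw [hWV] at hnW
    exact V'.mul_mem hnW hv
  · exact le_inf le_sup_right hle

theorem hom_trivial {H : Type v} [Group H] [TopologicalSpace H] [IsTopologicalGroup H]
    [CompactSpace H] [TotallyDisconnectedSpace H] {p l : ℕ} (hp : p.Prime) (hl : l.Prime) (hpl : p ≠ l)
    (hG : ∀ U : OpenNormalSubgroup G, ∃ n : ℕ, U.toSubgroup.index = p ^ n)
    (hH : ∀ V : OpenNormalSubgroup H, ∃ n : ℕ, V.toSubgroup.index = l ^ n)
    (f : G →* H) (hf : Continuous f) (g : G) : f g = 1 := by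
  refine eq_one_of_forall_mem_openNormal _ fun V => ?_
  obtain ⟨m, hm⟩ := hH V
  let K : OpenNormalSubgroup G :=
    { toSubgroup := V.toSubgroup.comap f, isOpen' := V.isOpen'.preimage hf }
  obtain ⟨n, hn⟩ := hG K
  have hd : p ^ n ∣ l ^ m := by
    rw [← hn, ← hm]
    change (V.toSubgroup.comap f).index ∣ _
    rw [Subgroup.index_comap]
    exact Subgroup.relIndex_dvd_index_of_normal _ _
  have hn0 : n = 0 := by
    by_contra h0
    have h1 : p ∣ l ^ m := dvd_trans (dvd_pow_self p h0) hd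
    exact hpl ((Nat.prime_dvd_prime_iff_eq hp hl).mp (hp.dvd_of_dvd_pow h1))
  have htop : V.toSubgroup.comap f = ⊤ := Subgroup.index_eq_one.mp (by simpa [hn0] using hn)
  have : g ∈ V.toSubgroup.comap f := by rw [htop]; trivial
  exact this

end Groth.L27.Profinite
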