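import Groth.Agent.L27.GaloisFiber
import Groth.Agent.L27.Profinite
import Groth.Prelude.Def_Pi1X
import Mathlib.CategoryTheory.Galois.Equivalence
import Mathlib.CategoryTheory.Galois.IsFundamentalgroup
import Mathlib.CategoryTheory.Galois.Topology

/-! Exact functors of Galois categories and the induced maps of fundamental groups. -/

set_option autoImplicit false
set_option linter.unusedSectionVars false
set_option linter.style.haveILetI false
set_option linter.unusedTactic false
universe u v w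

open CategoryTheory CategoryTheory.Limits CategoryTheory.PreGaloisCategory
open scoped FintypeCatDiscrete

namespace Groth.L27.Galois

section basic

variable {C : Type u} [Category.{v} C] [GaloisCategory C] (F : C ⥤ FintypeCat.{w}) [FiberFunctor F]

theorem bijective_of_iso {A B : FintypeCat.{w}} (f : A ⟶ B) [IsIso f] : Function.Bijective f :=
  (ConcreteCategory.isIso_iff_bijective f).mp inferInstance

theorem exists_hom_of_equivariant (X Y : C) (g : F.obj X → F.obj Y)
    (hg : ∀ (σ : Aut F) x, g (σ • x) = σ • g x) : ∃ f : X ⟶ Y, ∀ x, F.map f x = g x := by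
  let a : (functorToAction F).obj X ⟶ (functorToAction F).obj Y :=
    ⟨FintypeCat.homMk g, fun σ => FintypeCat.hom_ext _ _ fun x => hg σ x⟩
  obtain ⟨f, hf⟩ := (functorToAction F).map_surjective a
  refine ⟨f, fun x => ?_⟩
  have := congrArg (fun m => m.hom x) hf
  exact this

theorem exists_hom_of_stabilizer_le (A X : C) [IsConnected A] (a : F.obj A) (x : F.obj X)
    (h : MulAction.stabilizer (Aut F) a ≤ MulAction.stabilizer (Aut F) x) :
    ∃ f : A ⟶ X, F.map f a = x := by
  choose τ hτ using fun y : F.obj A => MulAction.exists_smul_eq (Aut F) a y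
  have hwd : ∀ σ τ' : Aut F, σ • a = τ' • a → σ • x = τ' • x := fun σ τ' he => by
    have h2 : τ'⁻¹ * σ ∈ MulAction.stabilizer (Aut F) a := by
      rw [MulAction.mem_stabilizer_iff, mul_smul, he, inv_smul_smul]
    have h3 := MulAction.mem_stabilizer_iff.mp (h h2)
    rwa [mul_smul, inv_smul_eq_iff] at h3
  obtain ⟨f, hf⟩ := exists_hom_of_equivariant F A X (fun y => τ y • x) fun σ y => by
    change τ (σ • y) • x = σ • (τ y • x)
    rw [← mul_smul]
    exact hwd _ _ (by rw [mul_smul, hτ, hτ])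
  exact ⟨f, by rw [hf]; exact (hwd (τ a) 1 (by rw [hτ, one_smul])).trans (one_smul _ _)⟩

theorem subsingleton_terminal : Subsingleton (F.obj (⊤_ C)) :=
  ⟨fun p q => ConcreteCategory.congr_hom ((IsTerminal.isTerminalObj F _ terminalIsTerminal).hom_ext
    (point p) (point q)) PUnit.unit⟩

theorem nonempty_terminal : Nonempty (F.obj (⊤_ C)) :=
  ⟨(IsTerminal.isTerminalObj F _ terminalIsTerminal).from (FintypeCat.of PUnit.{w + 1}) PUnit.unit⟩

theorem exists_section_iff (X : C) (x : F.obj X) :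
    (∀ σ : Aut F, σ • x = x) ↔ ∃ s : ⊤_ C ⟶ X, ∀ t : F.obj (⊤_ C), F.map s t = x := by
  have := subsingleton_terminal F
  constructor
  · intro h
    obtain ⟨f, hf⟩ := exists_hom_of_equivariant F (⊤_ C) X (fun _ => x) fun σ _ => (h σ).symm
    exact ⟨f, hf⟩
  · rintro ⟨s, hs⟩ σ
    obtain ⟨t⟩ := nonempty_terminal F
    rw [← hs t, mulAction_naturality, Subsingleton.elim (σ • t) t]

theorem trivial_action_iff (X : C) :
    (∀ (σ : Aut F) (x : F.obj X), σ • x = x) ↔ ∃ n : ℕ, Nonempty (X ≅ ∐ fun _ : Fin n => ⊤_ C) := by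
  have hterm := subsingleton_terminal F
  constructor
  · intro h
    choose s hs using fun x => (exists_section_iff F X x).mp fun σ => h σ x
    obtain ⟨n, ⟨e⟩⟩ := Finite.exists_equiv_fin (F.obj X)
    obtain ⟨t⟩ := nonempty_terminal F
    refine ⟨n, ⟨?_⟩⟩
    let Φ : (∐ fun _ : Fin n => ⊤_ C) ⟶ X := Sigma.desc fun i => s (e.symm i)
    have hΦ : ∀ i t', F.map Φ (F.map (Sigma.ι (fun _ : Fin n => ⊤_ C) i) t') = e.symm i := fun i t' => by
      rw [← FintypeCat.comp_apply, ← F.map_comp, Sigma.ι_desc]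
      exact hs _ t'
    have : IsIso (F.map Φ) := by
      rw [ConcreteCategory.isIso_iff_bijective]
      refine ⟨fun w₁ w₂ hw => ?_, fun x => ⟨F.map (Sigma.ι (fun _ : Fin n => ⊤_ C) (e x)) t, by rw [hΦ]; simp⟩⟩
      obtain ⟨⟨i⟩, t₁, rfl⟩ := Limits.FintypeCat.jointly_surjective _ _
        (isColimitOfPreserves F (colimit.isColimit (Discrete.functor fun _ : Fin n => ⊤_ C))) w₁
      obtain ⟨⟨j⟩, t₂, rfl⟩ := Limits.FintypeCat.jointly_surjective _ _
        (isColimitOfPreserves F (colimit.isColimit (Discrete.functor fun _ : Fin n => ⊤_ C))) w₂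
      have hij : i = j := e.symm.injective ((hΦ i t₁).symm.trans (hw.trans (hΦ j t₂)))
      subst hij
      exact congrArg _ (hterm.elim t₁ t₂)
    have : IsIso Φ := isIso_of_reflects_iso Φ F
    exact (asIso Φ).symm
  · rintro ⟨n, ⟨i⟩⟩ σ x
    obtain ⟨⟨j⟩, t, ht⟩ := Limits.FintypeCat.jointly_surjective _ _
      (isColimitOfPreserves F (colimit.isColimit (Discrete.functor fun _ : Fin n => ⊤_ C))) (F.map i.hom x)
    have h1 : F.map i.hom (σ • x) = F.map i.hom x := by
      rw [← mulAction_naturality, ← ht]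
      exact (mulAction_naturality F σ (Sigma.ι (fun _ : Fin n => ⊤_ C) j) t).trans
        (congrArg _ (hterm.elim _ _))
    exact (bijective_of_iso (F.map i.hom)).1 h1

theorem isConnected_of_transitive (X : C) [Nonempty (F.obj X)]
    (h : ∀ a b : F.obj X, ∃ σ : Aut F, σ • a = b) : IsConnected X := by
  refine ⟨(not_initial_iff_fiber_nonempty F X).mpr inferInstance, fun Y i _ hY => ?_⟩
  obtain ⟨y⟩ := (not_initial_iff_fiber_nonempty F Y).mp hY
  have : IsIso (F.map i) := by
    rw [ConcreteCategory.isIso_iff_bijective]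
    refine ⟨(ConcreteCategory.mono_iff_injective_of_preservesPullback _).mp inferInstance, fun b => ?_⟩
    obtain ⟨σ, hσ⟩ := h (F.map i y) b
    exact ⟨σ • y, by rw [← mulAction_naturality, hσ]⟩
  exact isIso_of_reflects_iso i F

/-- Every finite set with open stabilizers is a fibre. -/
theorem exists_obj_of_action (S : Type w) [Finite S] [MulAction (Aut F) S]
    (hS : ∀ s : S, IsOpen (MulAction.stabilizer (Aut F) s : Set (Aut F))) :
    ∃ (X : C) (e : F.obj X ≃ S), ∀ (σ : Aut F) x, e (σ • x) = σ • e x := by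
  let A : Action FintypeCat.{w} (Aut F) := Action.FintypeCat.ofMulAction (Aut F) (FintypeCat.of S)
  have hA : A.IsContinuous := by
    rw [Action.isContinuous_def]
    change Continuous fun p : Aut F × A.V => (A.ρ p.1).hom p.2
    refine continuous_prod_of_discrete_right.mpr fun s : S => ?_
    rw [continuous_discrete_rng]
    intro (b : S)
    rw [isOpen_iff_forall_mem_open]
    intro σ hσ
    refine ⟨(σ * ·) '' (MulAction.stabilizer (Aut F) s : Set (Aut F)), ?_,
      isOpenMap_mul_left σ _ (hS s), ⟨1, one_mem _, mul_one σ⟩⟩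
    rintro _ ⟨τ, hτ, rfl⟩
    change (σ * τ) • s = b
    rw [mul_smul, MulAction.mem_stabilizer_iff.mp hτ]
    exact hσ
  let T : ContAction FintypeCat.{w} (Aut F) := ⟨A, hA⟩
  have ⟨X, ⟨i⟩⟩ := Functor.EssSurj.mem_essImage (F := functorToContAction F) T
  let j := (ObjectProperty.ι _).mapIso i
  refine ⟨X, FintypeCat.equivEquivIso.symm ((Action.forget _ _).mapIso j), fun σ x => ?_⟩
  exact ConcreteCategory.congr_hom (j.hom.comm σ) x

theorem exists_stabilizer_eq (V : OpenSubgroup (Aut F)) :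
    ∃ (X : C) (x : F.obj X), IsConnected X ∧ MulAction.stabilizer (Aut F) x = V.toSubgroup := by
  haveI : Finite (Aut F ⧸ V.toSubgroup) := Subgroup.quotient_finite_of_isOpen _ V.isOpen'
  obtain ⟨n, ⟨e⟩⟩ := Finite.exists_equiv_fin (Aut F ⧸ V.toSubgroup)
  let e' : Aut F ⧸ V.toSubgroup ≃ ULift.{w} (Fin n) := e.trans Equiv.ulift.symm
  letI : MulAction (Aut F) (ULift.{w} (Fin n)) :=
    { smul := fun σ s => e' (σ • e'.symm s)
      one_smul := fun s => show e' ((1 : Aut F) • e'.symm s) = s by rw [one_smul, Equiv.apply_symm_apply]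
      mul_smul := fun σ τ s => show e' ((σ * τ) • e'.symm s) = e' (σ • e'.symm (e' (τ • e'.symm s))) by
        rw [Equiv.symm_apply_apply, mul_smul] }
  have hsmul : ∀ (σ : Aut F) q, σ • e' q = e' (σ • q) := fun σ q => by
    change e' (σ • e'.symm (e' q)) = e' (σ • q)
    rw [Equiv.symm_apply_apply]
  have hstab : ∀ q, MulAction.stabilizer (Aut F) (e' q) = MulAction.stabilizer (Aut F) q := fun q => by
    ext σ
    rw [MulAction.mem_stabilizer_iff, MulAction.mem_stabilizer_iff, hsmul, e'.injective.eq_iff]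
  have h1 : ∀ σ : Aut F, σ • ((1 : Aut F) : Aut F ⧸ V.toSubgroup) = (σ : Aut F ⧸ V.toSubgroup) :=
    fun σ => congrArg _ (mul_one σ)
  obtain ⟨X, f, hf⟩ := exists_obj_of_action F (ULift.{w} (Fin n)) fun s => by
    obtain ⟨q, rfl⟩ := e'.surjective s
    rw [hstab]
    obtain ⟨g, rfl⟩ := QuotientGroup.mk_surjective q
    have : MulAction.stabilizer (Aut F) (g : Aut F ⧸ V.toSubgroup) =
        V.toSubgroup.comap (MulAut.conj g⁻¹).toMonoidHom := by
      ext σ
      rw [MulAction.mem_stabilizer_iff, Subgroup.mem_comap]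
      change ((σ * g : Aut F) : Aut F ⧸ V.toSubgroup) = (g : Aut F ⧸ V.toSubgroup) ↔ _
      rw [eq_comm, QuotientGroup.eq]
      simp [mul_assoc]
    rw [this]
    exact V.isOpen'.preimage ((continuous_const.mul continuous_id).mul continuous_const)
  let x := f.symm (e' ((1 : Aut F) : Aut F ⧸ V.toSubgroup))
  haveI : Nonempty (F.obj X) := ⟨x⟩
  refine ⟨X, x, isConnected_of_transitive F X fun a b => ?_, ?_⟩
  · obtain ⟨g, hg⟩ := QuotientGroup.mk_surjective (e'.symm (f a))
    obtain ⟨h, hh⟩ := QuotientGroup.mk_surjective (e'.symm (f b))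
    refine ⟨h * g⁻¹, f.injective ?_⟩
    rw [hf, ← e'.apply_symm_apply (f a), ← e'.apply_symm_apply (f b), hsmul, ← hg, ← hh, ← h1 g,
      ← mul_smul, h1, inv_mul_cancel_right]
  · ext σ
    rw [MulAction.mem_stabilizer_iff, ← f.injective.eq_iff, hf, Equiv.apply_symm_apply, hsmul,
      e'.injective.eq_iff, h1, eq_comm, QuotientGroup.eq]
    simp

end basic

section maps

variable {C C' : Type u} [Category.{v} C] [Category.{v} C'] [GaloisCategory C] [GaloisCategory C']
variable (H : C ⥤ C') (F' : C' ⥤ FintypeCat.{w}) [FiberFunctor F'] [FiberFunctor (H ⋙ F')]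

theorem whisker_smul (σ : Aut F') (X : C) (x : (H ⋙ F').obj X) :
    Pi1X.autWhisker H F' σ • x = (σ • (show F'.obj (H.obj X) from x) : F'.obj (H.obj X)) := rfl

theorem continuous_whisker : Continuous (Pi1X.autWhisker H F') := by
  rw [(autEmbedding_isClosedEmbedding _).isInducing.continuous_iff, continuous_pi_iff]
  intro X
  exact (continuous_apply (H.obj X)).comp (autEmbedding_isClosedEmbedding F').continuous

theorem isClosed_range_whisker : IsClosed (Set.range (Pi1X.autWhisker H F')) :=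
  (isCompact_range (continuous_whisker H F')).isClosed

theorem isClosed_ker_whisker : IsClosed ((Pi1X.autWhisker H F').ker : Set (Aut F')) :=
  (isClosed_singleton (x := (1 : Aut (H ⋙ F')))).preimage (continuous_whisker H F')

include F' in
theorem faithful_of_fiberFunctor : H.Faithful :=
  Functor.Faithful.of_comp H F'

theorem full_of_surjective (hs : Function.Surjective (Pi1X.autWhisker H F')) : H.Full := by
  refine ⟨fun {X Y} g => ?_⟩
  obtain ⟨f, hf⟩ := exists_hom_of_equivariant (H ⋙ F') X Y (fun x => F'.map g x) fun σ x => by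
    obtain ⟨τ, rfl⟩ := hs σ
    exact (mulAction_naturality F' τ g x).symm
  exact ⟨f, F'.map_injective (FintypeCat.hom_ext _ _ hf)⟩

include F' in
theorem transitive_of_full (hH : H.Full) (X : C) [IsConnected X] (a b : F'.obj (H.obj X)) :
    ∃ σ : Aut F', σ • a = b := by
  classical
  let T : C := (⊤_ C) ⨿ (⊤_ C)
  obtain ⟨t⟩ := nonempty_terminal (H ⋙ F')
  have htriv : ∀ (σ : Aut F') (y : F'.obj (H.obj T)), σ • y = y := by
    intro σ y
    have hs := subsingleton_terminal (H ⋙ F')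
    obtain ⟨⟨⟨⟩⟩, s, rfl⟩ := Limits.FintypeCat.jointly_surjective _ _
      (isColimitOfPreserves (H ⋙ F') (coprodIsCoprod (⊤_ C) (⊤_ C))) y <;>
    · exact ((mulAction_naturality F' σ (H.map _) s).trans (congrArg _ (hs.elim _ _)))
  let p : F'.obj (H.obj T) := (H ⋙ F').map coprod.inl t
  let q : F'.obj (H.obj T) := (H ⋙ F').map coprod.inr t
  have hpq : p ≠ q := by
    intro hpq
    have h2 : (coprod.inl : ⊤_ C ⟶ T) = coprod.inr := (H ⋙ F').map_injective
      (FintypeCat.hom_ext _ _ fun t' => by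
        rw [(subsingleton_terminal (H ⋙ F')).elim t' t]; exact hpq)
    obtain ⟨l, hl⟩ : ∃ l : ⊤_ C ⟶ T ⨯ T, True := ⟨prod.lift coprod.inl coprod.inr, trivial⟩
    have hc := card_fiber_coprod_eq_sum (H ⋙ F') (⊤_ C) (⊤_ C)
    have h1 : Nat.card ((H ⋙ F').obj (⊤_ C)) = 1 :=
      Nat.card_eq_one_iff_unique.mpr ⟨subsingleton_terminal _, ⟨t⟩⟩
    have : Subsingleton ((H ⋙ F').obj T) := ⟨fun y y' => by
      have hy : ∀ y, y = (H ⋙ F').map coprod.inl t := fun y => by
        obtain ⟨⟨⟨⟩⟩, s, rfl⟩ := Limits.FintypeCat.jointly_surjective _ _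
          (isColimitOfPreserves (H ⋙ F') (coprodIsCoprod (⊤_ C) (⊤_ C))) y <;>
        rw [(subsingleton_terminal (H ⋙ F')).elim t s] <;>
        first | rfl | exact congrArg (fun m => (H ⋙ F').map m s) h2.symm
      rw [hy y, hy y']⟩
    rw [h1, Nat.card_of_subsingleton ((H ⋙ F').map coprod.inl t)] at hc
    omega
  obtain ⟨g, hg⟩ := exists_hom_of_equivariant F' (H.obj X) (H.obj T)
    (fun z => if ∃ σ : Aut F', σ • a = z then p else q) fun σ z => by
    rw [htriv]
    exact if_congr ⟨fun ⟨τ, hτ⟩ => ⟨σ⁻¹ * τ, by rw [mul_smul, hτ, inv_smul_smul]⟩,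
      fun ⟨τ, hτ⟩ => ⟨σ * τ, by rw [mul_smul, hτ]⟩⟩ rfl rfl
  obtain ⟨f, rfl⟩ := hH.map_surjective g
  by_contra hne
  obtain ⟨τ, hτ⟩ := MulAction.exists_smul_eq (Aut (H ⋙ F')) (show (H ⋙ F').obj X from a)
    (show (H ⋙ F').obj X from b)
  have hfa : F'.map (H.map f) a = p := (hg a).trans (if_pos ⟨1, one_smul _ _⟩)
  have hfb : F'.map (H.map f) b = q := (hg b).trans (if_neg hne)
  refine hpq ?_
  have hfix : τ • (show (H ⋙ F').obj T from p) = p := by
    obtain ⟨s, hs⟩ : ∃ s, (H ⋙ F').map (coprod.inl : ⊤_ C ⟶ T) s = p := ⟨t, rfl⟩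
    rw [← hs, mulAction_naturality, (subsingleton_terminal (H ⋙ F')).elim (τ • s) s]
  rw [← hfix, ← hfb, ← hfa, ← hτ]
  exact mulAction_naturality (H ⋙ F') τ f (show (H ⋙ F').obj X from a)

theorem surjective_of_transitive
    (h : ∀ (X : C) [IsConnected X] (a b : F'.obj (H.obj X)), ∃ σ : Aut F', σ • a = b) :
    Function.Surjective (Pi1X.autWhisker H F') := by
  letI inst : ∀ X : C, MulAction (Aut F') ((H ⋙ F').obj X) := fun X =>
    inferInstanceAs (MulAction (Aut F') (F'.obj (H.obj X)))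
  haveI : IsNaturalSMul (H ⋙ F') (Aut F') :=
    ⟨fun σ {X Y} f x => (mulAction_naturality F' σ (H.map f) x).symm⟩
  haveI : ∀ X : C, ContinuousSMul (Aut F') ((H ⋙ F').obj X) := fun X =>
    continuousSMul_aut_fiber F' (H.obj X)
  have hs := toAut_surjective_of_isPretransitive (H ⋙ F') (G := Aut F') fun X _ => ⟨fun a b => h X a b⟩
  intro τ
  obtain ⟨σ, hσ⟩ := hs τ
  exact ⟨σ, by rw [← hσ]; rfl⟩

theorem surjective_iff_full_faithful :
    Function.Surjective (Pi1X.autWhisker H F') ↔ (H.Full ∧ H.Faithful) :=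
  ⟨fun hs => ⟨full_of_surjective H F' hs, faithful_of_fiberFunctor H F'⟩,
    fun hH => surjective_of_transitive H F' fun X _ => transitive_of_full H F' hH.1 X⟩

include F' in
theorem isConnected_map_of_full (hH : H.Full) (X : C) [IsConnected X] : IsConnected (H.obj X) :=
  have : Nonempty (F'.obj (H.obj X)) := nonempty_fiber_of_isConnected (H ⋙ F') X
  isConnected_of_transitive F' (H.obj X) (transitive_of_full H F' hH X)

include F' in
theorem full_of_preserves (h : ∀ X : C, IsConnected X → IsConnected (H.obj X)) : H.Full :=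
  full_of_surjective H F' (surjective_of_transitive H F' fun X _ a b =>
    have := h X inferInstance
    MulAction.exists_smul_eq (Aut F') a b)

theorem range_le_stabilizer_iff (X : C) (a : (H ⋙ F').obj X) :
    (Pi1X.autWhisker H F').range ≤ MulAction.stabilizer (Aut (H ⋙ F')) a ↔
      ∃ s : ⊤_ C' ⟶ H.obj X, ∀ t : F'.obj (⊤_ C'), F'.map s t = a := by
  refine Iff.trans ?_ (exists_section_iff F' (H.obj X) a)
  refine ⟨fun h σ => MulAction.mem_stabilizer_iff.mp (h ⟨σ, rfl⟩), ?_⟩
  rintro h _ ⟨σ, rfl⟩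
  exact MulAction.mem_stabilizer_iff.mpr (h σ)

theorem normalClosure_le_stabilizer_iff (X : C) [IsConnected X] (a : (H ⋙ F').obj X) :
    Subgroup.normalClosure ((Pi1X.autWhisker H F').range : Set (Aut (H ⋙ F'))) ≤
        MulAction.stabilizer (Aut (H ⋙ F')) a ↔
      ∃ n : ℕ, Nonempty (H.obj X ≅ ∐ fun _ : Fin n => ⊤_ C') := by
  rw [← trivial_action_iff F' (H.obj X)]
  constructor
  · intro h σ x
    obtain ⟨τ, hτ⟩ := MulAction.exists_smul_eq (Aut (H ⋙ F')) a (show (H ⋙ F').obj X from x)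
    have h1 : τ⁻¹ * Pi1X.autWhisker H F' σ * τ⁻¹⁻¹ ∈ MulAction.stabilizer (Aut (H ⋙ F')) a :=
      h (Subgroup.normalClosure_normal.conj_mem (Pi1X.autWhisker H F' σ) (Subgroup.subset_normalClosure (by exact ⟨σ, rfl⟩)) τ⁻¹)
    rw [MulAction.mem_stabilizer_iff, inv_inv, mul_smul, mul_smul, hτ, inv_smul_eq_iff, hτ] at h1
    exact h1
  · intro h
    let K : Subgroup (Aut (H ⋙ F')) := ⨅ x : (H ⋙ F').obj X, MulAction.stabilizer _ x
    have hK : K.Normal := ⟨fun k hk g => by
      simp only [K, Subgroup.mem_iInf, MulAction.mem_stabilizer_iff] at hk ⊢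
      intro x
      rw [mul_smul, mul_smul, hk, smul_inv_smul]⟩
    have hle : ((Pi1X.autWhisker H F').range : Set (Aut (H ⋙ F'))) ⊆ K := by
      rintro _ ⟨σ, rfl⟩
      simp only [K, SetLike.mem_coe, Subgroup.mem_iInf, MulAction.mem_stabilizer_iff]
      exact fun x => h σ x
    exact (Subgroup.normalClosure_le_normal hle).trans (iInf_le _ a)

theorem exists_of_ker_le (X' : C') [IsConnected X'] (a' : F'.obj X')
    (h : (Pi1X.autWhisker H F').ker ≤ MulAction.stabilizer (Aut F') a') :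
    ∃ (X : C) (Y' : C') (i : Y' ⟶ H.obj X) (q : Y' ⟶ X'), Mono i ∧ IsConnected Y' := by
  let ι := Σ X : C, F'.obj (H.obj X)
  haveI : Nonempty ι := ⟨⟨⊤_ C, (nonempty_terminal (H ⋙ F')).some⟩⟩
  let s : Set (Aut F') := (MulAction.stabilizer (Aut F') a' : Set (Aut F'))ᶜ
  have hs : IsCompact s := (stabilizer_isOpen (Aut F') a').isClosed_compl.isCompact
  let t : ι → Set (Aut F') := fun P => (MulAction.stabilizer (Aut F') P.2 : Set (Aut F'))
  have htc : ∀ P, IsClosed (t P) := fun P =>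
    Subgroup.isClosed_of_isOpen _ (stabilizer_isOpen (Aut F') P.2)
  have hdir : Directed (· ⊇ ·) t := by
    rintro ⟨X, x⟩ ⟨Y, y⟩
    obtain ⟨z, hz₁, hz₂⟩ := exists_prod_point (H ⋙ F') (show (H ⋙ F').obj X from x) (show (H ⋙ F').obj Y from y)
    refine ⟨⟨X ⨯ Y, z⟩, fun σ hσ => ?_, fun σ hσ => ?_⟩
    · change σ • x = x
      rw [← hz₁]
      exact (mulAction_naturality F' σ (H.map prod.fst) z).trans (congrArg _ hσ)
    · change σ • y = y
      rw [← hz₂]
      exact (mulAction_naturality F' σ (H.map prod.snd) z).trans (congrArg _ hσ)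
  have hst : (s ∩ ⋂ P, t P) = ∅ := by
    refine Set.eq_empty_of_forall_notMem fun σ ⟨hσs, hσ⟩ => hσs (h ?_)
    rw [MonoidHom.mem_ker]
    refine Iso.ext (NatTrans.ext (funext fun X => FintypeCat.hom_ext _ _ fun x => ?_))
    exact Set.mem_iInter.mp hσ ⟨X, x⟩
  obtain ⟨⟨X, x⟩, hP⟩ := hs.elim_directed_family_closed t htc hst hdir
  obtain ⟨Y', i, y, hiy, hY', hi⟩ := fiber_in_connected_component F' (H.obj X) x
  obtain ⟨q, -⟩ := exists_hom_of_stabilizer_le F' Y' X' y a' fun σ hσ => by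
    by_contra hne
    refine Set.eq_empty_iff_forall_notMem.mp hP σ ⟨hne, ?_⟩
    change σ • x = x
    rw [← hiy, mulAction_naturality, MulAction.mem_stabilizer_iff.mp hσ]
  exact ⟨X, Y', i, q, hi, hY'⟩

theorem ker_le_of_exists (X' : C') [IsConnected X'] (a' : F'.obj X') (X : C) (Y' : C')
    (i : Y' ⟶ H.obj X) (q : Y' ⟶ X') [Mono i] [Nonempty (F'.obj Y')] :
    (Pi1X.autWhisker H F').ker ≤ MulAction.stabilizer (Aut F') a' := by
  intro σ hσ
  obtain ⟨y, rfl⟩ := surjective_of_nonempty_fiber_of_isConnected F' q a'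
  rw [MulAction.mem_stabilizer_iff, mulAction_naturality]
  congr 1
  apply (ConcreteCategory.mono_iff_injective_of_preservesPullback (F'.map i)).mp inferInstance
  rw [← mulAction_naturality]
  exact congrArg (fun τ : Aut (H ⋙ F') => τ.hom.app X (F'.map i y)) (MonoidHom.mem_ker.mp hσ)

theorem ker_le_stabilizer_iff (X' : C') [IsConnected X'] (a' : F'.obj X') :
    (Pi1X.autWhisker H F').ker ≤ MulAction.stabilizer (Aut F') a' ↔
      ∃ (X : C) (Y' : C') (i : Y' ⟶ H.obj X) (q : Y' ⟶ X'), Mono i ∧ IsConnected Y' := by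
  refine ⟨exists_of_ker_le H F' X' a', ?_⟩
  rintro ⟨X, Y', i, q, hi, hY'⟩
  haveI := nonempty_fiber_of_isConnected F' Y'
  exact ker_le_of_exists H F' X' a' X Y' i q

theorem injective_iff :
    Function.Injective (Pi1X.autWhisker H F') ↔ ∀ X' : C', IsConnected X' →
      ∃ (X : C) (Y' : C') (p : Y' ⟶ X') (q : Y' ⟶ H.obj X), Epi p ∧ Mono q := by
  constructor
  · intro hinj X' hX'
    obtain ⟨a'⟩ := nonempty_fiber_of_isConnected F' X'
    obtain ⟨X, Y', i, q, hi, hY'⟩ := exists_of_ker_le H F' X' a'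
      (by rw [(MonoidHom.ker_eq_bot_iff _).mpr hinj]; exact bot_le)
    haveI := nonempty_fiber_of_isConnected F' Y'
    exact ⟨X, Y', q, i, epi_of_nonempty_of_isConnected F' q, hi⟩
  · intro h
    rw [← MonoidHom.ker_eq_bot_iff, eq_bot_iff]
    intro σ hσ
    rw [Subgroup.mem_bot]
    refine Iso.ext (NatTrans.ext (funext fun X' => FintypeCat.hom_ext _ _ fun x => ?_))
    obtain ⟨Y, j, y, rfl, hY, -⟩ := fiber_in_connected_component F' X' x
    obtain ⟨X, Y', p, q, hp, hq⟩ := h Y hY
    obtain ⟨y', rfl⟩ := surjective_on_fiber_of_epi F' p y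
    haveI : Nonempty (F'.obj Y') := ⟨y'⟩
    have h1 := MulAction.mem_stabilizer_iff.mp
      (ker_le_of_exists H F' Y (F'.map p y') X Y' q p hσ)
    change σ • F'.map j (F'.map p y') = F'.map j (F'.map p y')
    rw [mulAction_naturality, h1]

end maps

section three

variable {C C' C'' : Type u} [Category.{v} C] [Category.{v} C'] [Category.{v} C''] [GaloisCategory C]
  [GaloisCategory C'] [GaloisCategory C'']
variable (H : C ⥤ C') (H' : C' ⥤ C'') (F'' : C'' ⥤ FintypeCat.{w}) [FiberFunctor F'']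
  [FiberFunctor (H' ⋙ F'')] [FiberFunctor (H ⋙ (H' ⋙ F''))]

theorem comp_trivial_iff :
    (∀ σ : Aut F'', Pi1X.autWhisker H (H' ⋙ F'') (Pi1X.autWhisker H' F'' σ) = 1) ↔
      ∀ X : C, ∃ n : ℕ, Nonempty (H'.obj (H.obj X) ≅ ∐ fun _ : Fin n => ⊤_ C'') := by
  constructor
  · intro h X
    rw [← trivial_action_iff F'']
    intro σ x
    exact congrArg (fun τ : Aut (H ⋙ (H' ⋙ F'')) => τ.hom.app X x) (h σ)
  · intro h σ
    refine Iso.ext (NatTrans.ext (funext fun X => FintypeCat.hom_ext _ _ fun x => ?_))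
    exact (trivial_action_iff F'' _).mpr (h X) σ x

theorem ker_le_range_iff :
    (Pi1X.autWhisker H (H' ⋙ F'')).ker ≤ (Pi1X.autWhisker H' F'').range ↔
      ∀ (X' : C') (a' : (H' ⋙ F'').obj X'), IsConnected X' →
        (∃ s : ⊤_ C'' ⟶ H'.obj X', ∀ t : F''.obj (⊤_ C''), F''.map s t = a') →
        ∃ (X : C) (Y' : C') (i : Y' ⟶ H.obj X) (q : Y' ⟶ X'), Mono i ∧ IsConnected Y' := by
  constructor
  · intro h X' a' hX' hs
    exact exists_of_ker_le H (H' ⋙ F'') X' a' (h.trans ((range_le_stabilizer_iff H' F'' X' a').mpr hs))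
  · intro h
    rw [← Groth.L27.Profinite.closed_eq_iInf (Pi1X.autWhisker H' F'').range (isClosed_range_whisker H' F'')]
    refine le_iInf fun V => ?_
    obtain ⟨X', a', hX', hV⟩ := exists_stabilizer_eq (H' ⋙ F'') V.1
    rw [← hV, ker_le_stabilizer_iff H (H' ⋙ F'') X' a']
    exact h X' a' hX' ((range_le_stabilizer_iff H' F'' X' a').mp (hV ▸ V.2))

theorem exists_iso_of_trivial_on_ker (hs : Function.Surjective (Pi1X.autWhisker H (H' ⋙ F'')))
    (X' : C') (htriv : ∀ σ ∈ (Pi1X.autWhisker H (H' ⋙ F'')).ker, ∀ x : (H' ⋙ F'').obj X', σ • x = x) :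
    ∃ X : C, Nonempty (H.obj X ≅ X') := by
  let φ := Pi1X.autWhisker H (H' ⋙ F'')
  let act := φ.liftOfSurjective hs
    ⟨MulAction.toPermHom (Aut (H' ⋙ F'')) ((H' ⋙ F'').obj X'), fun σ hσ =>
      MonoidHom.mem_ker.mpr (Equiv.ext fun x => htriv σ hσ x)⟩
  letI : MulAction (Aut (H ⋙ (H' ⋙ F''))) ((H' ⋙ F'').obj X') := MulAction.compHom _ act
  have hact : ∀ (σ : Aut (H' ⋙ F'')) (x : (H' ⋙ F'').obj X'), φ σ • x = σ • x := fun σ x => by
    change act (φ σ) x = σ • x
    simp only [act, MonoidHom.liftOfRightInverse_comp_apply]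
    rfl
  obtain ⟨X, e, he⟩ := exists_obj_of_action (H ⋙ (H' ⋙ F'')) ((H' ⋙ F'').obj X') fun x => by
    have hq : Topology.IsQuotientMap φ :=
      (continuous_whisker H (H' ⋙ F'')).isClosedMap.isQuotientMap (continuous_whisker H (H' ⋙ F'')) hs
    rw [← hq.isOpen_preimage]
    have : φ ⁻¹' (MulAction.stabilizer (Aut (H ⋙ (H' ⋙ F''))) x : Set _) =
        (MulAction.stabilizer (Aut (H' ⋙ F'')) x : Set (Aut (H' ⋙ F''))) := by
      ext σ
      change φ σ • x = x ↔ σ • x = x
      rw [hact]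
    rw [this]
    exact stabilizer_isOpen _ x
  have he' : ∀ (σ : Aut (H' ⋙ F'')) (x : (H' ⋙ F'').obj (H.obj X)), e (σ • x) = σ • e x :=
    fun σ x => (he (φ σ) x).trans (hact σ (e x))
  obtain ⟨f, hf⟩ := exists_hom_of_equivariant (H' ⋙ F'') (H.obj X) X' (fun x => e x) he'
  have : IsIso ((H' ⋙ F'').map f) := by
    rw [ConcreteCategory.isIso_iff_bijective, show ((H' ⋙ F'').map f : _ → _) = e from funext hf]
    exact e.bijective
  have : IsIso f := isIso_of_reflects_iso f (H' ⋙ F'')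
  exact ⟨X, ⟨asIso f⟩⟩

theorem exact_iff :
    (Function.Surjective (Pi1X.autWhisker H (H' ⋙ F'')) ∧
      (∀ σ : Aut F'', Pi1X.autWhisker H (H' ⋙ F'') (Pi1X.autWhisker H' F'' σ) = 1) ∧
      (Pi1X.autWhisker H (H' ⋙ F'')).ker =
        (Subgroup.normalClosure (Set.range (Pi1X.autWhisker H' F''))).topologicalClosure) ↔
    ((H.Full ∧ H.Faithful) ∧ ∀ X' : C', (∃ X : C, Nonempty (H.obj X ≅ X')) ↔
      ∃ n : ℕ, Nonempty (H'.obj X' ≅ ∐ fun _ : Fin n => ⊤_ C'')) := by
  constructor
  · rintro ⟨hs, htriv, hker⟩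
    refine ⟨(surjective_iff_full_faithful H (H' ⋙ F'')).mp hs, fun X' => ⟨?_, fun hsplit => ?_⟩⟩
    · rintro ⟨X, ⟨e⟩⟩
      obtain ⟨n, ⟨i⟩⟩ := (comp_trivial_iff H H' F'').mp htriv X
      exact ⟨n, ⟨(H'.mapIso e).symm ≪≫ i⟩⟩
    · refine exists_iso_of_trivial_on_ker H H' F'' hs X' fun σ hσ x => ?_
      have hfix := (trivial_action_iff F'' (H'.obj X')).mpr hsplit
      let K : Subgroup (Aut (H' ⋙ F'')) := ⨅ y : (H' ⋙ F'').obj X', MulAction.stabilizer _ y
      have hK : K.Normal := ⟨fun k hk g => by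
        simp only [K, Subgroup.mem_iInf, MulAction.mem_stabilizer_iff] at hk ⊢
        intro y
        rw [mul_smul, mul_smul, hk, smul_inv_smul]⟩
      have hKc : IsClosed (K : Set (Aut (H' ⋙ F''))) := by
        rw [Subgroup.coe_iInf]
        exact isClosed_iInter fun y => Subgroup.isClosed_of_isOpen _ (stabilizer_isOpen _ y)
      have hle : (Subgroup.normalClosure (Set.range (Pi1X.autWhisker H' F''))).topologicalClosure ≤ K := by
        refine Subgroup.topologicalClosure_minimal _ (Subgroup.normalClosure_le_normal ?_) hKc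
        rintro _ ⟨τ, rfl⟩
        simp only [K, SetLike.mem_coe, Subgroup.mem_iInf, MulAction.mem_stabilizer_iff]
        exact fun y => hfix τ y
      rw [hker] at hσ
      have := hle hσ
      simp only [K, Subgroup.mem_iInf, MulAction.mem_stabilizer_iff] at this
      exact this x
  · rintro ⟨hff, hsplit⟩
    have hs := (surjective_iff_full_faithful H (H' ⋙ F'')).mpr hff
    have htriv : ∀ σ : Aut F'', Pi1X.autWhisker H (H' ⋙ F'') (Pi1X.autWhisker H' F'' σ) = 1 :=
      (comp_trivial_iff H H' F'').mpr fun X => (hsplit (H.obj X)).mp ⟨X, ⟨Iso.refl _⟩⟩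
    refine ⟨hs, htriv, le_antisymm ?_ ?_⟩
    · rw [← Groth.L27.Profinite.closed_eq_iInf _
        (Subgroup.isClosed_topologicalClosure (Subgroup.normalClosure (Set.range (Pi1X.autWhisker H' F''))))]
      refine le_iInf fun V => ?_
      obtain ⟨X', a', hX', hV⟩ := exists_stabilizer_eq (H' ⋙ F'') V.1
      have hle : Subgroup.normalClosure ((Pi1X.autWhisker H' F'').range : Set (Aut (H' ⋙ F''))) ≤
          MulAction.stabilizer (Aut (H' ⋙ F'')) a' := by
        rw [hV, MonoidHom.coe_range]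
        exact (Subgroup.le_topologicalClosure _).trans V.2
      obtain ⟨X, ⟨e⟩⟩ := (hsplit X').mpr ((normalClosure_le_stabilizer_iff H' F'' X' a').mp hle)
      rw [← hV]
      intro σ hσ
      rw [MulAction.mem_stabilizer_iff]
      apply (bijective_of_iso ((H' ⋙ F'').map e.inv)).1
      rw [← mulAction_naturality]
      exact congrArg (fun τ : Aut (H ⋙ (H' ⋙ F'')) => τ.hom.app X ((H' ⋙ F'').map e.inv a'))
        (MonoidHom.mem_ker.mp hσ)
    · refine Subgroup.topologicalClosure_minimal _ (Subgroup.normalClosure_le_normal ?_)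
        (isClosed_ker_whisker H (H' ⋙ F''))
      rintro _ ⟨τ, rfl⟩
      exact htriv τ

end three

theorem full_faithful_iff_preservesConnected {C : Type u} [Category.{v} C] [GaloisCategory C] {D : Type u}
    [Category.{v} D] [GaloisCategory D] (H : C ⥤ D) [PreservesFiniteLimits H] [PreservesFiniteColimits H] :
    (H.Full ∧ H.Faithful) ↔ ∀ X : C, PreGaloisCategory.IsConnected X → PreGaloisCategory.IsConnected (H.obj X) := by
  let F' := GaloisCategory.getFiberFunctor D
  obtain ⟨hff⟩ := nonempty_fiberFunctor_comp H F'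
  exact ⟨fun h X _ => isConnected_map_of_full H F' h.1 X,
    fun h => ⟨full_of_preserves H F' h, faithful_of_fiberFunctor H F'⟩⟩

end Groth.L27.Galois
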