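import Groth.Agent.L27.WProperties
import Groth.Agent.L27.ClopenQuotient

/-! Gluing along w-local spectra; ind-Zariski maps identify local rings. -/

set_option autoImplicit false
set_option linter.style.haveILetI false
universe u

open Topology

namespace Groth.L27.Gluing

theorem exists_idempotent_in_open {R : Type u} [CommRing R] (hR : ProEtW.IsWLocal (PrimeSpectrum R))
    (m : PrimeSpectrum R) (hm : IsClosed ({m} : Set (PrimeSpectrum R)))
    (O : Set (PrimeSpectrum R)) (hO : IsOpen O) (hmO : m ∈ O) :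
    ∃ e : R, IsIdempotentElem e ∧ e ∉ m.asIdeal ∧ ∀ x : PrimeSpectrum R, e ∉ x.asIdeal → x ∈ O := by
  haveI := hR.1
  have hsub : connectedComponent m ⊆ O := by
    intro y hy
    obtain ⟨w, ⟨hwc, hyw⟩, -⟩ := hR.2.2 y
    have hw : w ∈ connectedComponent y :=
      isPreconnected_singleton.closure.subset_connectedComponent (subset_closure rfl)
        (specializes_iff_mem_closure.mp hyw)
    have := (Spectral.components_bijective_of_unique_specialization hR.2.1 hR.2.2).1
      (a₁ := ⟨w, hwc⟩) (a₂ := ⟨m, hm⟩)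
      ((ConnectedComponents.coe_eq_coe'.mpr hw).trans (ConnectedComponents.coe_eq_coe'.mpr hy))
    obtain rfl : w = m := congrArg Subtype.val this
    exact hyw.mem_open hO hmO
  obtain ⟨U, hU, hmU, hUO⟩ := Spectral.exists_clopen_subset_of_component_subset hO hsub
  obtain ⟨e, e', hee, hee', rfl⟩ := PrimeSpectrum.isClopen_iff_mul_add.mp hU
  exact ⟨e, by change e * e = e; linear_combination -hee + e * hee', hmU, fun x hx => hUO hx⟩

theorem map_eq_one_of_notMem {R : Type u} [CommRing R] {e : R} (he : IsIdempotentElem e)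
    (q : Ideal R) [q.IsPrime] (h : e ∉ q) : algebraMap R (Localization.AtPrime q) e = 1 := by
  refine (IsLocalization.map_units (Localization.AtPrime q) (⟨e, h⟩ : q.primeCompl)).mul_left_cancel ?_
  rw [mul_one, ← map_mul, he.eq]

theorem map_eq_zero_of_mem {R : Type u} [CommRing R] {e : R} (he : IsIdempotentElem e)
    (q : Ideal R) [hq : q.IsPrime] (h : e ∈ q) : algebraMap R (Localization.AtPrime q) e = 0 :=
  (IsLocalization.map_eq_zero_iff q.primeCompl _ e).mpr
    ⟨⟨1 - e, fun h1 => hq.one_notMem (by simpa using add_mem h1 h)⟩,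
      by change (1 - e) * e = 0; rw [sub_mul, one_mul, he.eq, sub_self]⟩

/-- A unit `s·ε + (1 - ε)` gives an inverse of `s` on the piece `ε`. -/
theorem exists_partial_inverse {R : Type u} [CommRing R] {ε s : R} (hε : IsIdempotentElem ε)
    (h : ∀ x : PrimeSpectrum R, ε ∉ x.asIdeal → s ∉ x.asIdeal) : ∃ v : R, s * v = ε ∧ v = v * ε := by
  have hu : IsUnit (s * ε + (1 - ε)) := by
    by_contra hu
    obtain ⟨m, hm, hmem⟩ := exists_max_ideal_of_mem_nonunits hu
    by_cases hem : ε ∈ m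
    · refine hm.ne_top ((Ideal.eq_top_iff_one _).mpr ?_)
      simpa using add_mem (sub_mem hmem (Ideal.mul_mem_left _ s hem)) hem
    · have h1e : 1 - ε ∈ m := (hm.isPrime.mem_or_mem (by
        rw [mul_sub, mul_one, hε.eq, sub_self]; exact m.zero_mem : ε * (1 - ε) ∈ m)).resolve_left hem
      have := (hm.isPrime.mem_or_mem (show s * ε ∈ m by
        simpa using sub_mem hmem h1e)).resolve_right hem
      exact h ⟨m, hm.isPrime⟩ hem this
  obtain ⟨u, hu⟩ := hu
  refine ⟨ε * ↑u⁻¹, ?_, by linear_combination (-↑u⁻¹) * hε.eq⟩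
  calc s * (ε * ↑u⁻¹) = ε * (s * ε + (1 - ε)) * ↑u⁻¹ := by
        linear_combination ((1 - s) * ↑u⁻¹) * hε.eq
    _ = ε := by rw [← hu, mul_assoc, Units.mul_inv, mul_one]

instance (R : Type u) [CommRing R] (m : MaximalSpectrum R) : m.asIdeal.IsPrime := m.isMaximal.isPrime

/-- The point of a maximal ideal. -/
def pt {R : Type u} [CommRing R] (m : MaximalSpectrum R) : PrimeSpectrum R :=
  ⟨m.asIdeal, m.isMaximal.isPrime⟩

theorem isClosed_pt {R : Type u} [CommRing R] (m : MaximalSpectrum R) :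
    IsClosed ({pt m} : Set (PrimeSpectrum R)) :=
  (PrimeSpectrum.isClosed_singleton_iff_isMaximal _).mpr m.isMaximal

theorem exists_glue {R : Type u} [CommRing R] (hR : ProEtW.IsWLocal (PrimeSpectrum R))
    (ξ : ∀ m : MaximalSpectrum R, Localization.AtPrime m.asIdeal)
    (h : ∀ m₀ : MaximalSpectrum R, ∃ (O : Set (PrimeSpectrum R)) (a b : R), IsOpen O ∧ pt m₀ ∈ O ∧
      ∀ m : MaximalSpectrum R, pt m ∈ O →
        b ∉ m.asIdeal ∧ ξ m * algebraMap R _ b = algebraMap R _ a) :
    ∃ x : R, ∀ m, algebraMap R (Localization.AtPrime m.asIdeal) x = ξ m := by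
  let K : Ideal R :=
    { carrier := {c | ∃ x : R, ∀ m : MaximalSpectrum R,
        algebraMap R (Localization.AtPrime m.asIdeal) x = algebraMap R _ c * ξ m}
      zero_mem' := ⟨0, fun m => by simp⟩
      add_mem' := fun ⟨x, hx⟩ ⟨y, hy⟩ => ⟨x + y, fun m => by rw [map_add, map_add, hx, hy, add_mul]⟩
      smul_mem' := fun r c ⟨x, hx⟩ => ⟨r * x, fun m => by
        rw [map_mul, hx, smul_eq_mul, map_mul, mul_assoc]⟩ }
  suffices hK : K = ⊤ by
    obtain ⟨x, hx⟩ : (1 : R) ∈ K := hK ▸ trivial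
    exact ⟨x, fun m => by rw [hx, map_one, one_mul]⟩
  by_contra hne
  obtain ⟨n, hn, hKn⟩ := Ideal.exists_le_maximal _ hne
  obtain ⟨O, a, b, hO, hnO, hab⟩ := h ⟨n, hn⟩
  obtain ⟨e, he, hen, heO⟩ := exists_idempotent_in_open hR (pt ⟨n, hn⟩) (isClosed_pt _)
    (O ∩ PrimeSpectrum.basicOpen b) (hO.inter (PrimeSpectrum.basicOpen b).isOpen)
    ⟨hnO, (hab ⟨n, hn⟩ hnO).1⟩
  obtain ⟨v, hv, hve⟩ := exists_partial_inverse he (fun x hx => (heO x hx).2)
  refine hen (hKn ⟨a * v, fun m => ?_⟩)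
  by_cases hem : e ∈ m.asIdeal
  · rw [map_mul, map_eq_zero_of_mem he m.asIdeal hem, zero_mul, hve, map_mul,
      map_eq_zero_of_mem he m.asIdeal hem, mul_zero, mul_zero]
  · have h1 := map_eq_one_of_notMem he m.asIdeal hem
    obtain ⟨hbm, hξ⟩ := hab m (heO (pt m) hem).1
    rw [h1, one_mul, map_mul, ← hξ, mul_assoc, ← map_mul, hv, h1, mul_one]

end Groth.L27.Gluing
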