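import Groth.Agent.L05.Hensel.Criteria
import Groth.Agent.L27.ClopenLift
import Mathlib.AlgebraicGeometry.Pullbacks
import Mathlib.RingTheory.TensorProduct.Quotient

/-! # Lifting of clopens along finite schemes over a henselian pair -/

set_option autoImplicit false
set_option linter.style.haveILetI false
set_option backward.isDefEq.respectTransparency.types false

universe u

open CategoryTheory CategoryTheory.Limits AlgebraicGeometry TensorProduct TopologicalSpace

noncomputable section

namespace Groth.L27.ClopenLift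

variable {A : Type u} [CommRing A] (I : Ideal A) [HenselianRing A I]

theorem clopen_lift (S' : Scheme.{u}) (g : S' ⟶ Spec (CommRingCat.of A)) (hg : IsFinite g)
    (V : Set ↥(pullback g (Spec.map (CommRingCat.ofHom (Ideal.Quotient.mk I))))) (hV : IsClopen V) :
    ∃! U : Set ↥S', IsClopen U ∧
      (pullback.fst g (Spec.map (CommRingCat.ofHom (Ideal.Quotient.mk I)))).base ⁻¹' U = V := by
  haveI := hg
  haveI : IsAffine S' := isAffine_of_isAffineHom g
  let ι := Spec.map (CommRingCat.ofHom (Ideal.Quotient.mk I))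
  let q := S'.isoSpec.inv ≫ g
  haveI : IsFinite q := MorphismProperty.comp_mem _ _ _ inferInstance inferInstance
  let h0 := Spec.preimage q
  have hq : Spec.map h0 = q := Spec.map_preimage _
  let C := Γ(S', ⊤)
  letI := h0.hom.toAlgebra
  haveI : Module.Finite A C := (IsFinite.SpecMap_iff h0).mp (by rw [hq]; infer_instance)
  haveI : Algebra.IsIntegral A C := inferInstance
  let J := I.map (algebraMap A C)
  let e := (Algebra.TensorProduct.quotIdealMapEquivTensorQuot (A := A) C I).toRingEquiv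
  let m : pullback (Spec.map h0) ι ⟶ pullback g ι :=
    pullback.map (Spec.map h0) ι g ι S'.isoSpec.inv (𝟙 _) (𝟙 _) (by rw [hq, Category.comp_id]) (by simp)
  haveI : IsIso m := inferInstance
  let θ : Spec (CommRingCat.of (C ⧸ J)) ≅ pullback g ι :=
    (Scheme.Spec.mapIso e.toCommRingCatIso.op).symm ≪≫ (pullbackSpecIso A C (A ⧸ I)).symm ≪≫ asIso m
  have hθ : θ.hom ≫ pullback.fst g ι =
      Spec.map (CommRingCat.ofHom (Ideal.Quotient.mk J)) ≫ S'.isoSpec.inv := by
    have h := pullbackSpecIso_inv_fst A C (A ⧸ I)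
    show (Spec.map (CommRingCat.ofHom e.symm.toRingHom) ≫ (pullbackSpecIso A C (A ⧸ I)).inv ≫ m) ≫ _ = _
    simp only [Category.assoc]
    rw [show m ≫ pullback.fst g ι = pullback.fst (Spec.map h0) ι ≫ S'.isoSpec.inv from pullback.lift_fst _ _ _]
    rw [← Category.assoc (pullbackSpecIso A C (A ⧸ I)).inv]
    refine (congrArg (fun k => _ ≫ k ≫ S'.isoSpec.inv) h).trans ?_
    rw [← Category.assoc, ← Spec.map_comp]
    congr 2
    ext c
    show e.symm (c ⊗ₜ[A] 1) = Ideal.Quotient.mk _ c
    rw [RingEquiv.symm_apply_eq]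
    exact (Algebra.TensorProduct.quotIdealMapEquivTensorQuot_mk _ _ c).symm
  have hpt : ∀ x : Spec (CommRingCat.of (C ⧸ J)),
      pullback.fst g ι (θ.hom x) = S'.isoSpec.inv (PrimeSpectrum.comap (Ideal.Quotient.mk J) x) :=
    fun x => congrArg (fun f : Spec (CommRingCat.of (C ⧸ J)) ⟶ S' => f x) hθ
  have hθs : Function.Surjective θ.hom := θ.hom.surjective
  obtain ⟨z, hz, hzV⟩ := PrimeSpectrum.exists_idempotent_basicOpen_eq_of_isClopen
    (hV.preimage θ.hom.continuous)
  have hbij := Groth.L05.idem_bijOn I C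
  obtain ⟨d, hd, rfl⟩ := hbij.surjOn hz
  let toC : S' → PrimeSpectrum C := fun y => S'.isoSpec.hom y
  have htoC : ∀ p : PrimeSpectrum C, toC (S'.isoSpec.inv p) = p := fun p =>
    congrArg (fun f : Spec C ⟶ Spec C => f p) S'.isoSpec.inv_hom_id
  have htoC' : ∀ y, S'.isoSpec.inv (toC y) = y := fun y =>
    congrArg (fun f : S' ⟶ S' => f y) S'.isoSpec.hom_inv_id
  refine ⟨toC ⁻¹' (PrimeSpectrum.basicOpen d : Set (PrimeSpectrum C)), ⟨?_, ?_⟩, fun U' ⟨hU', hU'V⟩ => ?_⟩
  · exact IsClopen.preimage (PrimeSpectrum.isClopen_basicOpen_of_mul_add d (1 - d) (by rw [mul_sub, mul_one, hd.eq, sub_self]) (add_sub_cancel d 1)) S'.isoSpec.hom.continuous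
  · ext y
    obtain ⟨x, rfl⟩ := hθs y
    show toC (pullback.fst g ι (θ.hom x)) ∈ PrimeSpectrum.basicOpen d ↔ θ.hom x ∈ V
    rw [hpt, htoC]
    exact (Set.ext_iff.mp hzV x).symm
  · obtain ⟨d', hd', hd'U⟩ := PrimeSpectrum.exists_idempotent_basicOpen_eq_of_isClopen
      (hU'.preimage S'.isoSpec.inv.continuous)
    have heq : d' = d := by
      refine hbij.injOn hd' hd ?_
      apply PrimeSpectrum.basicOpen_injOn_isIdempotentElem (hd'.map _) (hd.map _)
      refine SetLike.ext fun x => ?_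
      refine Iff.trans ?_ (Set.ext_iff.mp hzV x)
      refine (Set.ext_iff.mp hd'U (PrimeSpectrum.comap (Ideal.Quotient.mk J) x)).symm.trans ?_
      show S'.isoSpec.inv (PrimeSpectrum.comap (Ideal.Quotient.mk J) x) ∈ U' ↔ θ.hom x ∈ V
      rw [← hpt]
      exact Set.ext_iff.mp hU'V (θ.hom x)
    rw [← heq]
    ext y
    refine Iff.trans ?_ (Set.ext_iff.mp hd'U (toC y))
    show y ∈ U' ↔ S'.isoSpec.inv (toC y) ∈ U'
    rw [htoC']

end Groth.L27.ClopenLift
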