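import Groth.Agent.L05.Hensel.Criteria
import Groth.Agent.L16.Exist.Clopen
import Groth.Agent.L27.ClopenIdem
import Groth.Agent.S0543
import Mathlib.AlgebraicGeometry.Morphisms.Flat
import Mathlib.AlgebraicGeometry.Morphisms.Proper
import Mathlib.RingTheory.AdicCompletion.AsTensorProduct

/-! # Clopens lift from the special fibre of a proper scheme over a henselian pair -/

set_option autoImplicit false
set_option linter.style.haveILetI false
set_option backward.isDefEq.respectTransparency false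
set_option backward.isDefEq.respectTransparency.types false

universe u

open CategoryTheory CategoryTheory.Limits AlgebraicGeometry TopologicalSpace Opposite

noncomputable section

namespace Groth.L27.HenselProper

variable {A B₀ : Type u} [CommRing A] [CommRing B₀] (I : Ideal A) (J : Ideal B₀) [HenselianRing B₀ J]
  (φ : A →+* B₀) {Y : Scheme.{u}} (p : Y ⟶ Spec (CommRingCat.of B₀)) (f : Y ⟶ Spec (CommRingCat.of A))

/-- The special fibre. -/
abbrev ι : Spec (CommRingCat.of (A ⧸ I)) ⟶ Spec (CommRingCat.of A) :=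
  Spec.map (CommRingCat.ofHom (Ideal.Quotient.mk I))

theorem range_ι : Set.range (ι I) = PrimeSpectrum.zeroLocus (I : Set A) := by
  show Set.range (PrimeSpectrum.comap (Ideal.Quotient.mk I)) = _
  rw [range_comap_of_surjective _ _ Ideal.Quotient.mk_surjective, Ideal.mk_ker]

theorem closed_eq_empty (hp : p ≫ Spec.map (CommRingCat.ofHom φ) = f) [IsProper f] (hφ : I.map φ ≤ J)
    {Z : Set Y} (hZ : IsClosed Z) (hd : Disjoint (Set.range (pullback.fst f (ι I))) Z) : Z = ∅ := by
  haveI : IsProper (p ≫ Spec.map (CommRingCat.ofHom φ)) := by rw [hp]; infer_instance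
  haveI : IsProper p := IsProper.of_comp p (Spec.map (CommRingCat.ofHom φ))
  by_contra hne
  obtain ⟨z, hz⟩ := Set.nonempty_iff_ne_empty.mpr hne
  obtain ⟨m, hm, hle⟩ := Ideal.exists_le_maximal (p z).asIdeal (p z).isPrime.ne_top
  let P : PrimeSpectrum B₀ := ⟨m, hm.isPrime⟩
  have hsp : (p z) ⤳ P := (PrimeSpectrum.le_iff_specializes _ P).mp hle
  obtain ⟨w, hw, hwP⟩ : P ∈ p '' Z :=
    hsp.mem_closed (p.isClosedMap Z hZ) ⟨z, hz, rfl⟩
  have hI : f w ∈ Set.range (ι I) := by
    rw [range_ι, ← hp]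
    intro a ha
    show φ a ∈ (p w).asIdeal
    rw [hwP]
    exact Ideal.mem_sInf.mp (HenselianRing.jac (hφ (Ideal.mem_map_of_mem φ ha))) ⟨bot_le, hm⟩
  exact Set.disjoint_left.mp hd (by rw [Scheme.Pullback.range_fst]; exact hI) hw

theorem exists_clopen_aux [IsNoetherianRing A] [IsProper f]
    (V : Set ↥(pullback f (ι I))) (hV : IsClopen V) :
    ∃ e' : Γ(pullback f (Spec.map (CommRingCat.ofHom (algebraMap A (AdicCompletion I A)))), ⊤),
      IsIdempotentElem e' ∧ ∀ (q : pullback f (ι I) ⟶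
          pullback f (Spec.map (CommRingCat.ofHom (algebraMap A (AdicCompletion I A))))),
        q ≫ pullback.fst _ _ = pullback.fst f (ι I) →
        q ≫ pullback.snd _ _ = pullback.snd f (ι I) ≫
          Spec.map (CommRingCat.ofHom (AdicCompletion.evalOneₐ I).toRingHom) →
        ((pullback f (ι I)).basicOpen (q.appTop e') : Set ↥(pullback f (ι I))) = V := by
  let Ac := AdicCompletion I A
  let IA := I.map (algebraMap A Ac)
  haveI : IsNoetherianRing Ac := Groth.Agent.S0543.result A I
  haveI : IsAdicComplete IA Ac :=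
    (IsAdicComplete.map_algebraMap_iff _ _).mpr (AdicCompletion.isAdicComplete (IsNoetherian.noetherian I))
  let c : Spec (CommRingCat.of Ac) ⟶ Spec (CommRingCat.of A) := Spec.map (CommRingCat.ofHom (algebraMap A Ac))
  let fc : pullback f c ⟶ Spec (CommRingCat.of Ac) := pullback.snd f c
  let ψ : A ⧸ I →+* Ac ⧸ IA ^ (0 + 1) := Ideal.Quotient.lift I
    ((Ideal.Quotient.mk (IA ^ (0 + 1))).comp (algebraMap A Ac)) fun a ha =>
      Ideal.Quotient.eq_zero_iff_mem.mpr (by rw [zero_add, pow_one]; exact Ideal.mem_map_of_mem _ ha)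
  let θ : CohB1.thick fc IA 0 ⟶ pullback f (ι I) :=
    pullback.lift (pullback.fst fc (CohB1.specQuot IA 0) ≫ pullback.fst f c)
      (pullback.snd fc (CohB1.specQuot IA 0) ≫ Spec.map (CommRingCat.ofHom ψ)) (by
        rw [Category.assoc, pullback.condition, ← Category.assoc, pullback.condition, Category.assoc, Category.assoc]
        congr 1
        rw [CohB1.specQuot, ι, ← Spec.map_comp, ← Spec.map_comp]
        rfl)
  let V' : (CohB1.thick fc IA 0).Opens := ⟨θ ⁻¹' V, hV.isOpen.preimage θ.continuous⟩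
  haveI : IsClosedImmersion V'.ι := IsClosedImmersion.of_isPreimmersion _ (by
    rw [Scheme.Opens.range_ι]; exact hV.isClosed.preimage θ.continuous)
  haveI : IsProper (CohB1.thickToBase fc IA 0) := by
    show IsProper (pullback.snd fc (CohB1.specQuot IA 0))
    infer_instance
  obtain ⟨U, hUc, -, hU⟩ := Groth.L16.Exist.Adic.exists_clopen IA fc V'
  obtain ⟨e', he', heU⟩ := ClopenIdem.exists_idem _ U hUc
  refine ⟨e', he', fun q hq1 hq2 => ?_⟩
  rw [← Scheme.preimage_basicOpen_top, heU]
  ext y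
  show q y ∈ U ↔ y ∈ V
  obtain ⟨z, hz⟩ : q y ∈ Set.range (CohB1.thickι fc IA 0) := by
    show q y ∈ Set.range (pullback.fst fc (CohB1.specQuot IA 0))
    rw [Groth.L16.Exist.Adic.range_of_cart (IsPullback.of_hasPullback fc (CohB1.specQuot IA 0))]
    show fc (q y) ∈ PrimeSpectrum.zeroLocus (IA : Set Ac)
    rw [← Scheme.Hom.comp_apply, hq2, Scheme.Hom.comp_apply]
    intro x hx
    show AdicCompletion.evalOneₐ I x ∈ (pullback.snd f (ι I) y).asIdeal
    have : IA ≤ RingHom.ker (AdicCompletion.evalOneₐ I).toRingHom := Ideal.map_le_iff_le_comap.mpr fun a ha => by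
      show AdicCompletion.evalOneₐ I (algebraMap A Ac a) = 0
      rw [AlgHom.commutes]
      exact Ideal.Quotient.eq_zero_iff_mem.mpr ha
    rw [show AdicCompletion.evalOneₐ I x = 0 from this hx]
    exact zero_mem _
  haveI : IsClosedImmersion (ι I) := IsClosedImmersion.spec_of_surjective _ Ideal.Quotient.mk_surjective
  have hθz : θ z = y := by
    refine (pullback.fst f (ι I)).isClosedEmbedding.injective ?_
    rw [← Scheme.Hom.comp_apply θ, show θ ≫ pullback.fst f (ι I) =
      pullback.fst fc (CohB1.specQuot IA 0) ≫ pullback.fst f c from pullback.lift_fst _ _ _,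
      Scheme.Hom.comp_apply]
    exact (congrArg (pullback.fst f c) hz).trans
      ((Scheme.Hom.comp_apply q (pullback.fst f c) y).symm.trans (congrArg (fun g => g.base y) hq1))
  rw [← hz]
  show z ∈ CohB1.thickι fc IA 0 ⁻¹ᵁ U ↔ y ∈ V
  rw [hU, ← hθz]
  rfl

include J in
theorem exists_clopen [IsNoetherianRing A] [IsProper f] (hp : p ≫ Spec.map (CommRingCat.ofHom φ) = f)
    (hφ : I.map φ ≤ J) (V : Set ↥(pullback f (ι I))) (hV : IsClopen V) :
    ∃ U : Set Y, IsClopen U ∧ pullback.fst f (ι I) ⁻¹' U = V := by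
  obtain ⟨e', he', hV'⟩ := exists_clopen_aux I f V hV
  let Ac := AdicCompletion I A
  let c : Spec (CommRingCat.of Ac) ⟶ Spec (CommRingCat.of A) := Spec.map (CommRingCat.ofHom (algebraMap A Ac))
  haveI : Flat c := (HasRingHomProperty.Spec_iff (P := @Flat)).mpr (by
    show (algebraMap A Ac).Flat
    exact RingHom.flat_algebraMap_iff.mpr inferInstance)
  haveI : IsProper (p ≫ Spec.map (CommRingCat.ofHom φ)) := by rw [hp]; infer_instance
  haveI : IsProper p := IsProper.of_comp p (Spec.map (CommRingCat.ofHom φ))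
  let B := Γ(Y, ⊤)
  let α : B₀ →+* B := ((Scheme.ΓSpecIso (CommRingCat.of B₀)).inv ≫ p.appTop).hom
  letI : Algebra B₀ B := α.toAlgebra
  haveI : Algebra.IsIntegral B₀ B := Algebra.isIntegral_def.mpr fun b => by
    have h : α.IsIntegral :=
      RingHom.IsIntegral.trans (Scheme.ΓSpecIso (CommRingCat.of B₀)).inv.hom p.appTop.hom
        (RingHom.isIntegral_of_surjective _
          (ConcreteCategory.bijective_of_isIso (Scheme.ΓSpecIso (CommRingCat.of B₀)).inv).2)
        (isIntegral_appTop_of_universallyClosed p)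
    exact h b
  let αA : CommRingCat.of A ⟶ B := (Scheme.ΓSpecIso (CommRingCat.of A)).inv ≫ f.appTop
  have hαA : ∀ a, αA a = α (φ a) := fun a => by
    have h1 := congrArg (fun g => (Scheme.ΓSpecIso (CommRingCat.of A)).inv ≫ Scheme.Hom.appTop g) hp
    simp only [Scheme.Hom.comp_appTop, ← Category.assoc, ← Scheme.ΓSpecIso_inv_naturality] at h1
    exact (ConcreteCategory.congr_hom h1 a).symm
  let K : Ideal B := I.map αA.hom
  let π : B ⟶ CommRingCat.of (B ⧸ K) := CommRingCat.ofHom (Ideal.Quotient.mk K)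
  let qK : A ⧸ I →+* B ⧸ K := Ideal.quotientMap K αA.hom Ideal.le_comap_map
  let β : Γ(Spec (CommRingCat.of Ac), ⊤) ⟶ CommRingCat.of (B ⧸ K) := (Scheme.ΓSpecIso _).hom ≫
    CommRingCat.ofHom (qK.comp (AdicCompletion.evalOneₐ I).toRingHom)
  have hβ : f.appTop ≫ π = c.appTop ≫ β := by
    rw [← cancel_epi (Scheme.ΓSpecIso (CommRingCat.of A)).inv]
    simp only [β, c, ← Category.assoc, ← Scheme.ΓSpecIso_inv_naturality]
    simp only [Category.assoc, Iso.inv_hom_id_assoc]
    ext a
    show Ideal.Quotient.mk K (αA a) = qK (AdicCompletion.evalOneₐ I (algebraMap A Ac a))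
    rw [AlgHom.commutes]
    rfl
  have hpo : IsPushout f.appTop c.appTop (pullback.fst f c).appTop (pullback.snd f c).appTop := by
    haveI : CompactSpace Y := (quasiCompact_iff_compactSpace f).mp inferInstance
    haveI : QuasiSeparatedSpace Y := quasiSeparatedSpace_of_quasiSeparated f
    have h := isIso_pushoutSection_of_isQuasiSeparated_of_flat_right
      (IsPullback.of_hasPullback f c) (US := ⊤) (UT := ⊤) (UX := ⊤) (UY := ⊤) le_top le_top (by simp)
      (isAffineOpen_top _) (isAffineOpen_top _) isCompact_univ isQuasiSeparated_univ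
    have h2 := (isIso_pushoutSection_iff ..).mp h
    have key : ∀ {P Q : Scheme.{u}} (g : P ⟶ Q) (h : (⊤ : P.Opens) ≤ g ⁻¹ᵁ ⊤), g.appLE ⊤ ⊤ h = g.appTop :=
      fun g _ => (Scheme.Hom.app_eq_appLE g).symm
    rwa [key, key, key, key] at h2
  let χ := hpo.desc π β hβ
  obtain ⟨ē, hē⟩ : ∃ ē : B, IsIdempotentElem ē ∧ Ideal.Quotient.mk K ē = χ e' := by
    have hKJ : K ≤ J.map α := Ideal.map_le_iff_le_comap.mpr fun a ha => by
      show αA a ∈ J.map α
      rw [hαA]
      exact Ideal.mem_map_of_mem α (hφ (Ideal.mem_map_of_mem φ ha))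
    have hidem : IsIdempotentElem (χ e') := he'.map χ.hom
    obtain ⟨e, he, hee⟩ := (Groth.L05.idem_bijOn J B).surjOn
      (show IsIdempotentElem (Ideal.Quotient.factor hKJ (χ e')) from hidem.map _)
    have hjac : J.map α ≤ (⊥ : Ideal B).jacobson :=
      Groth.L05.map_le_jacobson_bot HenselianRing.jac
    obtain ⟨d, hd⟩ := Ideal.Quotient.mk_surjective (χ e')
    refine ⟨e, he, ?_⟩
    have hK : (J.map α).map (Ideal.Quotient.mk K) ≤ (⊥ : Ideal (B ⧸ K)).jacobson :=
      Groth.L05.map_le_jacobson_bot (A := B) hjac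
    have hmem : Ideal.Quotient.mk K e - χ e' ∈ (⊥ : Ideal (B ⧸ K)).jacobson := by
      rw [← hd, ← map_sub]
      refine hK (Ideal.mem_map_of_mem _ (Ideal.Quotient.eq.mp ?_))
      rw [← hd] at hee
      exact hee
    exact Groth.L05.idem_eq_of_sub_mem le_rfl (he.map _) hidem hmem
  refine ⟨(Y.basicOpen ē : Set Y), ⟨?_, (Y.basicOpen ē).2⟩, ?_⟩
  · have hc : (Y.basicOpen ē : Set Y) = (Y.basicOpen (1 - ē) : Set Y)ᶜ := by
      ext y
      simp only [Set.mem_compl_iff, SetLike.mem_coe, Scheme.mem_basicOpen_top]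
      constructor
      · intro h1 h2
        have h3 := h1.mul h2
        rw [← map_mul, mul_sub, mul_one, hē.1.eq, sub_self, map_zero, isUnit_zero_iff] at h3
        exact zero_ne_one h3
      · intro h2
        refine (IsLocalRing.isUnit_or_isUnit_of_add_one ?_).resolve_right h2
        rw [← map_add, add_sub_cancel, map_one]
    rw [hc]
    exact (Y.basicOpen (1 - ē)).2.isClosed_compl
  · let q : pullback f (ι I) ⟶ pullback f c :=
      pullback.lift (pullback.fst f (ι I))
        (pullback.snd f (ι I) ≫ Spec.map (CommRingCat.ofHom (AdicCompletion.evalOneₐ I).toRingHom)) (by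
          rw [pullback.condition, Category.assoc, ← Spec.map_comp]
          congr 2)
    rw [← hV' q (pullback.lift_fst _ _ _) (pullback.lift_snd _ _ _)]
    show ((pullback.fst f (ι I)) ⁻¹ᵁ Y.basicOpen ē : Set ↥(pullback f (ι I))) = _
    rw [Scheme.preimage_basicOpen_top]
    congr 2
    let sA : CommRingCat.of (A ⧸ I) ⟶ Γ(pullback f (ι I), ⊤) :=
      (Scheme.ΓSpecIso _).inv ≫ (pullback.snd f (ι I)).appTop
    have hsA : αA ≫ (pullback.fst f (ι I)).appTop = CommRingCat.ofHom (Ideal.Quotient.mk I) ≫ sA := by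
      simp only [αA, sA, Category.assoc]
      rw [← Scheme.Hom.comp_appTop, pullback.condition, Scheme.Hom.comp_appTop]
      simp only [← Category.assoc]
      rw [Scheme.ΓSpecIso_inv_naturality]
    let θ : CommRingCat.of (B ⧸ K) ⟶ Γ(pullback f (ι I), ⊤) :=
      CommRingCat.ofHom (Ideal.Quotient.lift K (pullback.fst f (ι I)).appTop.hom (by
        intro b hb
        have : K ≤ RingHom.ker (pullback.fst f (ι I)).appTop.hom :=
          Ideal.map_le_iff_le_comap.mpr fun a ha => by
            show (pullback.fst f (ι I)).appTop (αA a) = 0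
            rw [show (pullback.fst f (ι I)).appTop (αA a) = sA (Ideal.Quotient.mk I a) from
              ConcreteCategory.congr_hom hsA a, Ideal.Quotient.eq_zero_iff_mem.mpr ha, map_zero]
        exact this hb))
    have hq : q.appTop = χ ≫ θ := by
      refine hpo.hom_ext ?_ ?_
      · rw [hpo.inl_desc_assoc, ← Scheme.Hom.comp_appTop, pullback.lift_fst]
        ext b
        rfl
      · rw [hpo.inr_desc_assoc, ← Scheme.Hom.comp_appTop, pullback.lift_snd, Scheme.Hom.comp_appTop]
        rw [← cancel_epi (Scheme.ΓSpecIso (CommRingCat.of Ac)).inv]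
        simp only [β, ← Category.assoc, ← Scheme.ΓSpecIso_inv_naturality]
        simp only [Category.assoc, Iso.inv_hom_id_assoc]
        ext x
        obtain ⟨a, ha⟩ := Ideal.Quotient.mk_surjective (AdicCompletion.evalOneₐ I x)
        show sA (AdicCompletion.evalOneₐ I x) = θ (qK (AdicCompletion.evalOneₐ I x))
        rw [← ha]
        exact (ConcreteCategory.congr_hom hsA a).symm
    rw [show q.appTop e' = θ (χ e') from ConcreteCategory.congr_hom hq e', ← hē.2]
    rfl

theorem clopen_lift [IsNoetherianRing A] [IsProper f] (hp : p ≫ Spec.map (CommRingCat.ofHom φ) = f)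
    (hφ : I.map φ ≤ J) (V : Set ↥(pullback f (ι I))) (hV : IsClopen V) :
    ∃! U : Set Y, IsClopen U ∧ pullback.fst f (ι I) ⁻¹' U = V := by
  obtain ⟨U, hU, hUV⟩ := exists_clopen I J φ p f hp hφ V hV
  refine ⟨U, ⟨hU, hUV⟩, fun U' ⟨hU', hU'V⟩ => ?_⟩
  have key : ∀ {U₁ U₂ : Set Y}, IsClopen U₁ → IsClopen U₂ →
      pullback.fst f (ι I) ⁻¹' U₁ = pullback.fst f (ι I) ⁻¹' U₂ → U₁ \ U₂ = ∅ := by
    intro U₁ U₂ h₁ h₂ he
    refine closed_eq_empty I J φ p f hp hφ (h₁.diff h₂).isClosed (Set.disjoint_left.mpr ?_)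
    rintro _ ⟨t, rfl⟩ ⟨ht₁, ht₂⟩
    exact ht₂ ((Set.ext_iff.mp he t).mp ht₁)
  exact Set.Subset.antisymm (Set.sdiff_eq_empty.mp (key hU' hU (hU'V.trans hUV.symm)))
    (Set.sdiff_eq_empty.mp (key hU hU' (hUV.trans hU'V.symm)))

/-- The clopens of a scheme finite over a scheme over the base lift. -/
theorem clopen_lift_along [IsNoetherianRing A] {X : Scheme.{u}} (f₀ : X ⟶ Spec (CommRingCat.of A))
    (p₀ : X ⟶ Spec (CommRingCat.of B₀)) [IsProper f₀]
    (hp : p₀ ≫ Spec.map (CommRingCat.ofHom φ) = f₀) (hφ : I.map φ ≤ J)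
    (Y : Scheme.{u}) (g : Y ⟶ X) (hg : IsFinite g)
    (V : Set ↥(pullback g (pullback.fst f₀ (ι I)))) (hV : IsClopen V) :
    ∃! U : Set ↥Y, IsClopen U ∧ (pullback.fst g (pullback.fst f₀ (ι I))).base ⁻¹' U = V := by
  haveI := hg
  let φ' := pullbackRightPullbackFstIso f₀ (ι I) g
  have h := clopen_lift I J φ (g ≫ p₀) (g ≫ f₀) (by rw [Category.assoc, hp]) hφ
    (φ'.inv ⁻¹' V) (hV.preimage φ'.inv.continuous)
  have key : ∀ U : Set Y, pullback.fst (g ≫ f₀) (ι I) ⁻¹' U = φ'.inv ⁻¹' V ↔
      (pullback.fst g (pullback.fst f₀ (ι I))).base ⁻¹' U = V := by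
    intro U
    have hs : Function.Surjective φ'.inv := φ'.inv.surjective
    have he : pullback.fst (g ≫ f₀) (ι I) = φ'.inv ≫ pullback.fst g (pullback.fst f₀ (ι I)) :=
      (Iso.eq_inv_comp _).mpr (pullbackRightPullbackFstIso_hom_fst _ _ _)
    rw [he, Scheme.Hom.comp_base, TopCat.coe_comp, Set.preimage_comp]
    exact (Set.preimage_eq_preimage hs)
  simpa only [key] using h

end Groth.L27.HenselProper
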