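import Groth.Agent.L27.Spectral
import Groth.Prelude.Def_ProEtW
import Mathlib.RingTheory.Spectrum.Prime.Topology
import Mathlib.RingTheory.LocalRing.ResidueField.Ideal

/-! Maps identifying local rings between w-local rings. -/

set_option autoImplicit false
set_option linter.style.haveILetI false
universe u

namespace Groth.L27.IdentifiesLocal

theorem bijective_of_wLocal (A B : Type u) [CommRing A] [CommRing B] [Algebra A B]
    (h1 : EtPBC.IdentifiesLocalRings A B) (h2 : ProEtW.IsWLocal (PrimeSpectrum A))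
    (h3 : ProEtW.IsWLocal (PrimeSpectrum B))
    (h4 : ProEtW.IsWLocalMap (PrimeSpectrum.comap (algebraMap A B)))
    (h5 : Function.Bijective (PrimeSpectrum.continuous_comap (algebraMap A B)).connectedComponentsMap) :
    Function.Bijective (algebraMap A B) := by
  haveI := h2.1
  haveI := h3.1
  have bA := Spectral.components_bijective_of_unique_specialization h2.2.1 h2.2.2
  have bB := Spectral.components_bijective_of_unique_specialization h3.2.1 h3.2.2
  have hcl : ∀ n : PrimeSpectrum A, IsClosed ({n} : Set (PrimeSpectrum A)) →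
      ∃! q : PrimeSpectrum B, IsClosed ({q} : Set (PrimeSpectrum B)) ∧
        PrimeSpectrum.comap (algebraMap A B) q = n := by
    intro n hn
    obtain ⟨c, hc⟩ := h5.2 (ConnectedComponents.mk n)
    obtain ⟨⟨q, hq⟩, rfl⟩ := bB.2 c
    have hqn : PrimeSpectrum.comap (algebraMap A B) q = n :=
      congrArg Subtype.val (bA.1 (a₁ := ⟨_, h4.2 q hq⟩) (a₂ := ⟨n, hn⟩) hc)
    refine ⟨q, ⟨hq, hqn⟩, fun q' ⟨hq', hqn'⟩ => ?_⟩
    refine congrArg Subtype.val (bB.1 (a₁ := ⟨q', hq'⟩) (a₂ := ⟨q, hq⟩) (h5.1 ?_))
    change ConnectedComponents.mk _ = ConnectedComponents.mk _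
    rw [hqn, hqn']
  constructor
  · rw [injective_iff_map_eq_zero]
    intro a ha
    by_contra ha0
    have hne : (Ideal.span {a} : Submodule A A).annihilator ≠ ⊤ := by
      rw [Ne, Submodule.annihilator_eq_top_iff]
      simpa using ha0
    obtain ⟨n, hn, hle⟩ := Ideal.exists_le_maximal _ hne
    obtain ⟨q, ⟨-, hqn⟩, -⟩ := hcl ⟨n, hn.isPrime⟩
      ((PrimeSpectrum.isClosed_singleton_iff_isMaximal _).mpr hn)
    have h0 : algebraMap A (Localization.AtPrime (q.asIdeal.comap (algebraMap A B))) a = 0 := by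
      apply (h1 q).1
      rw [Localization.localRingHom_to_map, ha, map_zero, map_zero]
    obtain ⟨t, ht⟩ := (IsLocalization.map_eq_zero_iff (q.asIdeal.comap (algebraMap A B)).primeCompl
      _ a).mp h0
    refine t.2 ?_
    have : (t : A) ∈ n := hle (by
      rw [Submodule.mem_annihilator_span_singleton, smul_eq_mul]; exact ht)
    exact (SetLike.ext_iff.mp (congrArg PrimeSpectrum.asIdeal hqn) _).mpr this
  · intro b
    let K : Ideal A :=
      { carrier := {a | algebraMap A B a * b ∈ (algebraMap A B).range}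
        zero_mem' := ⟨0, by simp⟩
        add_mem' := fun {x y} hx hy => by
          simp only [Set.mem_ofPred_eq, map_add, add_mul] at *
          exact add_mem hx hy
        smul_mem' := fun c x hx => by
          simp only [Set.mem_ofPred_eq, smul_eq_mul, map_mul, mul_assoc] at *
          exact mul_mem ⟨c, rfl⟩ hx }
    suffices hK : K = ⊤ by
      obtain ⟨a, ha⟩ : (1 : A) ∈ K := hK ▸ trivial
      exact ⟨a, by rw [ha, map_one, one_mul]⟩
    by_contra hne
    obtain ⟨n, hn, hKn⟩ := Ideal.exists_le_maximal _ hne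
    obtain ⟨q, ⟨hq, hqn⟩, huniq⟩ := hcl ⟨n, hn.isPrime⟩
      ((PrimeSpectrum.isClosed_singleton_iff_isMaximal _).mpr hn)
    have hqn' : q.asIdeal.comap (algebraMap A B) = n := congrArg PrimeSpectrum.asIdeal hqn
    obtain ⟨x, hx⟩ := (h1 q).2 (algebraMap B _ b)
    obtain ⟨⟨a, s⟩, hx'⟩ := IsLocalization.surj (q.asIdeal.comap (algebraMap A B)).primeCompl x
    have := congrArg (Localization.localRingHom (q.asIdeal.comap (algebraMap A B)) q.asIdeal
      (algebraMap A B) rfl) hx'
    rw [map_mul, hx, Localization.localRingHom_to_map, Localization.localRingHom_to_map,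
      ← map_mul] at this
    obtain ⟨t, ht⟩ := (IsLocalization.eq_iff_exists q.asIdeal.primeCompl _).mp this
    let y := b * algebraMap A B s - algebraMap A B a
    have hty : (Ideal.span {y} : Submodule B B).annihilator ≤ q.asIdeal → False := fun hle => t.2
      (hle (by
        rw [Submodule.mem_annihilator_span_singleton, smul_eq_mul, mul_sub, ht, sub_self]))
    obtain ⟨u, hu, hun⟩ : ∃ u : A, algebraMap A B u * y = 0 ∧ u ∉ n := by
      by_contra hno
      push Not at hno
      have hd : Disjoint ((Ideal.span {y} : Submodule B B).annihilator : Set B)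
          ((n.primeCompl.map (algebraMap A B) : Submonoid B) : Set B) := by
        rw [Set.disjoint_left]
        rintro _ hmem ⟨u, hu, rfl⟩
        exact hu (hno u ((Submodule.mem_annihilator_span_singleton _ _).mp hmem))
      obtain ⟨Q, hQ, hle, hdQ⟩ := Ideal.exists_le_prime_disjoint _ _ hd
      obtain ⟨q', ⟨hq', hspec⟩, -⟩ := h3.2.2 ⟨Q, hQ⟩
      have hQn : PrimeSpectrum.comap (algebraMap A B) ⟨Q, hQ⟩ ⤳ ⟨n, hn.isPrime⟩ := by
        rw [← PrimeSpectrum.le_iff_specializes]
        intro v hv
        by_contra hvn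
        exact Set.disjoint_left.mp hdQ hv ⟨v, hvn, rfl⟩
      obtain ⟨y', -, hy'⟩ := h2.2.2 (PrimeSpectrum.comap (algebraMap A B) ⟨Q, hQ⟩)
      have e1 := hy' _ ⟨(PrimeSpectrum.isClosed_singleton_iff_isMaximal _).mpr hn, hQn⟩
      have e2 := hy' _ ⟨h4.2 q' hq', hspec.map (PrimeSpectrum.continuous_comap _)⟩
      have : q' = q := huniq q' ⟨hq', e2.trans e1.symm⟩
      subst this
      exact hty (hle.trans ((PrimeSpectrum.le_iff_specializes ⟨Q, hQ⟩ _).mpr hspec))
    refine (hn.isPrime.mul_notMem hun (fun h => s.2 ((SetLike.ext_iff.mp hqn' _).mpr h))) (hKn ?_)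
    refine ⟨u * a, ?_⟩
    rw [map_mul, map_mul]
    have hy : algebraMap A B u * (b * algebraMap A B s - algebraMap A B a) = 0 := hu
    linear_combination -hy

end Groth.L27.IdentifiesLocal
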