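import Groth.Agent.L27.IndZariski
import Mathlib.RingTheory.Spectrum.Prime.Topology

/-! Local isomorphisms and ind-Zariski maps identify local rings. -/

set_option autoImplicit false
set_option linter.style.haveILetI false
universe u

namespace Groth.L27.IdentifiesLocalRings

variable {A B : Type u} [CommRing A] [CommRing B] [Algebra A B]

/-- Every element is a fraction of the base near `q`. -/
def SurjAt (A : Type u) {B : Type u} [CommRing A] [CommRing B] [Algebra A B] (q : Ideal B) : Prop :=
  ∀ x : B, ∃ (a s : A) (t : B), algebraMap A B s ∉ q ∧ t ∉ q ∧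
    t * (x * algebraMap A B s - algebraMap A B a) = 0

/-- An element of the base killed near `q` is killed near its image. -/
def InjAt (A : Type u) {B : Type u} [CommRing A] [CommRing B] [Algebra A B] (q : Ideal B) : Prop :=
  ∀ (a : A) (t : B), t ∉ q → t * algebraMap A B a = 0 → ∃ c : A, algebraMap A B c ∉ q ∧ c * a = 0

theorem localIso_surjAt_injAt [Algebra.IsLocalIso A B] (q : Ideal B) [hq : q.IsPrime] :
    SurjAt A q ∧ InjAt A q := by
  obtain ⟨g, hg, hstd⟩ := Algebra.IsLocalIso.exists_notMem_isStandardOpenImmersion (R := A) q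
  obtain ⟨r, hr⟩ := Algebra.IsStandardOpenImmersion.exists_away A (Localization.Away g)
  have hqg : Disjoint (Submonoid.powers g : Set B) (q : Set B) := by
    rw [Set.disjoint_left]
    rintro _ ⟨n, rfl⟩ h
    exact hg (hq.mem_of_pow_mem n h)
  have hrq : algebraMap A B r ∉ q := by
    intro h
    have hp := IsLocalization.isPrime_of_isPrime_disjoint (Submonoid.powers g) (Localization.Away g) q hq hqg
    refine hp.ne_top (Ideal.eq_top_of_isUnit_mem _ ?_
      (IsLocalization.Away.algebraMap_isUnit (S := Localization.Away g) r))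
    rw [IsScalarTower.algebraMap_apply A B (Localization.Away g)]
    exact Ideal.mem_map_of_mem _ h
  constructor
  · intro x
    obtain ⟨n, a, ha⟩ := IsLocalization.Away.surj r (algebraMap B (Localization.Away g) x)
    rw [← map_pow, IsScalarTower.algebraMap_apply A B (Localization.Away g) (r ^ n),
      IsScalarTower.algebraMap_apply A B (Localization.Away g) a, ← map_mul] at ha
    obtain ⟨⟨_, m, rfl⟩, hm⟩ := (IsLocalization.eq_iff_exists (Submonoid.powers g) _).mp ha
    refine ⟨a, r ^ n, g ^ m, ?_, fun h => hg (hq.mem_of_pow_mem m h), ?_⟩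
    · rw [map_pow]
      exact fun h => hrq (hq.mem_of_pow_mem n h)
    · rw [mul_sub, sub_eq_zero]
      exact hm
  · intro a t ht hta
    obtain ⟨n, b, hb⟩ := IsLocalization.Away.surj r (algebraMap B (Localization.Away g) t)
    have h0 : algebraMap A (Localization.Away g) (b * a) = 0 := by
      rw [map_mul, ← hb, mul_right_comm, IsScalarTower.algebraMap_apply A B (Localization.Away g) a,
        ← map_mul, hta, map_zero, zero_mul]
    obtain ⟨⟨_, k, rfl⟩, hk⟩ := (IsLocalization.map_eq_zero_iff (Submonoid.powers r) _ _).mp h0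
    refine ⟨r ^ k * b, ?_, by rw [mul_assoc]; exact hk⟩
    rw [map_mul, map_pow]
    refine hq.mul_notMem (fun h => hrq (hq.mem_of_pow_mem k h)) fun hbq => ?_
    rw [← map_pow, IsScalarTower.algebraMap_apply A B (Localization.Away g) (r ^ n),
      IsScalarTower.algebraMap_apply A B (Localization.Away g) b, ← map_mul] at hb
    obtain ⟨⟨_, m, rfl⟩, hm⟩ := (IsLocalization.eq_iff_exists (Submonoid.powers g) _).mp hb
    have : g ^ m * (t * algebraMap A B (r ^ n)) ∈ q := by
      change g ^ m * (t * algebraMap A B (r ^ n)) = g ^ m * algebraMap A B b at hm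
      rw [hm]
      exact q.mul_mem_left _ hbq
    rw [map_pow] at this
    exact hq.mul_notMem (fun h => hg (hq.mem_of_pow_mem m h))
      (hq.mul_notMem ht fun h => hrq (hq.mem_of_pow_mem n h)) this

theorem surjAt_of_indZariski (h : EtPBC.IsIndZariski A B) (q : Ideal B) [q.IsPrime] : SurjAt A q := by
  rw [IndZariski.isIndZariski_iff_exists_factor] at h
  intro x
  obtain ⟨E, _, _, α, β, hE, hc⟩ := h (MvPolynomial Unit A) (MvPolynomial.aeval fun _ => x)
  obtain ⟨a, s, t, hs, ht, e⟩ := (localIso_surjAt_injAt (A := A) (q.comap β)).1 (α (.X ()))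
  refine ⟨a, s, β t, fun h => hs (by simpa using h), ht, ?_⟩
  have := congrArg β e
  have hx : β (α (.X ())) = x := by simpa using AlgHom.congr_fun hc (.X ())
  rwa [map_mul, map_sub, map_mul, hx, β.commutes, β.commutes, map_zero] at this

theorem injAt_of_indZariski (h : EtPBC.IsIndZariski A B) (q : Ideal B) [q.IsPrime] : InjAt A q := by
  rw [IndZariski.isIndZariski_iff_exists_factor] at h
  intro a t ht hta
  let r : MvPolynomial Unit A := .C a * .X ()
  have hr : (MvPolynomial.aeval fun _ : Unit => t) r = 0 := by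
    simp [r, mul_comm, hta]
  haveI : Algebra.FinitePresentation A (MvPolynomial Unit A ⧸ Ideal.span {r}) :=
    Algebra.FinitePresentation.quotient (Submodule.fg_span_singleton r)
  obtain ⟨E, _, _, α, β, hE, hc⟩ := h _ (Ideal.Quotient.liftₐ (Ideal.span {r})
    (MvPolynomial.aeval fun _ => t) fun y hy => by
      obtain ⟨z, rfl⟩ := Ideal.mem_span_singleton'.mp hy
      rw [map_mul, hr, mul_zero])
  let t' := α (Ideal.Quotient.mk _ (.X ()))
  have ht' : β t' = t := by
    simpa using AlgHom.congr_fun hc (Ideal.Quotient.mk _ (.X ()))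
  have hta' : t' * algebraMap A E a = 0 := by
    have h0 : Ideal.Quotient.mk (Ideal.span {r}) r = 0 :=
      Ideal.Quotient.eq_zero_iff_mem.mpr (Ideal.mem_span_singleton_self r)
    have := congrArg α h0
    rw [map_zero, map_mul, map_mul, mul_comm] at this
    rwa [← α.commutes, show algebraMap A (MvPolynomial Unit A ⧸ Ideal.span {r}) a =
      Ideal.Quotient.mk _ (.C a) from rfl]
  obtain ⟨c, hc', hca⟩ := (localIso_surjAt_injAt (A := A) (q.comap β)).2 a t'
    (fun h => ht (ht' ▸ h)) hta'
  exact ⟨c, fun h => hc' (by simpa using h), hca⟩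

theorem bijective_localRingHom (q : PrimeSpectrum B) (hs : SurjAt A q.asIdeal) (hi : InjAt A q.asIdeal) :
    Function.Bijective
      (Localization.localRingHom (q.asIdeal.comap (algebraMap A B)) q.asIdeal (algebraMap A B) rfl) := by
  constructor
  · rw [injective_iff_map_eq_zero]
    intro z hz
    obtain ⟨a, s, rfl⟩ := IsLocalization.exists_mk'_eq (q.asIdeal.comap (algebraMap A B)).primeCompl z
    rw [Localization.localRingHom_mk', IsLocalization.mk'_eq_zero_iff] at hz
    obtain ⟨⟨t, ht⟩, hta⟩ := hz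
    obtain ⟨c, hc, hca⟩ := hi a t ht hta
    exact (IsLocalization.mk'_eq_zero_iff _ _).mpr ⟨⟨c, hc⟩, hca⟩
  · intro z
    obtain ⟨x, ⟨u, hu⟩, rfl⟩ := IsLocalization.exists_mk'_eq q.asIdeal.primeCompl z
    obtain ⟨a₁, s₁, t₁, hs₁, ht₁, e₁⟩ := hs x
    obtain ⟨a₂, s₂, t₂, hs₂, ht₂, e₂⟩ := hs u
    have ha₂ : algebraMap A B a₂ ∉ q.asIdeal := fun h => by
      rw [mul_sub, sub_eq_zero] at e₂
      exact q.isPrime.mul_notMem ht₂ (q.isPrime.mul_notMem hu hs₂) (e₂ ▸ q.asIdeal.mul_mem_left _ h)
    refine ⟨IsLocalization.mk' _ (a₁ * s₂) (⟨s₁ * a₂, ?_⟩ :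
      (q.asIdeal.comap (algebraMap A B)).primeCompl), ?_⟩
    · change algebraMap A B (s₁ * a₂) ∉ q.asIdeal
      rw [map_mul]
      exact q.isPrime.mul_notMem hs₁ ha₂
    rw [Localization.localRingHom_mk']
    rw [IsLocalization.mk'_eq_iff_eq']
    rw [IsLocalization.eq_iff_exists q.asIdeal.primeCompl]
    refine ⟨⟨t₁ * t₂, q.isPrime.mul_notMem ht₁ ht₂⟩, ?_⟩
    simp only [map_mul]
    linear_combination (t₁ * algebraMap A B a₁) * e₂ - (t₂ * algebraMap A B a₂) * e₁

theorem of_indZariski (h : EtPBC.IsIndZariski A B) : EtPBC.IdentifiesLocalRings A B := fun q =>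
  bijective_localRingHom q (surjAt_of_indZariski h q.asIdeal) (injAt_of_indZariski h q.asIdeal)

theorem surjAt_of_bijective (q : PrimeSpectrum B) (h : Function.Bijective
      (Localization.localRingHom (q.asIdeal.comap (algebraMap A B)) q.asIdeal (algebraMap A B) rfl)) :
    SurjAt A q.asIdeal := by
  intro x
  obtain ⟨z, hz⟩ := h.2 (algebraMap B _ x)
  obtain ⟨a, s, rfl⟩ := IsLocalization.exists_mk'_eq (q.asIdeal.comap (algebraMap A B)).primeCompl z
  rw [Localization.localRingHom_mk', IsLocalization.mk'_eq_iff_eq_mul, ← map_mul] at hz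
  obtain ⟨t, ht⟩ := (IsLocalization.eq_iff_exists q.asIdeal.primeCompl _).mp hz
  exact ⟨a, s, t, s.2, t.2, by rw [mul_sub, sub_eq_zero]; exact ht.symm⟩

theorem surjAt_of_identifies (h : EtPBC.IdentifiesLocalRings A B) (q : PrimeSpectrum B) :
    SurjAt A q.asIdeal :=
  surjAt_of_bijective q (h q)

theorem injAt_of_bijective (q : PrimeSpectrum B) (h : Function.Bijective
      (Localization.localRingHom (q.asIdeal.comap (algebraMap A B)) q.asIdeal (algebraMap A B) rfl)) :
    InjAt A q.asIdeal := by
  intro a t ht hta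
  have h0 : algebraMap A (Localization.AtPrime (q.asIdeal.comap (algebraMap A B))) a = 0 := by
    apply h.1
    rw [Localization.localRingHom_to_map, map_zero,
      IsLocalization.map_eq_zero_iff q.asIdeal.primeCompl]
    exact ⟨⟨t, ht⟩, hta⟩
  obtain ⟨c, hc⟩ := (IsLocalization.map_eq_zero_iff
    (q.asIdeal.comap (algebraMap A B)).primeCompl _ a).mp h0
  exact ⟨c, c.2, hc⟩

/-- Bijectivity of local rings passes to generalizations. -/
theorem bijective_of_le {q n : PrimeSpectrum B} (hle : q ≤ n) (h : Function.Bijective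
      (Localization.localRingHom (n.asIdeal.comap (algebraMap A B)) n.asIdeal (algebraMap A B) rfl)) :
    Function.Bijective
      (Localization.localRingHom (q.asIdeal.comap (algebraMap A B)) q.asIdeal (algebraMap A B) rfl) := by
  refine bijective_localRingHom q (fun x => ?_) fun a t ht hta => ?_
  · obtain ⟨a, s, t, hs, ht, e⟩ := surjAt_of_bijective n h x
    exact ⟨a, s, t, fun h => hs (hle h), fun h => ht (hle h), e⟩
  · obtain ⟨b, s, t', hs, ht', e⟩ := surjAt_of_bijective n h t
    have htb : t' * (t * algebraMap A B s) = t' * algebraMap A B b := by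
      rw [← sub_eq_zero, ← mul_sub]; exact e
    have hb : algebraMap A B b ∉ q.asIdeal := fun hb =>
      q.isPrime.mul_notMem (fun h => ht' (hle h)) (q.isPrime.mul_notMem ht fun h => hs (hle h))
        (htb ▸ q.asIdeal.mul_mem_left _ hb)
    obtain ⟨c, hc, hcba⟩ := injAt_of_bijective n h (b * a) t' ht' (by
      rw [map_mul, ← mul_assoc, ← htb]
      linear_combination (t' * algebraMap A B s) * hta)
    refine ⟨c * b, ?_, by rw [mul_assoc]; exact hcba⟩
    rw [map_mul]
    exact q.isPrime.mul_notMem (fun h => hc (hle h)) hb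

theorem injAt_of_identifies (h : EtPBC.IdentifiesLocalRings A B) (q : PrimeSpectrum B) :
    InjAt A q.asIdeal := by
  intro a t ht hta
  have h0 : algebraMap A (Localization.AtPrime (q.asIdeal.comap (algebraMap A B))) a = 0 := by
    apply (h q).1
    rw [Localization.localRingHom_to_map, map_zero,
      IsLocalization.map_eq_zero_iff q.asIdeal.primeCompl]
    exact ⟨⟨t, ht⟩, hta⟩
  obtain ⟨c, hc⟩ := (IsLocalization.map_eq_zero_iff
    (q.asIdeal.comap (algebraMap A B)).primeCompl _ a).mp h0
  exact ⟨c, c.2, hc⟩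

theorem eq_of_le_of_surjAt {q q' : PrimeSpectrum B} (hs' : SurjAt A q'.asIdeal) (hle : q ≤ q')
    (heq : PrimeSpectrum.comap (algebraMap A B) q = PrimeSpectrum.comap (algebraMap A B) q') :
    q = q' := by
  refine le_antisymm hle fun x hx => ?_
  obtain ⟨a, s, t, hs, ht, e⟩ := hs' x
  have h1 : x * algebraMap A B s - algebraMap A B a ∈ q.asIdeal :=
    (q.isPrime.mem_or_mem (e ▸ q.asIdeal.zero_mem)).resolve_left fun h => ht (hle h)
  have ha : algebraMap A B a ∈ q'.asIdeal := by
    simpa using sub_mem (q'.asIdeal.mul_mem_right (algebraMap A B s) hx) (hle h1)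
  have ha' : algebraMap A B a ∈ q.asIdeal :=
    (SetLike.ext_iff.mp (congrArg PrimeSpectrum.asIdeal heq) a).mpr ha
  exact (q.isPrime.mem_or_mem (by simpa using add_mem h1 ha' : x * algebraMap A B s ∈ q.asIdeal)).resolve_right
    fun h => hs (hle h)

/-- Fibres of such maps have no specializations. -/
theorem eq_of_le (h : EtPBC.IdentifiesLocalRings A B) {q q' : PrimeSpectrum B} (hle : q ≤ q')
    (heq : PrimeSpectrum.comap (algebraMap A B) q = PrimeSpectrum.comap (algebraMap A B) q') :
    q = q' :=
  eq_of_le_of_surjAt (surjAt_of_identifies h q') hle heq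

end Groth.L27.IdentifiesLocalRings
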