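import Groth.Agent.L27.WConstruction
import Groth.Agent.L27.IdentifiesLocalRings

/-! A ring map identifying local rings becomes ind-Zariski after w-localization of the target. -/

set_option autoImplicit false
set_option linter.style.haveILetI false
universe u

open Topology

namespace Groth.L27.IndZariskiCover

open WConstruction IdentifiesLocalRings

theorem isUnit_algebraMap_of_notMem {A B : Type u} [CommRing A] [CommRing B] [Algebra A B]
    {I : Ideal B} (w : Pt B I) {c : A} (hc : algebraMap A B c ∉ w.1.asIdeal) :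
    IsUnit (algebraMap A (Localization.AtPrime w.1.asIdeal) c) := by
  rw [IsScalarTower.algebraMap_apply A B (Localization.AtPrime w.1.asIdeal)]
  exact IsLocalization.map_units (Localization.AtPrime w.1.asIdeal)
    (⟨_, hc⟩ : w.1.asIdeal.primeCompl)

/-- A base element vanishing in a local ring of the target vanishes in that of the base. -/
theorem exists_mul_eq_zero {A B : Type u} [CommRing A] [CommRing B] [Algebra A B]
    (h0 : EtPBC.IdentifiesLocalRings A B) {I : Ideal B} (z : Pt B I) {c : A}
    (hc : algebraMap A (Localization.AtPrime z.1.asIdeal) c = 0) :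
    ∃ t : A, algebraMap A B t ∉ z.1.asIdeal ∧ t * c = 0 := by
  rw [IsScalarTower.algebraMap_apply A B (Localization.AtPrime z.1.asIdeal)] at hc
  obtain ⟨⟨t, ht⟩, htc⟩ :=
    (IsLocalization.map_eq_zero_iff z.1.asIdeal.primeCompl (Localization.AtPrime z.1.asIdeal) _).mp hc
  exact injAt_of_identifies h0 z.1 c t ht htc

/-- Piecewise fractions of the target are piecewise fractions of the base. -/
theorem exists_base_fraction {A B : Type u} [CommRing A] [CommRing B] [Algebra A B]
    (h0 : EtPBC.IdentifiesLocalRings A B) {I : Ideal B} (σ : W B I) (z : Pt B I) :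
    ∃ (f : B) (s : Finset B) (α β : A), z.1 ∈ str B f s ∧
      ∀ w : Pt B I, w.1 ∈ str B f s → algebraMap A B β ∉ w.1.asIdeal ∧
        σ.1 w * algebraMap A _ β = algebraMap A _ α := by
  obtain ⟨f, s, a, b, hz, hC⟩ := exists_eq_mk' σ z
  obtain ⟨α₁, s₁, t₁, hs₁, ht₁, e₁⟩ := surjAt_of_identifies h0 z.1 a
  obtain ⟨α₂, s₂, t₂, hs₂, ht₂, e₂⟩ := surjAt_of_identifies h0 z.1 b
  rw [mul_sub, sub_eq_zero] at e₁ e₂
  have hα₂ : algebraMap A B α₂ ∉ z.1.asIdeal := fun h =>
    z.1.isPrime.mul_notMem ht₂ (z.1.isPrime.mul_notMem (hC z hz).1 hs₂)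
      (e₂ ▸ z.1.asIdeal.mul_mem_left _ h)
  refine ⟨f * (t₁ * t₂ * algebraMap A B (α₂ * s₁)), s, α₁ * s₂, α₂ * s₁, ⟨?_, hz.2⟩, fun w hw => ?_⟩
  · rw [map_mul]
    exact z.1.isPrime.mul_notMem hz.1
      (z.1.isPrime.mul_notMem (z.1.isPrime.mul_notMem ht₁ ht₂) (z.1.isPrime.mul_notMem hα₂ hs₁))
  obtain ⟨hwf, hwr⟩ : f ∉ w.1.asIdeal ∧ t₁ * t₂ * algebraMap A B (α₂ * s₁) ∉ w.1.asIdeal :=
    ⟨fun h => hw.1 (Ideal.mul_mem_right _ _ h), fun h => hw.1 (Ideal.mul_mem_left _ _ h)⟩
  refine ⟨fun h => hwr (Ideal.mul_mem_left _ _ h), ?_⟩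
  have hu : IsUnit (algebraMap B (Localization.AtPrime w.1.asIdeal) (t₁ * t₂)) :=
    IsLocalization.map_units (Localization.AtPrime w.1.asIdeal)
      (⟨_, fun h => hwr (Ideal.mul_mem_right _ _ h)⟩ : w.1.asIdeal.primeCompl)
  have h1 := congrArg (algebraMap B (Localization.AtPrime w.1.asIdeal)) e₁
  have h2 := congrArg (algebraMap B (Localization.AtPrime w.1.asIdeal)) e₂
  simp only [map_mul] at h1 h2 hu
  refine hu.mul_left_cancel ?_
  simp only [IsScalarTower.algebraMap_apply A B (Localization.AtPrime w.1.asIdeal), map_mul]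
  have h3 := (hC w ⟨hwf, hw.2⟩).2
  linear_combination (algebraMap B _ t₂ * algebraMap B _ (algebraMap A B s₂)) * h1
    - (σ.1 w * algebraMap B _ t₁ * algebraMap B _ (algebraMap A B s₁)) * h2
    + (algebraMap B _ t₁ * algebraMap B _ t₂ * algebraMap B _ (algebraMap A B s₁) * algebraMap B _ (algebraMap A B s₂)) * h3

theorem indZariski {A B : Type u} [CommRing A] [CommRing B] [Algebra A B]
    (h0 : EtPBC.IdentifiesLocalRings A B) (I : Ideal B) : EtPBC.IsIndZariski A (W B I) := by
  classical
  rw [IndZariski.isIndZariski_iff_exists_factor]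
  intro P _ _ _ φ
  obtain ⟨n, π, hπ, R, hR⟩ := Algebra.FinitePresentation.out (R := A) (A := P)
  let x : Fin n → W B I := fun i => φ (π (.X i))
  -- data at each point
  have local_data : ∀ z : Pt B I, ∃ (F : B) (S : Finset B) (h : A) (η : P →ₐ[A] Localization.Away h),
      z.1 ∈ str B F S ∧ ∀ w : Pt B I, w.1 ∈ str B F S → algebraMap A B h ∉ w.1.asIdeal ∧
        ∀ (L : Localization.Away h →ₐ[A] Localization.AtPrime w.1.asIdeal) (p : P),
          L (η p) = ev I w (φ p) := by
    intro z
    choose f s a b hzC hC using fun i => exists_base_fraction h0 (x i) z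
    obtain ⟨F, S, hFS⟩ := exists_str_inter Finset.univ f s
    let d := ∏ i, b i
    have hd : ∀ w : Pt B I, w.1 ∈ str B F S → algebraMap A B d ∉ w.1.asIdeal := fun w hw hmem => by
      rw [map_prod] at hmem
      obtain ⟨i, -, hi⟩ := (w.1.isPrime.prod_mem_iff).mp hmem
      rw [hFS] at hw
      exact (hC i w (Set.mem_iInter₂.mp hw i (Finset.mem_univ i))).1 hi
    have hzFS : z.1 ∈ str B F S := by
      rw [hFS]
      exact Set.mem_iInter₂.mpr fun i _ => hzC i
    let η₀ : MvPolynomial (Fin n) A →ₐ[A] Localization.Away d :=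
      MvPolynomial.aeval fun i => algebraMap A _ (a i * ∏ j ∈ Finset.univ.erase i, b j) *
        IsLocalization.Away.invSelf d
    have hη₀ : ∀ (w : Pt B I), w.1 ∈ str B F S →
        ∀ (L : Localization.Away d →ₐ[A] Localization.AtPrime w.1.asIdeal),
        L.comp η₀ = ((ev I w).restrictScalars A).comp (φ.comp π) := fun w hw L => by
      refine MvPolynomial.algHom_ext fun i => ?_
      have hwC : w.1 ∈ str B (f i) (s i) := by
        rw [hFS] at hw
        exact Set.mem_iInter₂.mp hw i (Finset.mem_univ i)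
      have hu : IsUnit (algebraMap A (Localization.AtPrime w.1.asIdeal) d) :=
        isUnit_algebraMap_of_notMem w (hd w hw)
      refine hu.mul_right_cancel ?_
      change L (η₀ (.X i)) * _ = (x i).1 w * _
      rw [show algebraMap A (Localization.AtPrime w.1.asIdeal) d =
          algebraMap A _ (b i) * algebraMap A _ (∏ j ∈ Finset.univ.erase i, b j) by
        rw [← map_mul, Finset.mul_prod_erase _ b (Finset.mem_univ i)]]
      rw [← mul_assoc ((x i).1 w), (hC i w hwC).2]
      simp only [η₀, MvPolynomial.aeval_X, map_mul, AlgHom.commutes]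
      have hL : L (IsLocalization.Away.invSelf d) * (algebraMap A (Localization.AtPrime w.1.asIdeal) (b i) *
          algebraMap A _ (∏ j ∈ Finset.univ.erase i, b j)) = 1 := by
        rw [← map_mul, Finset.mul_prod_erase _ b (Finset.mem_univ i), mul_comm, ← L.commutes, ← map_mul,
          IsLocalization.Away.mul_invSelf, map_one]
      rw [mul_assoc _ (L _), hL, mul_one]
    let LB : ∀ (c : A) (w : Pt B I), algebraMap A B c ∉ w.1.asIdeal →
        (Localization.Away c →ₐ[A] Localization.AtPrime w.1.asIdeal) := fun c w hc =>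
      IsLocalization.liftAlgHom (M := Submonoid.powers c) (f := Algebra.ofId A _) fun y => by
        obtain ⟨k, hk⟩ := y.2
        rw [show (y : A) = c ^ k from hk.symm, map_pow]
        exact (isUnit_algebraMap_of_notMem w hc).pow k
    have hkill : ∀ r ∈ R, ∃ t : A, algebraMap A B t ∉ z.1.asIdeal ∧ algebraMap A _ t * η₀ r = 0 := by
      intro r hr
      obtain ⟨k, c, hc⟩ := IsLocalization.Away.surj d (η₀ r)
      have hr0 : LB d z (hd z hzFS) (η₀ r) = 0 := by
        have := AlgHom.congr_fun (hη₀ z hzFS (LB d z (hd z hzFS))) r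
        simp only [AlgHom.comp_apply] at this
        rw [this, show π r = 0 from hR.le (Ideal.subset_span hr), map_zero, map_zero]
      have hc0 : algebraMap A (Localization.AtPrime z.1.asIdeal) c = 0 := by
        rw [← (LB d z (hd z hzFS)).commutes, ← hc, map_mul, hr0, zero_mul]
      obtain ⟨t, htq, ht⟩ := exists_mul_eq_zero h0 z hc0
      refine ⟨t, htq, ?_⟩
      rw [← ((IsLocalization.Away.algebraMap_isUnit d).pow k).mul_left_eq_zero, mul_assoc, hc, ← map_mul,
        ht, map_zero]
    choose! t htz ht using hkill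
    let T := ∏ r ∈ R, t r
    let h := d * T
    let g : Localization.Away d →ₐ[A] Localization.Away h :=
      IsLocalization.liftAlgHom (M := Submonoid.powers d) (f := Algebra.ofId A _) fun y => by
        obtain ⟨k, hk⟩ := y.2
        rw [show (y : A) = d ^ k from hk.symm, map_pow]
        refine IsUnit.pow k (isUnit_of_mul_isUnit_left (y := algebraMap A (Localization.Away h) T) ?_)
        rw [Algebra.ofId_apply, ← map_mul]
        exact IsLocalization.Away.algebraMap_isUnit h
    have hT : IsUnit (algebraMap A (Localization.Away h) T) := by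
      refine isUnit_of_mul_isUnit_right (x := algebraMap A (Localization.Away h) d) ?_
      rw [← map_mul]
      exact IsLocalization.Away.algebraMap_isUnit h
    have hker : RingHom.ker π ≤ RingHom.ker (g.comp η₀) := by
      refine hR.ge.trans (Ideal.span_le.mpr fun r hr => ?_)
      have hu : IsUnit (algebraMap A (Localization.Away h) (t r)) := by
        refine isUnit_of_mul_isUnit_left (y := algebraMap A (Localization.Away h) (∏ j ∈ R.erase r, t j)) ?_
        rw [← map_mul, Finset.mul_prod_erase _ _ hr]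
        exact hT
      have := congrArg g (ht r hr)
      rw [map_mul, g.commutes, map_zero] at this
      exact hu.mul_right_eq_zero.mp this
    refine ⟨F * algebraMap A B T, S, h, AlgHom.liftOfSurjective π hπ (g.comp η₀) hker,
      ⟨z.1.isPrime.mul_notMem hzFS.1 (fun hmem => by
        rw [map_prod] at hmem
        obtain ⟨r, hr, hr'⟩ := (z.1.isPrime.prod_mem_iff).mp hmem
        exact htz r hr hr'), hzFS.2⟩, fun w hw => ?_⟩
    have hwFS : w.1 ∈ str B F S := ⟨fun hF => hw.1 (Ideal.mul_mem_right _ _ hF), hw.2⟩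
    refine ⟨by
      rw [map_mul]
      exact w.1.isPrime.mul_notMem (hd w hwFS) fun hmem => hw.1 (Ideal.mul_mem_left _ _ hmem),
      fun L p => ?_⟩
    obtain ⟨q, rfl⟩ := hπ p
    rw [show AlgHom.liftOfSurjective π hπ (g.comp η₀) hker (π q) = g (η₀ q) from
      AlgHom.congr_fun (AlgHom.liftOfSurjective_comp π hπ (g.comp η₀) hker) q]
    exact AlgHom.congr_fun (hη₀ w hwFS (L.comp g)) q
  choose F S h η hmem hdata using local_data
  obtain ⟨t, ht⟩ := exists_finite_cover F S hmem
  obtain ⟨m, ⟨et⟩⟩ := Finite.exists_equiv_fin t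
  let c : Fin m → Pt B I := fun i => (et.symm i).1
  have hcov : ∀ w : Pt B I, (Finset.univ.filter fun i => w.1 ∈ str B (F (c i)) (S (c i))).Nonempty := by
    intro w
    obtain ⟨i, hi, hwi⟩ := ht w
    exact ⟨et ⟨i, hi⟩, by simp [c, hwi]⟩
  let idx : Pt B I → Fin m := fun w => (Finset.univ.filter fun i => w.1 ∈ str B (F (c i)) (S (c i))).min' (hcov w)
  have hidx : ∀ w, w.1 ∈ str B (F (c (idx w))) (S (c (idx w))) := fun w =>
    (Finset.mem_filter.mp (Finset.min'_mem _ (hcov w))).2
  let L : ∀ w : Pt B I, Localization.Away (h (c (idx w))) →ₐ[A] Localization.AtPrime w.1.asIdeal := fun w =>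
    IsLocalization.liftAlgHom (M := Submonoid.powers (h (c (idx w)))) (f := Algebra.ofId A _) fun y => by
      obtain ⟨k, hk⟩ := y.2
      rw [show (y : A) = h (c (idx w)) ^ k from hk.symm, map_pow]
      exact (isUnit_algebraMap_of_notMem w (hdata _ w (hidx w)).1).pow k
  let E := ∀ i : Fin m, Localization.Away (h (c i))
  haveI : Algebra.IsLocalIso A E :=
    Algebra.IsLocalIso.pi_of_finite A fun i : Fin m => Localization.Away (h (c i))
  let β₀ : E →ₐ[A] ∀ w : Pt B I, Localization.AtPrime w.1.asIdeal :=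
    AlgHom.pi fun w => (L w).comp (Pi.evalAlgHom A _ (idx w))
  have hβ : ∀ e : E, β₀ e ∈ W B I := by
    intro e z
    obtain ⟨k, a, ha⟩ := IsLocalization.Away.surj (h (c (idx z))) (e (idx z))
    have hex : ∀ j : Fin m, ∃ (G : B) (T : Finset B), z.1 ∈ str B G T ∧
        ∀ w ∈ str B G T, (w ∈ str B (F (c j)) (S (c j)) ↔ z.1 ∈ str B (F (c j)) (S (c j))) := by
      intro j
      by_cases hj : z.1 ∈ str B (F (c j)) (S (c j))
      · exact ⟨_, _, hj, fun w hw => iff_of_true hw hj⟩
      · obtain ⟨G, T, hG, hd⟩ := exists_str_compl hj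
        exact ⟨G, T, hG, fun w hw => iff_of_false (Set.disjoint_left.mp hd hw) hj⟩
    choose G T hG hGT using hex
    obtain ⟨G', T', hG'⟩ := exists_str_inter Finset.univ G T
    refine ⟨G', T', algebraMap A B a, algebraMap A B (h (c (idx z))) ^ k, ?_, fun w hw => ?_⟩
    · rw [hG']
      exact Set.mem_iInter₂.mpr fun j _ => hG j
    · rw [hG'] at hw
      have heq : idx w = idx z := by
        simp only [idx]
        congr 1
        exact Finset.filter_congr fun j _ => hGT j _ (Set.mem_iInter₂.mp hw j (Finset.mem_univ j))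
      have key : ∀ i : Fin m, i = idx w →
          algebraMap A B (h (c i)) ∉ w.1.asIdeal ∧ ∀ k a, e i * algebraMap A _ (h (c i)) ^ k = algebraMap A _ a →
            (β₀ e) w * algebraMap A (Localization.AtPrime w.1.asIdeal) (h (c i)) ^ k = algebraMap A _ a := by
        rintro i rfl
        refine ⟨(hdata _ w (hidx w)).1, fun k a ha => ?_⟩
        change L w (e (idx w)) * _ = _
        rw [← (L w).commutes, ← (L w).commutes a, ← map_pow, ← map_mul, ha]
      obtain ⟨h1, h2⟩ := key (idx z) heq.symm
      refine ⟨fun hmem => h1 (w.1.isPrime.mem_of_pow_mem k hmem), ?_⟩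
      rw [map_pow, ← IsScalarTower.algebraMap_apply, ← IsScalarTower.algebraMap_apply]
      exact h2 k a ha
  refine ⟨E, inferInstance, inferInstance, AlgHom.pi fun i => η (c i), β₀.codRestrict ((W B I).restrictScalars A) hβ,
    inferInstance, ?_⟩
  refine AlgHom.ext fun p => W_ext fun w => ?_
  exact (hdata (c (idx w)) w (hidx w)).2 (L w) p

end Groth.L27.IndZariskiCover
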