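import Groth.Agent.L27.Retractions

/-! Localizations onto generalisations of closed sets. -/

set_option autoImplicit false
set_option linter.style.haveILetI false
universe u

open TensorProduct

namespace Groth.L27.LocalizationSpecializing

theorem exists_localization (A : Type u) [CommRing A] (f : A) (I : Ideal A) :
    ∃ S : Submonoid A, Set.range (PrimeSpectrum.comap (algebraMap A (Localization S))) =
      {x | ∃ z : PrimeSpectrum A,
        z ∈ (PrimeSpectrum.basicOpen f : Set (PrimeSpectrum A)) ∩ PrimeSpectrum.zeroLocus I ∧ x ⤳ z} := by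
  let π : A →+* Localization.Away (Ideal.Quotient.mk I f) :=
    (algebraMap (A ⧸ I) _).comp (Ideal.Quotient.mk I)
  let S : Submonoid A := (IsUnit.submonoid _).comap π
  refine ⟨S, ?_⟩
  rw [PrimeSpectrum.localization_comap_range (Localization S) S]
  ext x
  simp only [Set.mem_ofPred_eq]
  constructor
  · intro hx
    have hf : f ∉ (x.asIdeal ⊔ I).radical := by
      intro hf
      obtain ⟨n, hn⟩ := hf
      obtain ⟨a, ha, b, hb, hab⟩ := Submodule.mem_sup.mp hn
      refine Set.disjoint_left.mp hx ?_ ha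
      change IsUnit (π a)
      have : π a = π (f ^ n) := by
        simp only [π, RingHom.comp_apply]
        congr 1
        rw [Ideal.Quotient.mk_eq_mk_iff_sub_mem, ← hab, sub_add_cancel_left]
        exact neg_mem hb
      rw [this, map_pow]
      exact (IsLocalization.map_units (Localization.Away (Ideal.Quotient.mk I f))
        (⟨Ideal.Quotient.mk I f, 1, pow_one _⟩ : Submonoid.powers (Ideal.Quotient.mk I f))).pow n
    rw [Ideal.radical_eq_sInf, Ideal.mem_sInf] at hf
    push Not at hf
    obtain ⟨q, ⟨hle, hq⟩, hfq⟩ := hf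
    exact ⟨⟨q, hq⟩, ⟨hfq, fun i hi => hle (Ideal.mem_sup_right hi)⟩,
      (PrimeSpectrum.le_iff_specializes x ⟨q, hq⟩).mp (le_sup_left.trans hle)⟩
  · rintro ⟨z, ⟨hfz, hIz⟩, hxz⟩
    rw [Set.disjoint_left]
    intro a ha hax
    have haz : a ∈ z.asIdeal := (PrimeSpectrum.le_iff_specializes x z).mpr hxz hax
    let zb : PrimeSpectrum (A ⧸ I) := ⟨z.asIdeal.map (Ideal.Quotient.mk I),
      Ideal.map_isPrime_of_surjective Ideal.Quotient.mk_surjective (by
        rw [Ideal.mk_ker]; exact hIz)⟩
    have hzb : ∀ b : A, Ideal.Quotient.mk I b ∈ zb.asIdeal → b ∈ z.asIdeal := fun b hb => by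
      have : b ∈ (z.asIdeal.map (Ideal.Quotient.mk I)).comap (Ideal.Quotient.mk I) := hb
      rw [Ideal.comap_map_of_surjective _ Ideal.Quotient.mk_surjective, ← RingHom.ker_eq_comap_bot,
        Ideal.mk_ker, sup_eq_left.mpr hIz] at this
      exact this
    have hzr : zb ∈ Set.range (PrimeSpectrum.comap
        (algebraMap (A ⧸ I) (Localization.Away (Ideal.Quotient.mk I f)))) := by
      rw [PrimeSpectrum.localization_away_comap_range _ (Ideal.Quotient.mk I f)]
      exact fun h => hfz (hzb f h)
    obtain ⟨w, hw⟩ := hzr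
    refine w.isPrime.ne_top (Ideal.eq_top_of_isUnit_mem _ ?_ ha)
    have : Ideal.Quotient.mk I a ∈ zb.asIdeal := Ideal.mem_map_of_mem _ haz
    rw [← hw] at this
    exact this

theorem hasEtaleRetractions_localization (A B : Type u) [CommRing A] [CommRing B] [Algebra A B]
    (S : Submonoid A) [IsLocalization S B] (I : Ideal A)
    (hB : Set.range (PrimeSpectrum.comap (algebraMap A B)) =
      {x | ∃ z : PrimeSpectrum A, z ∈ PrimeSpectrum.zeroLocus (R := A) I ∧ x ⤳ z})
    (hA : ProEtW.HasEtaleRetractions A) : ProEtW.HasEtaleRetractions B := by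
  intro C _ _ hff het
  obtain ⟨s, hs, _, _, C₀, _, _, hC₀, ⟨e⟩⟩ := EtaleLift.exists_model_localization A B S C
  letI : Algebra A C₀ :=
    ((algebraMap (Localization.Away s) C₀).comp (algebraMap A (Localization.Away s))).toAlgebra
  haveI : IsScalarTower A (Localization.Away s) C₀ := .of_algebraMap_eq' rfl
  haveI : Algebra.Etale A (Localization.Away s) := Algebra.Etale.of_isLocalizationAway s
  haveI : Algebra.Etale A C₀ := Algebra.Etale.comp A (Localization.Away s) C₀
  letI : Algebra (Localization.Away s) C :=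
    ((algebraMap B C).comp (algebraMap (Localization.Away s) B)).toAlgebra
  haveI : IsScalarTower (Localization.Away s) B C := .of_algebraMap_eq' rfl
  obtain ⟨z, hz, hzz, ⟨φ⟩⟩ := Retractions.exists_idem A hA I C₀ fun p hp => by
    obtain ⟨q, rfl⟩ : p ∈ Set.range (PrimeSpectrum.comap (algebraMap A B)) :=
      hB.symm ▸ ⟨p, hp, specializes_rfl⟩
    obtain ⟨r, rfl⟩ := PrimeSpectrum.comap_surjective_of_faithfullyFlat (A := B) (B := C) q
    refine ⟨PrimeSpectrum.comap ((e.toAlgHom.restrictScalars (Localization.Away s)).comp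
      Algebra.TensorProduct.includeRight).toRingHom r, ?_⟩
    rw [← PrimeSpectrum.comap_comp_apply, ← PrimeSpectrum.comap_comp_apply]
    congr 1
    ext a
    change e (1 ⊗ₜ algebraMap A C₀ a) = algebraMap B C (algebraMap A B a)
    rw [IsScalarTower.algebraMap_apply A (Localization.Away s) C₀,
      IsScalarTower.algebraMap_apply A (Localization.Away s) B, ← e.commutes]
    congr 1
    exact AlgHom.commutes (Algebra.TensorProduct.includeRight :
      C₀ →ₐ[Localization.Away s] B ⊗[Localization.Away s] C₀) _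
  have hz0 : algebraMap A B z = 0 := by
    have hu : IsUnit (algebraMap A B (1 - z)) := by
      by_contra hu
      obtain ⟨w, hw, hmem⟩ := exists_max_ideal_of_mem_nonunits hu
      obtain ⟨y, hy, hspec⟩ : PrimeSpectrum.comap (algebraMap A B) ⟨w, hw.isPrime⟩ ∈
          {x | ∃ z : PrimeSpectrum A, z ∈ PrimeSpectrum.zeroLocus (R := A) I ∧ x ⤳ z} :=
        hB ▸ ⟨_, rfl⟩
      refine y.isPrime.ne_top ((Ideal.eq_top_iff_one _).mpr ?_)
      simpa using add_mem ((PrimeSpectrum.le_iff_specializes _ y).mpr hspec hmem) (hy hz)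
    rw [← hu.mul_right_eq_zero, ← map_mul, sub_mul, one_mul, hzz.eq, sub_self, map_zero]
  let ψ : C₀ →ₐ[A] B := (Ideal.Quotient.liftₐ (Ideal.span {z}) (Algebra.ofId A B) fun x hx => by
    obtain ⟨r, rfl⟩ := Ideal.mem_span_singleton'.mp hx
    rw [Algebra.ofId_apply, map_mul, hz0, mul_zero]).comp φ
  have hcomm : ψ.comp (IsScalarTower.toAlgHom A (Localization.Away s) C₀) =
      IsScalarTower.toAlgHom A (Localization.Away s) B :=
    IsLocalization.algHom_ext (Submonoid.powers s) (by ext)
  let ψ' : C₀ →ₐ[Localization.Away s] B :=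
    { ψ.toRingHom with commutes' := fun a => AlgHom.congr_fun hcomm a }
  exact ⟨(Algebra.TensorProduct.lift (Algebra.ofId B B) ψ' fun _ _ => Commute.all _ _).comp
    e.symm.toAlgHom⟩

end Groth.L27.LocalizationSpecializing
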