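import Groth.Agent.L27.OlivierBasic
import Groth.Agent.L05.Hensel.Product
import Mathlib.FieldTheory.IsAlgClosed.AlgebraicClosure
import Mathlib.Order.Filter.Ultrafilter.Basic
import Mathlib.RingTheory.IntegralClosure.IntegralRestrict
import Mathlib.RingTheory.Flat.Tensor

/-! Olivier's theorem: local weakly etale maps out of strictly henselian rings are bijective. -/

set_option autoImplicit false
set_option linter.style.haveILetI false
universe u

open TensorProduct

namespace Groth.L27.Olivier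

theorem exists_denominator (A V K B : Type u) [CommRing A] [CommRing V] [IsDomain V] [Field K]
    [Algebra V K] [IsFractionRing V K] [Algebra A V] [Algebra A K] [IsScalarTower A V K] [CommRing B]
    [Algebra A B] (z : K ⊗[A] B) :
    ∃ (a : V) (y : V ⊗[A] B), a ≠ 0 ∧ (algebraMap V K a ⊗ₜ (1 : B)) * z =
      Algebra.TensorProduct.map (IsScalarTower.toAlgHom A V K) (AlgHom.id A B) y := by
  induction z using TensorProduct.induction_on with
  | zero => exact ⟨1, 0, one_ne_zero, by simp⟩
  | tmul k b =>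
    obtain ⟨⟨w, s⟩, hs⟩ := IsLocalization.surj (nonZeroDivisors V) k
    refine ⟨s, w ⊗ₜ b, nonZeroDivisors.ne_zero s.2, ?_⟩
    simp [← hs, mul_comm]
  | add z z' hz hz' =>
    obtain ⟨a, y, ha, h⟩ := hz
    obtain ⟨a', y', ha', h'⟩ := hz'
    refine ⟨a * a', (a' ⊗ₜ 1) * y + (a ⊗ₜ 1) * y', mul_ne_zero ha ha', ?_⟩
    rw [map_add, map_mul (Algebra.TensorProduct.map _ _), map_mul (Algebra.TensorProduct.map _ _),
      ← h, ← h']
    simp only [Algebra.TensorProduct.map_tmul, IsScalarTower.toAlgHom_apply, AlgHom.coe_id, id_eq, map_mul]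
    rw [show (algebraMap V K a * algebraMap V K a') ⊗ₜ[A] (1 : B) =
      (algebraMap V K a ⊗ₜ[A] 1) * (algebraMap V K a' ⊗ₜ[A] 1) by simp]
    ring

theorem map_injective (A V K B : Type u) [CommRing A] [CommRing V] [CommRing K] [Algebra V K]
    [Algebra A V] [Algebra A K] [IsScalarTower A V K] [CommRing B] [Algebra A B] [Module.Flat A B]
    (h : Function.Injective (algebraMap V K)) :
    Function.Injective (Algebra.TensorProduct.map (IsScalarTower.toAlgHom A V K) (AlgHom.id A B)) :=
  Module.Flat.rTensor_preserves_injective_linearMap (M := B) (IsScalarTower.toAlgHom A V K).toLinearMap h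

set_option maxHeartbeats 400000 in
theorem idempotent_mem (A V K B : Type u) [CommRing A] [CommRing V] [IsDomain V] [ValuationRing V]
    [Field K] [IsAlgClosed K] [Algebra V K] [IsFractionRing V K] [Algebra A V] [Algebra A K]
    [IsScalarTower A V K] [CommRing B] [Algebra A B] [Algebra.WeaklyEtale A B] (e : K ⊗[A] B)
    (he : IsIdempotentElem e) :
    ∃ y, Algebra.TensorProduct.map (IsScalarTower.toAlgHom A V K) (AlgHom.id A B) y = e := by
  let ι := Algebra.TensorProduct.map (IsScalarTower.toAlgHom A V K) (AlgHom.id A B)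
  have hinj : Function.Injective ι := map_injective A V K B (IsFractionRing.injective V K)
  obtain ⟨a, y, ha, hy⟩ := exists_denominator A V K B e
  let I : Ideal (V ⊗[A] B) :=
    { carrier := {t | ι t * e ∈ ι.range}
      zero_mem' := ⟨0, by simp⟩
      add_mem' := fun {p q} hp hq => by
        simp only [Set.mem_ofPred_eq, map_add, add_mul] at *
        exact add_mem hp hq
      smul_mem' := fun c x hx => by
        simp only [Set.mem_ofPred_eq, smul_eq_mul, map_mul, mul_assoc] at *
        exact mul_mem ⟨c, rfl⟩ hx }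
  suffices hI : I = ⊤ by
    obtain ⟨t, ht⟩ : (1 : V ⊗[A] B) ∈ I := hI ▸ trivial
    exact ⟨t, ht.trans (by rw [map_one, one_mul])⟩
  by_contra hne
  obtain ⟨n, hn, hIn⟩ := Ideal.exists_le_maximal _ hne
  haveI := hn.isPrime
  let p := n.comap (algebraMap V (V ⊗[A] B))
  let Vp := Localization.AtPrime p
  let R := Localization.AtPrime n
  letI : Algebra Vp R := (Localization.localRingHom p n (algebraMap V (V ⊗[A] B)) rfl).toAlgebra
  haveI : IsLocalHom (algebraMap Vp R) := Localization.isLocalHom_localRingHom p n _ rfl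
  haveI : IsScalarTower V Vp R := .of_algebraMap_eq fun v => by
    rw [RingHom.algebraMap_toAlgebra, Localization.localRingHom_to_map, ← IsScalarTower.algebraMap_apply]
  haveI := Groth.L20.weaklyEtale_of_isLocalization (A := V) (B := V ⊗[A] B) p.primeCompl n.primeCompl Vp R
  have hle : p.primeCompl ≤ nonZeroDivisors V := fun x hx =>
    mem_nonZeroDivisors_of_ne_zero fun h => hx (h ▸ p.zero_mem)
  haveI : IsDomain Vp := IsLocalization.isDomain_of_le_nonZeroDivisors _ hle
  letI : Algebra Vp K := (IsLocalization.lift (M := p.primeCompl) (g := algebraMap V K) fun s =>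
    isUnit_iff_ne_zero.mpr (by
      rw [ne_eq, map_eq_zero_iff _ (IsFractionRing.injective V K)]
      exact nonZeroDivisors.ne_zero (hle s.2))).toAlgebra
  haveI : IsScalarTower V Vp K := .of_algebraMap_eq fun v => (IsLocalization.lift_eq _ v).symm
  haveI : IsFractionRing Vp K :=
    IsFractionRing.isFractionRing_of_isDomain_of_isLocalization p.primeCompl Vp K
  haveI : ValuationRing Vp := by
    refine ValuationRing.iff_isInteger_or_isInteger Vp K |>.mpr fun x => ?_
    rcases ValuationRing.isInteger_or_isInteger V x with ⟨v, hv⟩ | ⟨v, hv⟩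
    · exact Or.inl ⟨algebraMap V Vp v, by rw [← IsScalarTower.algebraMap_apply]; exact hv⟩
    · exact Or.inr ⟨algebraMap V Vp v, by rw [← IsScalarTower.algebraMap_apply]; exact hv⟩
  haveI := isDomain_of_valuationRing Vp R K
  have hyy : y * y = (a ⊗ₜ 1) * y := hinj (by
    rw [map_mul, map_mul, ← hy]
    simp only [ι, Algebra.TensorProduct.map_tmul, IsScalarTower.toAlgHom_apply, map_one]
    linear_combination ((algebraMap V K a) ⊗ₜ[A] (1 : B)) * (algebraMap V K a ⊗ₜ[A] (1 : B)) * he.eq)
  have hu : IsUnit (algebraMap V K a ⊗ₜ[A] (1 : B)) :=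
    (isUnit_iff_ne_zero.mpr ((map_ne_zero_iff _ (IsFractionRing.injective V K)).mpr ha)).map
      (Algebra.TensorProduct.includeLeft : K →ₐ[A] K ⊗[A] B)
  have hy' : algebraMap _ R (y * (y - a ⊗ₜ 1)) = 0 := by rw [mul_sub, hyy, mul_comm y, sub_self, map_zero]
  rw [map_mul, mul_eq_zero] at hy'
  rcases hy' with h0 | h0
  · obtain ⟨⟨s, hs⟩, hsy⟩ := (IsLocalization.map_eq_zero_iff n.primeCompl R y).mp h0
    refine hs (hIn ⟨0, ?_⟩)
    rw [map_zero, eq_comm]
    refine hu.mul_right_eq_zero.mp ?_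
    rw [mul_left_comm, hy, ← map_mul]
    exact (congrArg ι hsy).trans (map_zero ι)
  · obtain ⟨⟨s, hs⟩, hsy⟩ := (IsLocalization.map_eq_zero_iff n.primeCompl R _).mp h0
    refine hs (hIn ⟨s, ?_⟩)
    refine hu.mul_left_cancel ?_
    rw [mul_left_comm (algebraMap V K a ⊗ₜ[A] (1 : B)) (ι s), hy]
    have := congrArg ι hsy
    simp only [map_mul, map_sub, map_zero, mul_sub, sub_eq_zero] at this
    rw [this, mul_comm]
    exact congrArg (ι s * ·) (by simp [ι])

/-- The submodule `C ⊗ B` of `K ⊗ B`. -/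
noncomputable def M {A K B : Type u} [CommRing A] [AddCommGroup K] [Module A K] [AddCommGroup B]
    [Module A B] (C : Submodule A K) : Submodule A (K ⊗[A] B) :=
  LinearMap.range (C.subtype.rTensor B)

theorem M_mono {A K B : Type u} [CommRing A] [AddCommGroup K] [Module A K] [AddCommGroup B]
    [Module A B] {C D : Submodule A K} (h : C ≤ D) : M (B := B) C ≤ M D := by
  rintro _ ⟨x, rfl⟩
  refine ⟨(Submodule.inclusion h).rTensor B x, ?_⟩
  rw [← LinearMap.comp_apply, ← LinearMap.rTensor_comp]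
  rfl

theorem M_inf {A K B : Type u} [CommRing A] [AddCommGroup K] [Module A K] [AddCommGroup B]
    [Module A B] [Module.Flat A B] (C D : Submodule A K) {z : K ⊗[A] B} (hC : z ∈ M C) (hD : z ∈ M D) :
    z ∈ M (C ⊓ D) := by
  obtain ⟨y, rfl⟩ := hC
  obtain ⟨w, hw⟩ := hD
  let incl : (C ⊓ D : Submodule A K) →ₗ[A] C := Submodule.inclusion inf_le_left
  have hex : Function.Exact incl (D.mkQ ∘ₗ C.subtype) := by
    intro c
    rw [LinearMap.comp_apply, Submodule.mkQ_apply, Submodule.Quotient.mk_eq_zero]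
    exact ⟨fun h => ⟨⟨c, c.2, h⟩, rfl⟩, by rintro ⟨x, rfl⟩; exact x.2.2⟩
  have h0 : (D.mkQ ∘ₗ C.subtype).rTensor B y = 0 := by
    rw [LinearMap.rTensor_comp, LinearMap.comp_apply, ← hw, ← LinearMap.comp_apply,
      ← LinearMap.rTensor_comp, show D.mkQ ∘ₗ D.subtype = 0 from LinearMap.ext fun d =>
        (Submodule.Quotient.mk_eq_zero D).mpr d.2]
    simp
  obtain ⟨x, rfl⟩ := (Module.Flat.rTensor_exact B hex y).mp h0
  refine ⟨x, ?_⟩
  rw [← LinearMap.comp_apply, ← LinearMap.rTensor_comp]
  rfl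

theorem M_finset_inf {A K B : Type u} [CommRing A] [AddCommGroup K] [Module A K] [AddCommGroup B]
    [Module A B] [Module.Flat A B] {ι : Type*} (t : Finset ι) (C : ι → Submodule A K) {z : K ⊗[A] B}
    (h : ∀ i ∈ t, z ∈ M (C i)) : z ∈ M (t.inf C) := by
  classical
  induction t using Finset.induction_on with
  | empty =>
    obtain ⟨w, hw⟩ := LinearMap.rTensor_surjective B
      (g := (⊤ : Submodule A K).subtype) (fun x => ⟨⟨x, trivial⟩, rfl⟩) z
    exact ⟨w, hw⟩
  | insert i s hi ih =>
    rw [Finset.inf_insert]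
    exact M_inf _ _ (h i (Finset.mem_insert_self i s)) (ih fun j hj => h j (Finset.mem_insert_of_mem hj))

/-- An idempotent of the generic fibre is integral. -/
theorem idempotent_mem_integralClosure (A K B : Type u) [CommRing A] [Field K] [IsAlgClosed K]
    [Algebra A K] [CommRing B] [Algebra A B] [Algebra.WeaklyEtale A B] (e : K ⊗[A] B)
    (he : IsIdempotentElem e) :
    e ∈ M (Subalgebra.toSubmodule (integralClosure A K)) := by
  classical
  let 𝒲 := {W : ValuationSubring K // ∀ a, algebraMap A K a ∈ W}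
  have hS : ∀ W : 𝒲, ∃ S : Finset K, (∀ x ∈ S, x ∈ W.1) ∧ e ∈ M (Submodule.span A (S : Set K)) := by
    intro W
    letI : Algebra A W.1 := ((algebraMap A K).codRestrict W.1.toSubring W.2).toAlgebra
    haveI : IsScalarTower A W.1 K := .of_algebraMap_eq fun _ => rfl
    obtain ⟨y, hy⟩ := idempotent_mem A W.1 K B e he
    obtain ⟨S₀, rfl⟩ := TensorProduct.exists_finset y
    refine ⟨S₀.image fun p => (p.1 : K), fun x hx => ?_, ?_⟩
    · obtain ⟨p, -, rfl⟩ := Finset.mem_image.mp hx
      exact p.1.2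
    · rw [← hy, map_sum]
      exact Submodule.sum_mem _ fun p hp => ⟨(⟨(p.1 : K), Submodule.subset_span
        (Finset.mem_coe.mpr (Finset.mem_image.mpr ⟨p, hp, rfl⟩))⟩ :
          Submodule.span A ((S₀.image fun q => (q.1 : K) : Finset K) : Set K)) ⊗ₜ p.2, rfl⟩
  choose S hSW hSe using hS
  obtain ⟨t, ht⟩ : ∃ t : Finset 𝒲, ∀ W : 𝒲, ∃ i ∈ t, ∀ x ∈ S i, x ∈ W.1 := by
    by_contra hno
    push Not at hno
    let bad : 𝒲 → Set 𝒲 := fun i => {W | ∃ x ∈ S i, x ∉ W.1}
    haveI : (Filter.generate (Set.range bad)).NeBot := Filter.generate_neBot_iff.mpr fun T hT hfin => by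
      haveI := hfin.fintype
      choose g hg using fun b : T => hT b.2
      obtain ⟨W, hW⟩ := hno (Finset.univ.image g)
      exact ⟨W, fun b hb => by
        rw [show b = bad (g ⟨b, hb⟩) from (hg ⟨b, hb⟩).symm]
        exact hW _ (Finset.mem_image.mpr ⟨⟨b, hb⟩, Finset.mem_univ _, rfl⟩)⟩
    let U := Ultrafilter.of (Filter.generate (Set.range bad))
    let W₀ : ValuationSubring K :=
      { carrier := {x | ∀ᶠ W : 𝒲 in (U : Filter 𝒲), x ∈ W.1}
        zero_mem' := Filter.Eventually.of_forall fun W => zero_mem W.1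
        one_mem' := Filter.Eventually.of_forall fun W => one_mem W.1
        add_mem' := fun ha hb => ha.mp (hb.mono fun W h h' => add_mem h' h)
        mul_mem' := fun ha hb => ha.mp (hb.mono fun W h h' => mul_mem h' h)
        neg_mem' := fun ha => ha.mono fun W h => neg_mem h
        mem_or_inv_mem' := fun x =>
          Ultrafilter.eventually_or.mp (Filter.Eventually.of_forall fun W => W.1.mem_or_inv_mem x) }
    let W₁ : 𝒲 := ⟨W₀, fun a => Filter.Eventually.of_forall fun W => W.2 a⟩
    have h1 : ∀ᶠ W : 𝒲 in (U : Filter 𝒲), ∀ x ∈ S W₁, x ∈ W.1 :=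
      (Filter.eventually_all_finset _).mpr fun x hx => hSW W₁ x hx
    have h2 : bad W₁ ∈ (U : Filter 𝒲) := Ultrafilter.of_le _
      (Filter.mem_generate_of_mem ⟨W₁, rfl⟩)
    obtain ⟨W, hW1, x, hx, hxW⟩ := Filter.nonempty_of_mem (Filter.inter_mem h1 h2)
    exact hxW (hW1 x hx)
  let C : 𝒲 → Submodule A K := fun i => ⨅ W : {W : 𝒲 // ∀ x ∈ S i, x ∈ W.1},
    { carrier := W.1.1
      zero_mem' := zero_mem W.1.1
      add_mem' := add_mem
      smul_mem' := fun a x hx => by rw [Algebra.smul_def]; exact mul_mem (W.1.2 a) hx }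
  have hC : e ∈ M (t.inf C) := M_finset_inf t C fun i _ => M_mono (Submodule.span_le.mpr fun x hx =>
    (Submodule.mem_iInf _).mpr fun W => W.2 x hx) (hSe i)
  refine M_mono (fun x hx => ?_) hC
  have hint : x ∈ (integralClosure (Subring.closure (Set.range (algebraMap A K))) K).toSubring := by
    rw [← iInf_valuationSubring_superset, Subring.mem_iInf]
    intro V
    obtain ⟨i, hi, hSi⟩ := ht ⟨V.1, fun a => V.2 ⟨a, rfl⟩⟩
    exact (Submodule.mem_iInf _).mp ((Finset.inf_le hi : t.inf C ≤ C i) hx)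
      ⟨⟨V.1, fun a => V.2 ⟨a, rfl⟩⟩, hSi⟩
  obtain ⟨f, hf, hfx⟩ := hint
  have hcl : Subring.closure (Set.range (algebraMap A K)) = (algebraMap A K).range :=
    Subring.closure_eq (algebraMap A K).range
  obtain ⟨F, hFf, -, hF⟩ := Polynomial.lifts_and_natDegree_eq_and_monic
    (f := algebraMap A K) (p := f.map (algebraMap _ K)) ((Polynomial.lifts_iff_coeff_lifts _).mpr fun n => by
      rw [Polynomial.coeff_map]
      exact hcl.le (f.coeff n).2) (hf.map _)
  exact ⟨F, hF, by rw [← Polynomial.eval_map, hFf, Polynomial.eval_map]; exact hfx⟩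

end Groth.L27.Olivier
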