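import Groth.Agent.L27.OlivierMain
import Groth.Agent.L27.StrictCover
import Groth.Agent.L27.IndEtalePerm

/-! Characterisation and existence of w-contractible rings. -/

set_option autoImplicit false
set_option linter.style.haveILetI false
universe u

open Topology TensorProduct

namespace Groth.L27.WContractible

theorem bijective_of_weaklyEtale {A B : Type u} [CommRing A] [CommRing B] [Algebra A B]
    [Algebra.WeaklyEtale A B] (q : PrimeSpectrum B)
    (h : EtCoh.IsStrictlyHenselianLocalRing (Localization.AtPrime (q.asIdeal.comap (algebraMap A B)))) :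
    Function.Bijective (Localization.localRingHom (q.asIdeal.comap (algebraMap A B)) q.asIdeal
      (algebraMap A B) rfl) := by
  obtain ⟨h1, h2⟩ := h
  let Ap := Localization.AtPrime (q.asIdeal.comap (algebraMap A B))
  let Bq := Localization.AtPrime q.asIdeal
  letI : Algebra Ap Bq := (Localization.localRingHom (q.asIdeal.comap (algebraMap A B)) q.asIdeal
    (algebraMap A B) rfl).toAlgebra
  haveI : IsLocalHom (algebraMap Ap Bq) := Localization.isLocalHom_localRingHom _ _ _ rfl
  haveI : IsScalarTower A Ap Bq := .of_algebraMap_eq fun a => by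
    rw [RingHom.algebraMap_toAlgebra, Localization.localRingHom_to_map, ← IsScalarTower.algebraMap_apply]
  haveI := Groth.L20.weaklyEtale_of_isLocalization (A := A) (B := B)
    (q.asIdeal.comap (algebraMap A B)).primeCompl q.asIdeal.primeCompl Ap Bq
  exact Olivier.bijective_algebraMap Ap Bq

theorem isWContractible_of_conditions (A : Type u) [CommRing A]
    (h1 : ProEtW.IsWLocal (PrimeSpectrum A))
    (h2 : ExtremallyDisconnected (ConnectedComponents (PrimeSpectrum A)))
    (h3 : ∀ (m : Ideal A) [m.IsMaximal], EtCoh.IsStrictlyHenselianLocalRing (Localization.AtPrime m)) :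
    EtPBC.IsWContractible A := fun B _ _ hff hB =>
  RetractionsZariski.nonempty_retraction_of_bijective A B h1 h2 hff fun q hq => by
    haveI : (q.asIdeal.comap (algebraMap A B)).IsMaximal :=
      (PrimeSpectrum.isClosed_singleton_iff_isMaximal _).mp hq
    exact bijective_of_weaklyEtale q (h3 _)

theorem hasIndEtaleRetractions (A : Type u) [CommRing A] (h : EtPBC.IsWContractible A) :
    ProEtW.HasIndEtaleRetractions A := fun B _ _ hff hB => h B hff (IndEtale.weaklyEtale A B hB)

theorem conditions_of_retractions (A : Type u) [CommRing A] (h : ProEtW.HasIndEtaleRetractions A) :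
    ProEtW.IsWLocal (PrimeSpectrum A) ∧
      ExtremallyDisconnected (ConnectedComponents (PrimeSpectrum A)) ∧
      ∀ (m : Ideal A) [m.IsMaximal], EtCoh.IsStrictlyHenselianLocalRing (Localization.AtPrime m) := by
  obtain ⟨h1, h2⟩ := (RetractionsZariski.iff_wLocal_extrDisc A).mp fun B _ _ hff hB =>
    h B hff (IndZariski.isIndEtale A B hB)
  exact ⟨h1, h2, fun m hm => Retractions.strictlyHenselian A (fun B _ _ hff hB =>
    h B hff (IndEtale.of_etale A B)) m⟩

theorem iff_conditions (A : Type u) [CommRing A] : EtPBC.IsWContractible A ↔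
    (ProEtW.IsWLocal (PrimeSpectrum A) ∧
      ExtremallyDisconnected (ConnectedComponents (PrimeSpectrum A)) ∧
      ∀ (m : Ideal A) [m.IsMaximal], EtCoh.IsStrictlyHenselianLocalRing (Localization.AtPrime m)) :=
  ⟨fun h => conditions_of_retractions A (hasIndEtaleRetractions A h),
    fun ⟨h1, h2, h3⟩ => isWContractible_of_conditions A h1 h2 h3⟩

theorem iff_hasIndEtaleRetractions (A : Type u) [CommRing A] :
    EtPBC.IsWContractible A ↔ ProEtW.HasIndEtaleRetractions A :=
  ⟨hasIndEtaleRetractions A, fun h =>
    let ⟨h1, h2, h3⟩ := conditions_of_retractions A h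
    isWContractible_of_conditions A h1 h2 h3⟩

theorem flat_of_surjective_comp {R S M : Type u} [CommRing R] [CommRing S] [CommRing M] (π : R →+* S)
    (hπ : Function.Surjective π) (μ : S →+* M) (h : (μ.comp π).Flat) : μ.Flat := by
  letI : Algebra R S := π.toAlgebra
  letI : Algebra S M := μ.toAlgebra
  letI : Algebra R M := (μ.comp π).toAlgebra
  haveI : IsScalarTower R S M := .of_algebraMap_eq' rfl
  haveI : Module.Flat R M := h
  refine Groth.L20.flat_of_flat_of_flat_lmul (R := R) (RingHom.Flat.of_bijective ⟨?_, fun s => ⟨s ⊗ₜ 1, by simp⟩⟩)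
  have hsurj : Function.Surjective (algebraMap S (S ⊗[R] S)) := fun z => by
    induction z using TensorProduct.induction_on with
    | zero => exact ⟨0, map_zero _⟩
    | add x y hx hy =>
      obtain ⟨x, rfl⟩ := hx
      obtain ⟨y, rfl⟩ := hy
      exact ⟨x + y, map_add _ x y⟩
    | tmul x y =>
      obtain ⟨r, rfl⟩ := hπ y
      refine ⟨x * π r, ?_⟩
      rw [Algebra.TensorProduct.algebraMap_apply, Algebra.algebraMap_self, RingHom.id_apply, mul_comm,
        show π r * x = r • x from (Algebra.smul_def r x).symm, TensorProduct.smul_tmul, Algebra.smul_def,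
        mul_one]
      rfl
  intro a b hab
  obtain ⟨a, rfl⟩ := hsurj a
  obtain ⟨b, rfl⟩ := hsurj b
  simp only [AlgHom.toRingHom_eq_coe, RingHom.coe_coe, Algebra.TensorProduct.algebraMap_apply,
    Algebra.TensorProduct.lmul'_apply_tmul, Algebra.algebraMap_self, RingHom.id_apply, mul_one] at hab
  rw [hab]

open RetractionsZariski in
theorem exists_cover (A : Type u) [CommRing A] :
    ∃ (D : Type u) (_ : CommRing D) (_ : Algebra A D),
      Module.FaithfullyFlat A D ∧ EtPBC.IsIndEtale A D ∧ EtPBC.IsWContractible D := by
  obtain ⟨C, _, _, hffC, hC, hCl, himg, hsh⟩ := StrictCover.exists_strict_wLocal A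
  haveI := hCl.1
  haveI : T2Space (ConnectedComponents (PrimeSpectrum C)) := ProfinitePullback.t2_components
  let X := ConnectedComponents (PrimeSpectrum C)
  have hproj : CompactT2.Projective (StoneCech (Disc X)) := StoneCech.projective
  haveI := CompactT2.Projective.extremallyDisconnected hproj
  let idf : Disc X → X := fun x => x
  have hid : Continuous idf := continuous_of_discreteTopology
  let g : C(StoneCech (Disc X), X) := ⟨stoneCechExtend hid, continuous_stoneCechExtend hid⟩
  obtain ⟨D, _, _, e, hD, -, hemb, hrange⟩ :=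
    ClopenQuotient.exists_realizing_profinite C (StoneCech (Disc X)) g
  letI : Algebra A D := ((algebraMap C D).comp (algebraMap A C)).toAlgebra
  haveI : IsScalarTower A C D := .of_algebraMap_eq' rfl
  have hAD : EtPBC.IsIndEtale A D := IndEtale.trans A C D hC (IndZariski.isIndEtale C D hD)
  let hh : PrimeSpectrum D ≃ₜ ProfinitePullback.P g :=
    hemb.toHomeomorph.trans (Homeomorph.setCongr hrange)
  have hwl := (ProfinitePullback.wLocal_P g hCl).1
  haveI := IndEtale.flat A D hAD
  refine ⟨D, inferInstance, inferInstance, Module.FaithfullyFlat.of_comap_surjective fun z => ?_, hAD,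
    ?_⟩
  rotate_left
  · haveI : T2Space (ConnectedComponents (PrimeSpectrum D)) := e.symm.t2Space
    have hpD : CompactT2.Projective (ConnectedComponents (PrimeSpectrum D)) := projective_of_homeo e hproj
    refine isWContractible_of_conditions D (isWLocal_of_homeo hh hwl)
      (CompactT2.Projective.extremallyDisconnected hpD) fun m hm => ?_
    haveI := hm.isPrime
    let q : PrimeSpectrum D := ⟨m, hm.isPrime⟩
    have hq : IsClosed ({q} : Set (PrimeSpectrum D)) :=
      (PrimeSpectrum.isClosed_singleton_iff_isMaximal _).mpr hm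
    have hq' : IsClosed ({hh q} : Set (ProfinitePullback.P g)) := by
      rw [← Set.image_singleton, hh.isClosed_image]
      exact hq
    have hmax : (m.comap (algebraMap C D)).IsMaximal :=
      (PrimeSpectrum.isClosed_singleton_iff_isMaximal _).mp
        ((ProfinitePullback.isClosed_singleton_iff_P g _).mp hq')
    exact StrictCover.strictlyHenselian_of_bijective q (m.comap (algebraMap C D)) rfl
      (IdentifiesLocalRings.of_indZariski hD) (hsh _)
  · obtain ⟨w, -, hw⟩ := (himg ▸ Set.mem_univ z : z ∈ PrimeSpectrum.comap (algebraMap A C) '' _)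
    obtain ⟨y, hy⟩ : (w, stoneCechUnit (α := Disc X) (ConnectedComponents.mk w)) ∈
        Set.range (fun y : PrimeSpectrum D =>
          (PrimeSpectrum.comap (algebraMap C D) y, e (ConnectedComponents.mk y))) := by
      rw [hrange]
      exact (stoneCechExtend_stoneCechUnit hid _).symm
    refine ⟨y, ?_⟩
    rw [IsScalarTower.algebraMap_eq A C D, PrimeSpectrum.comap_comp_apply,
      show PrimeSpectrum.comap (algebraMap C D) y = w from congrArg Prod.fst hy, hw]

theorem exists_indEtale_enlargement (A B : Type u) [CommRing A] [CommRing B] [Algebra A B]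
    [Algebra.WeaklyEtale A B] (halg : ProEtW.AlgebraicResidueExtensions A B) :
    ∃ (B' : Type u) (_ : CommRing B') (_ : Algebra B B') (_ : Algebra A B') (_ : IsScalarTower A B B'),
      Module.FaithfullyFlat B B' ∧ EtPBC.IsIndEtale B B' ∧ EtPBC.IsIndEtale A B' := by
  obtain ⟨C, D, _, _, _, _, _, _, _, _, hffC, hAC, hffD, hBD, hCl, hDl, hCD, hcl, -, -, hsh⟩ :=
    StrictCover.exists_square A B halg
  haveI : Algebra.WeaklyEtale B D := IndEtale.weaklyEtale B D hBD
  haveI : Algebra.WeaklyEtale A C := IndEtale.weaklyEtale A C hAC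
  haveI : Algebra.WeaklyEtale A D := Algebra.WeaklyEtale.trans A B D
  haveI : Module.Flat C D :=
    Groth.L20.flat_of_flat_of_flat_lmul (R := A) (Algebra.WeaklyEtale.flat_lmul' A C)
  haveI : Algebra.WeaklyEtale C D := by
    refine ⟨inferInstance, ?_⟩
    let π : D ⊗[A] D →+* D ⊗[C] D :=
      (Algebra.TensorProduct.mapOfCompatibleSMul C A C D D).toRingHom
    have hπ : (Algebra.TensorProduct.lmul' C (S := D)).toRingHom.comp π =
        (Algebra.TensorProduct.lmul' A (S := D)).toRingHom := RingHom.ext fun x => by
      induction x using TensorProduct.induction_on with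
      | zero => simp
      | tmul a b => simp [π]
      | add a b ha hb => rw [map_add, map_add, ha, hb]
    exact flat_of_surjective_comp π (Algebra.TensorProduct.mapOfCompatibleSMul_surjective C A C D D) _
      (hπ ▸ Algebra.WeaklyEtale.flat_lmul' A D)
  have hid : EtPBC.IdentifiesLocalRings C D := fun q => by
    obtain ⟨n, ⟨hn, hqn⟩, -⟩ := hDl.2.2 q
    haveI : (n.asIdeal.comap (algebraMap C D)).IsMaximal :=
      (PrimeSpectrum.isClosed_singleton_iff_isMaximal _).mp (hCD.2 n hn)
    exact IdentifiesLocalRings.bijective_of_le ((PrimeSpectrum.le_iff_specializes _ _).mpr hqn)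
      (bijective_of_weaklyEtale n (hsh _))
  exact ⟨D, inferInstance, inferInstance, inferInstance, inferInstance, hffD, hBD,
    IndEtale.trans A C D hAC (IndZariski.isIndEtale C D
      (WLocalIndZariski.isIndZariski C D hid hCl hDl hCD))⟩

theorem algebraicResidueExtensions (A B : Type u) [CommRing A] [CommRing B] [Algebra A B]
    [Algebra.WeaklyEtale A B] : ProEtW.AlgebraicResidueExtensions A B := by
  intro q hq
  let p := q.comap (algebraMap A B)
  let E := p.ResidueField ⊗[A] B
  let incl : B →ₐ[A] E := Algebra.TensorProduct.includeRight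
  obtain ⟨t, htp, htq⟩ := StrictCover.exists_prime_tensor (A := A) (B := p.ResidueField) (C := B)
    (⟨⊥, Ideal.isPrime_bot⟩) ⟨q, hq⟩ (PrimeSpectrum.ext (Ideal.ext fun a => by
      simp only [PrimeSpectrum.comap_asIdeal, Ideal.mem_comap, Ideal.mem_bot,
        Ideal.algebraMap_residueField_eq_zero]
      rfl))
  let L := Localization.AtPrime t.asIdeal
  haveI : Algebra.WeaklyEtale E L := Groth.L20.weaklyEtale_isLocalization t.asIdeal.primeCompl L
  haveI : Algebra.WeaklyEtale p.ResidueField L := Algebra.WeaklyEtale.trans p.ResidueField E L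
  letI : Field L := (Olivier.isField_of_local p.ResidueField L).toField
  haveI : Algebra.IsSeparable p.ResidueField L := Groth.Agent.S0426.result
  let χ : B →+* L := (algebraMap E L).comp incl.toRingHom
  have hker : RingHom.ker χ = q := by
    have hmax : IsLocalRing.maximalIdeal L = ⊥ := IsLocalRing.isField_iff_maximalIdeal_eq.mp (Field.toIsField L)
    have : RingHom.ker (algebraMap E L) = t.asIdeal := by
      rw [RingHom.ker_eq_comap_bot, ← hmax]
      exact IsLocalization.AtPrime.comap_maximalIdeal L t.asIdeal
    rw [show RingHom.ker χ = Ideal.comap incl.toRingHom (RingHom.ker (algebraMap E L)) from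
      (RingHom.comap_ker _ _).symm, this]
    exact congrArg PrimeSpectrum.asIdeal htq
  let j : B ⧸ q →+* L := Ideal.Quotient.lift q χ fun x hx => by rwa [← hker, RingHom.mem_ker] at hx
  have hj : Function.Injective j := by
    rw [injective_iff_map_eq_zero]
    intro y hy
    obtain ⟨y, rfl⟩ := Ideal.Quotient.mk_surjective y
    exact Ideal.Quotient.eq_zero_iff_mem.mpr (hker.le hy)
  have hcomm : j.comp (algebraMap (A ⧸ p) (B ⧸ q)) = algebraMap (A ⧸ p) L := by
    refine Ideal.Quotient.ringHom_ext (RingHom.ext fun a => ?_)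
    change χ (algebraMap A B a) = algebraMap (A ⧸ p) L (Ideal.Quotient.mk p a)
    rw [IsScalarTower.algebraMap_apply (A ⧸ p) p.ResidueField L, IsScalarTower.algebraMap_apply p.ResidueField E L, show (algebraMap (A ⧸ p) p.ResidueField) (Ideal.Quotient.mk p a) =
      algebraMap A p.ResidueField a from (IsScalarTower.algebraMap_apply A (A ⧸ p) p.ResidueField a).symm]
    exact congrArg (algebraMap E L) ((incl.commutes a).trans (IsScalarTower.algebraMap_apply A p.ResidueField E a))
  let J : (B ⧸ q) →ₐ[A ⧸ p] L := { j with commutes' := fun r => RingHom.congr_fun hcomm r }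
  haveI : Algebra.IsAlgebraic (A ⧸ p) L :=
    ⟨fun x => (IsFractionRing.isAlgebraic_iff (A ⧸ p) p.ResidueField L).mpr (Algebra.IsAlgebraic.isAlgebraic x)⟩
  exact ⟨fun x => (isAlgebraic_algHom_iff J hj).mp (Algebra.IsAlgebraic.isAlgebraic (J x))⟩

end Groth.L27.WContractible
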