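import Groth.Agent.L06.Spectral
import Mathlib.Topology.Sheaves.Sheafify
import Mathlib.Topology.Sheaves.Functors
import Mathlib.Topology.Sheaves.LocalPredicate
import Mathlib.Topology.Spectral.Basic
import Mathlib.Topology.LocallyConstant.Basic
import Mathlib.Topology.Spectral.ConstructibleTopology

/-! # Sections of a sheaf of sets on a spectral space over a closed subset -/

set_option autoImplicit false
set_option linter.style.haveILetI false
set_option backward.defeqAttrib.useBackward true
set_option backward.isDefEq.respectTransparency false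
set_option backward.isDefEq.respectTransparency.types false

universe u

open CategoryTheory CategoryTheory.Limits Opposite TopologicalSpace Topology

noncomputable section

namespace Groth.L27.TopSets

variable {X Y : TopCat.{u}}

/-- The sections over an open. -/
abbrev Sect (F : TopCat.Sheaf (Type u) X) (U : Opens X) : Type u := F.obj.obj (op U)

/-- Restriction. -/
abbrev res (F : TopCat.Sheaf (Type u) X) {U V : Opens X} (h : V ≤ U) (s : Sect F U) : Sect F V :=
  F.obj.map (homOfLE h).op s

/-- The germ. -/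
abbrev germ (F : TopCat.Sheaf (Type u) X) {U : Opens X} (x : X) (hx : x ∈ U) (s : Sect F U) :
    TopCat.Presheaf.stalk (C := Type u) (X := X) F.obj x :=
  TopCat.Presheaf.germ (C := Type u) (X := X) F.obj U x hx s

theorem germ_res (F : TopCat.Sheaf (Type u) X) {U V : Opens X} (h : V ≤ U) (x : X) (hx : x ∈ V)
    (s : Sect F U) : germ F x hx (res F h s) = germ F x (h hx) s :=
  TopCat.Presheaf.germ_res_apply (C := Type u) (X := X) F.obj (homOfLE h) x hx s

/-- The locus where two sections have the same germ is open. -/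
theorem isOpen_eqLocus (F : TopCat.Sheaf (Type u) X) {U V : Opens X} (s : Sect F U) (t : Sect F V) :
    IsOpen {x : X | ∃ (hU : x ∈ U) (hV : x ∈ V), germ F x hU s = germ F x hV t} := by
  rw [isOpen_iff_forall_mem_open]
  rintro x ⟨hU, hV, h⟩
  obtain ⟨W, hxW, iU, iV, e⟩ := TopCat.Presheaf.germ_eq (C := Type u) (X := X) F.obj x hU hV s t h
  refine ⟨W, fun y hy => ⟨iU.le hy, iV.le hy, ?_⟩, W.2, hxW⟩
  exact ((germ_res F iU.le y hy s).symm.trans (congrArg (germ F y hy) e)).trans (germ_res F iV.le y hy t)

/-- Cospecialization. -/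
abbrev cosp (F : TopCat.Sheaf (Type u) X) {x z : X} (h : x ⤳ z) :
    TopCat.Presheaf.stalk (C := Type u) (X := X) F.obj z →
      TopCat.Presheaf.stalk (C := Type u) (X := X) F.obj x :=
  fun a => TopCat.Presheaf.stalkSpecializes (C := Type u) (X := X) F.obj h a

theorem cosp_germ (F : TopCat.Sheaf (Type u) X) {x z : X} (h : x ⤳ z) {U : Opens X} (hz : z ∈ U)
    (s : Sect F U) : cosp F h (germ F z hz s) = germ F x (h.mem_open U.isOpen hz) s :=
  congr($(TopCat.Presheaf.germ_stalkSpecializes (C := Type u) (X := X) F.obj hz h) s)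

variable (f : X ⟶ Y)

/-- The map of stalks along `u : F ⟶ f_* G`. -/
def stalkComp {F : TopCat.Sheaf (Type u) Y} {G : TopCat.Sheaf (Type u) X}
    (u : F ⟶ (TopCat.Sheaf.pushforward (Type u) f).obj G) (x : X) :
    TopCat.Presheaf.stalk (C := Type u) (X := Y) F.obj (f x) ⟶
      TopCat.Presheaf.stalk (C := Type u) (X := X) G.obj x :=
  (TopCat.Presheaf.stalkFunctor (Type u) (f x)).map u.hom ≫
    TopCat.Presheaf.stalkPushforward (Type u) f G.obj x

theorem stalkComp_germ {F : TopCat.Sheaf (Type u) Y} {G : TopCat.Sheaf (Type u) X}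
    (u : F ⟶ (TopCat.Sheaf.pushforward (Type u) f).obj G) (x : X) (U : Opens Y) (hx : f x ∈ U)
    (s : Sect F U) :
    stalkComp f u x (germ F (f x) hx s) =
      germ G (U := (Opens.map f).obj U) x hx (u.hom.app (op U) s) := by
  rw [stalkComp, ConcreteCategory.comp_apply]
  erw [TopCat.Presheaf.stalkFunctor_map_germ_apply]
  exact TopCat.Presheaf.stalkPushforward_germ_apply _ _ _ _ _ _ _

/-- A map identifying stalks. -/
def IsPullUnit {F : TopCat.Sheaf (Type u) Y} {G : TopCat.Sheaf (Type u) X}
    (u : F ⟶ (TopCat.Sheaf.pushforward (Type u) f).obj G) : Prop :=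
  ∀ x : X, Function.Bijective (stalkComp f u x)

theorem IsPullUnit.comp_iso {F : TopCat.Sheaf (Type u) Y} {G G' : TopCat.Sheaf (Type u) X}
    {u : F ⟶ (TopCat.Sheaf.pushforward (Type u) f).obj G} (hu : IsPullUnit f u) (c : G ⟶ G')
    [IsIso c] : IsPullUnit f (u ≫ (TopCat.Sheaf.pushforward (Type u) f).map c) := fun x => by
  have h : stalkComp f (u ≫ (TopCat.Sheaf.pushforward (Type u) f).map c) x =
      stalkComp f u x ≫ (TopCat.Presheaf.stalkFunctor (Type u) x).map c.hom := by
    refine TopCat.Presheaf.stalk_hom_ext _ fun U hU => ?_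
    ext s
    refine (stalkComp_germ f _ x U hU s).trans (Eq.symm ?_)
    refine (congrArg _ (stalkComp_germ f u x U hU s)).trans ?_
    exact TopCat.Presheaf.stalkFunctor_map_germ_apply (C := Type u) (X := X) ((Opens.map f).obj U) x hU c.hom
      (u.hom.app (op U) s)
  rw [h]
  have : IsIso c.hom := inferInstanceAs (IsIso ((sheafToPresheaf _ _).map c))
  exact (ConcreteCategory.bijective_of_isIso ((TopCat.Presheaf.stalkFunctor (Type u) x).map c.hom)).comp (hu x)

/-- The constructed adjunction. -/
abbrev adjC :=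
  Functor.sheafPullbackConstruction.sheafAdjunctionContinuous (Opens.map f) (Type u)
    (Opens.grothendieckTopology Y) (Opens.grothendieckTopology X)

theorem adjC_unit (G : TopCat.Sheaf (Type u) Y) :
    ((adjC f).unit.app G).hom =
      (TopCat.Presheaf.pullbackPushforwardAdjunction (Type u) f).unit.app G.obj ≫
        (TopCat.Presheaf.pushforward (Type u) f).map
          (toSheafify (Opens.grothendieckTopology X) ((TopCat.Presheaf.pullback (Type u) f).obj G.obj)) := by
  have h := Adjunction.map_restrictFullyFaithful_unit_app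
    (((Opens.map f).op.lanAdjunction (Type u)).comp
      (sheafificationAdjunction (Opens.grothendieckTopology X) (Type u)))
    (fullyFaithfulSheafToPresheaf (Opens.grothendieckTopology Y) (Type u)) (Functor.FullyFaithful.id _)
    (L := Functor.sheafPullbackConstruction.sheafPullback (Opens.map f) (Type u)
      (Opens.grothendieckTopology Y) (Opens.grothendieckTopology X))
    (R := (Opens.map f).sheafPushforwardContinuous (Type u)
      (Opens.grothendieckTopology Y) (Opens.grothendieckTopology X))
    (Iso.refl _) (Iso.refl _) G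
  refine h.trans ?_
  simp
  rfl

theorem isPullUnit_adjC (G : TopCat.Sheaf (Type u) Y) : IsPullUnit f ((adjC f).unit.app G) := fun x => by
  let P := (TopCat.Presheaf.pullback (Type u) f).obj G.obj
  have h : stalkComp f ((adjC f).unit.app G) x =
      TopCat.Presheaf.stalkPullbackHom (Type u) f G.obj x ≫
        (TopCat.Presheaf.stalkFunctor (Type u) x).map
          (toSheafify (Opens.grothendieckTopology X) P) := by
    refine TopCat.Presheaf.stalk_hom_ext _ fun U hU => ?_
    ext s
    refine (stalkComp_germ f _ x U hU s).trans (Eq.symm ?_)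
    have h1 := congr($(TopCat.Presheaf.germ_stalkPullbackHom (Type u) f G.obj x U hU) s)
    refine (congrArg _ h1).trans ?_
    refine (TopCat.Presheaf.stalkFunctor_map_germ_apply (C := Type u) (X := X) ((Opens.map f).obj U) x hU
      (toSheafify (Opens.grothendieckTopology X) P)
      (((TopCat.Presheaf.pullbackPushforwardAdjunction (Type u) f).unit.app G.obj).app (op U) s)).trans ?_
    rw [adjC_unit]
    rfl
  rw [h]
  have h1 : IsIso (TopCat.Presheaf.stalkPullbackHom (Type u) f G.obj x) :=
    (TopCat.Presheaf.stalkPullbackIso (Type u) f G.obj x).isIso_hom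
  have h2 := TopCat.Presheaf.stalkFunctor_map_unit_toSheafify_isIso x (Type u) P
  exact ConcreteCategory.bijective_of_isIso _

/-- The unit of inverse image identifies stalks. -/
theorem isPullUnit_unit (G : TopCat.Sheaf (Type u) Y) :
    IsPullUnit f ((TopCat.Sheaf.pullbackPushforwardAdjunction (Type u) f).unit.app G) := by
  let adj := TopCat.Sheaf.pullbackPushforwardAdjunction (Type u) f
  have h := Adjunction.unit_leftAdjointUniq_hom_app (adjC f) adj G
  rw [← h]
  exact (isPullUnit_adjC f G).comp_iso f ((Adjunction.leftAdjointUniq (adjC f) adj).hom.app G)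

section Main

variable [SpectralSpace X] {Z : Set X}

/-- The inclusion of a subset. -/
abbrev incl (Z : Set X) : TopCat.of Z ⟶ X :=
  TopCat.ofHom ⟨(Subtype.val : Z → X), continuous_subtype_val⟩

theorem bijective_of_isPullUnit (hZ : IsClosed Z) (hconn : ∀ x : X, IsConnected (Z ∩ closure {x}))
    {F : TopCat.Sheaf (Type u) X} {G : TopCat.Sheaf (Type u) (TopCat.of Z)}
    (u : F ⟶ (TopCat.Sheaf.pushforward (Type u) (incl Z)).obj G) (hu : IsPullUnit (incl Z) u) :
    Function.Bijective (u.hom.app (op ⊤)) := by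
  classical
  have hgen : ∀ x : X, ∃ z : Z, x ⤳ (z : X) := fun x => by
    obtain ⟨z, hzZ, hzx⟩ := (hconn x).nonempty
    exact ⟨⟨z, hzZ⟩, specializes_iff_mem_closure.mpr hzx⟩
  constructor
  · intro s t h
    refine TopCat.Presheaf.section_ext F ⊤ s t fun x _ => ?_
    obtain ⟨z, hz⟩ := hgen x
    have e : germ F (z : X) (Opens.mem_top _) s = germ F (z : X) (Opens.mem_top _) t := by
      refine (hu z).1 ?_
      exact (stalkComp_germ _ u z ⊤ trivial s).trans
        ((congrArg _ h).trans (stalkComp_germ _ u z ⊤ trivial t).symm)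
    exact (cosp_germ F hz (Opens.mem_top _) s).symm.trans
      ((congrArg (cosp F hz) e).trans (cosp_germ F hz (Opens.mem_top _) t))
  · intro σ
    let σ' : Sect G ⊤ := σ
    choose a ha using fun z : Z => (hu z).2 (germ G z (Opens.mem_top z) σ')
    have hloc : ∀ z : Z, ∃ (U : Opens X) (hz : (z : X) ∈ U) (s : Sect F U), IsCompact (U : Set X) ∧
        ∀ z' : Z, ∀ h : (z' : X) ∈ U, germ F (z' : X) h s = a z' := by
      intro z
      obtain ⟨U, hzU, s, hs⟩ := TopCat.Presheaf.exists_germ_eq (C := Type u) (X := X) F.obj (a z)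
      let t : Sect G ((Opens.map (incl Z)).obj U) := u.hom.app (op U) s
      have hO := isOpen_eqLocus G t σ'
      have hz0 : z ∈ {y : TopCat.of Z | ∃ (h1 : y ∈ (Opens.map (incl Z)).obj U) (h2 : y ∈ (⊤ : Opens _)),
          germ G y h1 t = germ G y h2 σ'} :=
        ⟨hzU, trivial, (stalkComp_germ _ u z U hzU s).symm.trans ((congrArg _ hs).trans (ha z))⟩
      obtain ⟨O, hOo, hOe⟩ := isOpen_induced_iff.mp hO
      obtain ⟨_, ⟨hWo, hWc⟩, hzW, hWsub⟩ := PrespectralSpace.isTopologicalBasis.exists_subset_of_mem_open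
        (show (z : X) ∈ (U : Set X) ∩ O from ⟨hzU, (Set.ext_iff.mp hOe z).mpr hz0⟩) (U.2.inter hOo)
      rename_i W
      refine ⟨⟨W, hWo⟩, hzW, res F (fun y hy => (hWsub hy).1) s, hWc, fun z' h => ?_⟩
      refine (hu z').1 (Eq.trans ?_ (ha z').symm)
      rw [germ_res]
      obtain ⟨_, _, e⟩ := (Set.ext_iff.mp hOe z').mp (hWsub h).2
      exact (stalkComp_germ _ u z' U _ s).trans e
    choose U hzU s hUc hs using hloc
    obtain ⟨T, hT⟩ := hZ.isCompact.elim_finite_subcover (fun z : Z => (U z : Set X)) (fun z => (U z).2)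
      fun x hx => Set.mem_iUnion.mpr ⟨⟨x, hx⟩, hzU _⟩
    have hconst : ∀ (x : X) (z z' : Z) (hz : x ⤳ (z : X)) (hz' : x ⤳ (z' : X)),
        cosp F hz (a z) = cosp F hz' (a z') := by
      intro x z z' hz hz'
      have hC : IsPreconnected (Z ∩ closure {x}) := (hconn x).isPreconnected
      let τ : ↥(Z ∩ closure {x}) → TopCat.Presheaf.stalk (C := Type u) (X := X) F.obj x := fun y =>
        cosp F (specializes_iff_mem_closure.mpr y.2.2) (a ⟨y, y.2.1⟩)
      have hτ : IsLocallyConstant τ := by
        rw [IsLocallyConstant.iff_exists_open]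
        intro y
        let w : Z := ⟨y, y.2.1⟩
        refine ⟨Subtype.val ⁻¹' (U w : Set X), (U w).2.preimage continuous_subtype_val, hzU w, ?_⟩
        intro y' hy'
        show cosp F _ (a ⟨y', y'.2.1⟩) = cosp F _ (a w)
        refine (congrArg (cosp F _) (hs w ⟨y', y'.2.1⟩ hy').symm).trans ?_
        refine Eq.trans ?_ (congrArg (cosp F _) (hs w w (hzU w)))
        exact (cosp_germ F _ _ _).trans (cosp_germ F _ _ _).symm
      haveI := Subtype.preconnectedSpace hC
      exact hτ.apply_eq_of_preconnectedSpace ⟨z, z.2, specializes_iff_mem_closure.mp hz⟩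
        ⟨z', z'.2, specializes_iff_mem_closure.mp hz'⟩
    choose ζ hζ using hgen
    let τ : ∀ x : X, TopCat.Presheaf.stalk (C := Type u) (X := X) F.obj x := fun x => cosp F (hζ x) (a (ζ x))
    have hτ : ∀ (k : Z) (z : Z) (x : X) (h : x ⤳ (z : X)) (hz : (z : X) ∈ U k),
        τ x = germ F x (h.mem_open (U k).2 hz) (s k) := by
      intro k z x h hz
      exact (hconst x (ζ x) z (hζ x) h).trans
        ((congrArg (cosp F h) (hs k z hz).symm).trans (cosp_germ F h hz (s k)))
    have hnear : ∀ x : X, ∃ (V : Opens X) (_ : x ∈ V) (r : Sect F V), ∀ y (hy : y ∈ V), germ F y hy r = τ y := by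
      intro x
      obtain ⟨j, -, hj⟩ := Set.mem_iUnion₂.mp (hT (ζ x).2)
      let O : Z → Set X := fun k => {y | ∃ z ∈ Z ∩ (U k : Set X), y ⤳ z}
      let E : Set X := {y | ∃ hy : y ∈ U j, germ F y hy (s j) ≠ τ y}
      have hcons : ∀ k : Z, IsClosed[constructibleTopology X] (O k) := by
        intro k
        have hK : IsCompact (Z ∩ (U k : Set X)) := by
          rw [Set.inter_comm]; exact (hUc k).inter_right hZ
        have he : O k = ⋂ W ∈ {W : Set X | IsOpen W ∧ IsCompact W ∧ Z ∩ (U k : Set X) ⊆ W}, W := by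
          ext y
          simp only [Set.mem_iInter, Set.mem_setOf_eq]
          constructor
          · rintro ⟨z, hz, hyz⟩ W ⟨hWo, -, hW⟩
            exact hyz.mem_open hWo (hW hz)
          · intro hy
            by_contra hne
            have hd : Z ∩ (U k : Set X) ⊆ (closure {y})ᶜ := fun z hz hzy =>
              hne ⟨z, hz, specializes_iff_mem_closure.mpr hzy⟩
            have hb : ∀ z : ↥(Z ∩ (U k : Set X)), ∃ W : Set X, IsOpen W ∧ IsCompact W ∧ (z : X) ∈ W ∧
                W ⊆ (closure {y})ᶜ := fun z => by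
              obtain ⟨W, ⟨hWo, hWc⟩, hzW, hWs⟩ := PrespectralSpace.isTopologicalBasis.exists_subset_of_mem_open
                (hd z.2) isClosed_closure.isOpen_compl
              exact ⟨W, hWo, hWc, hzW, hWs⟩
            choose W hWo hWc hzW hWs using hb
            obtain ⟨S, hS⟩ := hK.elim_finite_subcover W hWo fun z hz => Set.mem_iUnion.mpr ⟨⟨z, hz⟩, hzW _⟩
            obtain ⟨w, -, hw⟩ := Set.mem_iUnion₂.mp (hy (⋃ z ∈ S, W z) ⟨isOpen_biUnion fun z _ => hWo z,
              S.finite_toSet.isCompact_biUnion fun z _ => hWc z, hS⟩)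
            exact hWs w hw (subset_closure rfl)
        rw [he]
        exact @isClosed_biInter _ _ (constructibleTopology X) _ _ fun W hW =>
          (Groth.L06.Spectral.isClopen_cons hW.1 hW.2.1).1
      have hE : IsClosed[constructibleTopology X] E := by
        have hEk : E = ⋃ k ∈ T, (O k ∩ (((U j : Set X) ∩ U k) ∩
            {y | ∃ (h1 : y ∈ U j) (h2 : y ∈ U k), germ F y h1 (s j) = germ F y h2 (s k)}ᶜ)) := by
          ext y
          simp only [Set.mem_iUnion, exists_prop]
          constructor
          · rintro ⟨hyj, hne⟩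
            obtain ⟨k, hk, hzk⟩ := Set.mem_iUnion₂.mp (hT (ζ y).2)
            refine ⟨k, hk, ⟨ζ y, ⟨(ζ y).2, hzk⟩, hζ y⟩, ⟨hyj, (hζ y).mem_open (U k).2 hzk⟩, ?_⟩
            rintro ⟨h1, h2, e⟩
            exact hne (e.trans (hτ k (ζ y) y (hζ y) hzk).symm)
          · rintro ⟨k, hk, ⟨z, ⟨hzZ, hzk⟩, hyz⟩, ⟨hyj, hyk⟩, hne⟩
            exact ⟨hyj, fun e => hne ⟨hyj, hyk, e.trans (hτ k ⟨z, hzZ⟩ y hyz hzk)⟩⟩
        rw [hEk]
        refine @Set.Finite.isClosed_biUnion _ _ (constructibleTopology X) _ _ T.finite_toSet fun k _ => ?_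
        refine @IsClosed.inter _ _ _ (constructibleTopology X) (hcons k)
          (@IsClosed.inter _ _ _ (constructibleTopology X) ?_ ?_)
        · exact (Groth.L06.Spectral.isClopen_cons ((U j).2.inter (U k).2)
            (QuasiSeparatedSpace.inter_isCompact _ _ (U j).2 (hUc j) (U k).2 (hUc k))).1
        · exact Groth.L06.Spectral.isClosed_cons_of_isClosed (isOpen_eqLocus F (s j) (s k)).isClosed_compl
      have hxE : x ∉ closure E := by
        intro hx
        obtain ⟨e, ⟨hej, hne⟩, hex⟩ := Groth.L06.Spectral.exists_specializes_of_mem_closure hE hx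
        exact hne (hτ j (ζ x) e (hex.trans (hζ x)) hj).symm
      refine ⟨U j ⊓ ⟨(closure E)ᶜ, isClosed_closure.isOpen_compl⟩, ⟨(hζ x).mem_open (U j).2 hj, hxE⟩,
        res F inf_le_left (s j), fun y hy => ?_⟩
      rw [germ_res]
      by_contra hne
      exact hy.2 (subset_closure ⟨hy.1, hne⟩)
    choose V hxV r hr using hnear
    have hcompat : TopCat.Presheaf.IsCompatible (C := Type u) F.obj V r := fun x y => by
      refine TopCat.Presheaf.section_ext F _ _ _ fun w hw => ?_
      exact ((germ_res F inf_le_left w hw (r x)).trans (hr x w hw.1)).trans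
        ((hr y w hw.2).symm.trans (germ_res F inf_le_right w hw (r y)).symm)
    obtain ⟨g, hg, -⟩ := TopCat.Sheaf.existsUnique_gluing' F V ⊤ (fun x => homOfLE le_top)
      (fun x _ => Opens.mem_iSup.mpr ⟨x, hxV x⟩) r hcompat
    refine ⟨g, TopCat.Presheaf.section_ext G ((Opens.map (incl Z)).obj ⊤) _ _ fun z hz => ?_⟩
    refine (stalkComp_germ _ u z ⊤ hz g).symm.trans ?_
    have e : germ F (z : X) (Opens.mem_top _) g = a z := by
      refine ((germ_res F le_top (z : X) (hxV z) g).symm.trans (congrArg _ (hg (z : X)))).trans ?_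
      refine (hr (z : X) (z : X) (hxV z)).trans ?_
      obtain ⟨k, -, hk⟩ := Set.mem_iUnion₂.mp (hT z.2)
      exact (hτ k z (z : X) specializes_rfl hk).trans (hs k z hk)
    exact (congrArg _ e).trans (ha z)

/-- Sections over the space agree with sections of the restriction. -/
theorem bijective_unit (hZ : IsClosed Z) (hconn : ∀ x : X, IsConnected (Z ∩ closure {x}))
    (F : TopCat.Sheaf (Type u) X) :
    Function.Bijective
      (((TopCat.Sheaf.pullbackPushforwardAdjunction (Type u) (incl Z)).unit.app F).hom.app (op ⊤)) :=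
  bijective_of_isPullUnit hZ hconn _ (isPullUnit_unit _ F)

end Main

end Groth.L27.TopSets
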