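import Groth.Prelude.Def_Pi1
import Mathlib.RingTheory.Finiteness.Descent
import Mathlib.RingTheory.TensorProduct.Finite
import Mathlib.LinearAlgebra.TensorProduct.RightExactness

/-! Descent along universally injective ring maps. -/

set_option autoImplicit false
set_option linter.unusedSectionVars false
universe u
open TensorProduct

namespace Groth.L27.UnivInj

variable {R S : Type u} [CommRing R] [CommRing S] [Algebra R S]

theorem one_tmul_injective (h : Pi1.UnivInjective R S) (P : Type u) [AddCommGroup P] [Module R P] :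
    Function.Injective (fun p : P => (1 : S) ⊗ₜ[R] p) := by
  intro p q hpq
  have h1 : LinearMap.lTensor P (Algebra.linearMap R S) (p ⊗ₜ 1) =
      LinearMap.lTensor P (Algebra.linearMap R S) (q ⊗ₜ 1) := by
    simp only [LinearMap.lTensor_tmul, Algebra.linearMap_apply, map_one]
    simpa using congrArg (TensorProduct.comm R S P) hpq
  simpa using congrArg (TensorProduct.rid R P) (h P h1)

theorem eq_zero_of_one_tmul (h : Pi1.UnivInjective R S) {P : Type u} [AddCommGroup P] [Module R P]
    {p : P} (hp : (1 : S) ⊗ₜ[R] p = 0) : p = 0 :=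
  one_tmul_injective h P (by simpa using hp)

theorem surjective_of_lTensor (h : Pi1.UnivInjective R S) {M N : Type u} [AddCommGroup M] [Module R M]
    [AddCommGroup N] [Module R N] (f : M →ₗ[R] N) (hf : Function.Surjective (LinearMap.lTensor S f)) :
    Function.Surjective f := by
  rw [← LinearMap.range_eq_top, eq_top_iff]
  intro x _
  rw [← Submodule.Quotient.mk_eq_zero]
  refine eq_zero_of_one_tmul h ?_
  obtain ⟨y, hy⟩ := hf ((1 : S) ⊗ₜ x)
  change LinearMap.lTensor S (LinearMap.range f).mkQ ((1 : S) ⊗ₜ x) = 0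
  rw [← hy, ← LinearMap.lTensor_comp_apply,
    show (LinearMap.range f).mkQ ∘ₗ f = 0 from LinearMap.range_mkQ_comp f]
  simp

theorem finite (h : Pi1.UnivInjective R S) (M : Type u) [AddCommGroup M] [Module R M]
    [Module.Finite S (S ⊗[R] M)] : Module.Finite R M := by
  obtain ⟨n, s, hs⟩ := Module.Finite.exists_fin (R := S) (M := S ⊗[R] M)
  choose k t m hm using fun i : Fin n ↦ TensorProduct.exists_sum_tmul_eq (s i)
  let f₀ : ((Σ i, Fin (k i)) → R) →ₗ[R] M := (Pi.basisFun R _).constr R fun ⟨i, j⟩ ↦ m i j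
  apply Module.Finite.of_surjective f₀
  refine surjective_of_lTensor h f₀ ?_
  have : Function.Surjective (AlgebraTensorModule.lTensor S S f₀) := by
    rw [← LinearMap.range_eq_top, eq_top_iff, ← hs, Submodule.span_le, Set.range_subset_iff]
    intro i
    use ∑ (j : Fin (k i)), t i j ⊗ₜ Pi.basisFun R _ ⟨i, j⟩
    simp [f₀, -Pi.basisFun_equivFun, -Pi.basisFun_apply, hm i]
  exact this

theorem finiteType (h : Pi1.UnivInjective R S) (A : Type u) [CommRing A] [Algebra R A]
    [Algebra.FiniteType S (S ⊗[R] A)] : Algebra.FiniteType R A := by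
  obtain ⟨s, hs⟩ := Algebra.FiniteType.out (R := S) (A := S ⊗[R] A)
  have (x : s) := TensorProduct.exists_sum_tmul_eq x.1
  choose k t m hm using this
  let f : MvPolynomial (Σ x : s, Fin (k x)) R →ₐ[R] A := MvPolynomial.aeval (fun ⟨x, i⟩ ↦ m x i)
  apply Algebra.FiniteType.of_surjective f
  have hf : Function.Surjective (Algebra.TensorProduct.map (.id S S) f) := by
    rw [← AlgHom.range_eq_top, _root_.eq_top_iff, ← hs, Algebra.adjoin_le_iff]
    intro x hx
    let i : s := ⟨x, hx⟩
    use ∑ (j : Fin (k i)), t i j ⊗ₜ MvPolynomial.X ⟨i, j⟩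
    simp [f, ← hm, i]
  exact surjective_of_lTensor h f.toLinearMap hf

theorem finitePresentation (h : Pi1.UnivInjective R S) (M : Type u) [AddCommGroup M] [Module R M]
    [Module.FinitePresentation S (S ⊗[R] M)] : Module.FinitePresentation R M := by
  classical
  have := finite h M
  obtain ⟨n, f, hf⟩ := Module.Finite.exists_fin' R M
  refine Module.finitePresentation_of_surjective f hf ?_
  have hsurj : Function.Surjective (f.baseChange S) := LinearMap.lTensor_surjective S hf
  obtain ⟨T, hT⟩ := Module.FinitePresentation.fg_ker (f.baseChange S) hsurj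
  have hex := lTensor_exact S (LinearMap.exact_subtype_ker_map f) hf
  have hmem : ∀ x : T, ∃ (J : Submodule R (Fin n → R)), J.FG ∧ J ≤ LinearMap.ker f ∧
      (x : S ⊗[R] (Fin n → R)) ∈ LinearMap.range (LinearMap.lTensor S J.subtype) := by
    intro x
    obtain ⟨y, hy⟩ := (hex (x : S ⊗[R] (Fin n → R))).mp (LinearMap.mem_ker.mp (hT ▸ Submodule.subset_span x.2) :)
    choose k t m hm using TensorProduct.exists_sum_tmul_eq y
    refine ⟨Submodule.span R (Set.range fun j => (m j : Fin n → R)),
      Submodule.fg_span (Set.finite_range _), Submodule.span_le.mpr (by rintro _ ⟨j, rfl⟩; exact (m j).2),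
      ∑ j : Fin k, t j ⊗ₜ ⟨(m j : Fin n → R), Submodule.subset_span ⟨j, rfl⟩⟩, ?_⟩
    rw [← hy, hm, map_sum, map_sum]
    rfl
  choose J hJfg hJle hJ using hmem
  have hK : LinearMap.ker f = ⨆ x, J x := by
    refine le_antisymm (fun v hv => ?_) (iSup_le hJle)
    rw [← Submodule.Quotient.mk_eq_zero]
    refine eq_zero_of_one_tmul h ?_
    let q := (⨆ x, J x).mkQ
    have hle : Submodule.span S (T : Set (S ⊗[R] (Fin n → R))) ≤ LinearMap.ker (q.baseChange S) := by
      rw [Submodule.span_le]
      intro x hx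
      obtain ⟨y, hy⟩ := hJ ⟨x, hx⟩
      have h0 : q ∘ₗ (J ⟨x, hx⟩).subtype = 0 := LinearMap.ext fun z =>
        (Submodule.Quotient.mk_eq_zero _).mpr (le_iSup J ⟨x, hx⟩ z.2)
      change LinearMap.lTensor S q x = 0
      rw [show x = LinearMap.lTensor S (J ⟨x, hx⟩).subtype y from hy.symm,
        ← LinearMap.lTensor_comp_apply, h0]
      simp
    have h1 : (1 : S) ⊗ₜ v ∈ LinearMap.ker (f.baseChange S) := by simp [LinearMap.mem_ker.mp hv]
    rw [← hT] at h1
    exact hle h1
  rw [hK]
  exact Submodule.fg_iSup _ hJfg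

theorem algFinitePresentation (h : Pi1.UnivInjective R S) (A : Type u) [CommRing A] [Algebra R A]
    [Algebra.FinitePresentation S (S ⊗[R] A)] : Algebra.FinitePresentation R A := by
  classical
  have : Algebra.FiniteType R A := finiteType h A
  rw [Algebra.FiniteType.iff_quotient_mvPolynomial''] at this
  obtain ⟨n, f, hf⟩ := this
  let fT := Algebra.TensorProduct.map (AlgHom.id S S) f
  have hfT : Function.Surjective fT := Algebra.FiniteType.baseChangeAux_surj S hf
  obtain ⟨T, hT'⟩ := Algebra.FinitePresentation.ker_fG_of_surjective fT hfT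
  have hT : Ideal.span (T : Set _) = RingHom.ker fT := hT'
  let iota : MvPolynomial (Fin n) R →+* S ⊗[R] MvPolynomial (Fin n) R :=
    (Algebra.TensorProduct.includeRight : MvPolynomial (Fin n) R →ₐ[R] _).toRingHom
  have hker : (RingHom.ker f.toRingHom).map iota = RingHom.ker fT :=
    (Algebra.TensorProduct.lTensor_ker f hf).symm
  have hmem : ∀ x : T, ∃ J : Ideal (MvPolynomial (Fin n) R), J.FG ∧ J ≤ RingHom.ker f.toRingHom ∧
      (x : S ⊗[R] MvPolynomial (Fin n) R) ∈ J.map iota := by
    intro x
    have hx : (x : S ⊗[R] MvPolynomial (Fin n) R) ∈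
        Submodule.span (S ⊗[R] MvPolynomial (Fin n) R) (iota '' (RingHom.ker f.toRingHom : Set _)) := by
      change _ ∈ (RingHom.ker f.toRingHom).map iota
      rw [hker, ← hT]
      exact Submodule.subset_span x.2
    obtain ⟨t, ht, hxt⟩ := Submodule.mem_span_finite_of_mem_span hx
    obtain ⟨w, hw, rfl⟩ := Finset.subset_set_image_iff.mp ht
    refine ⟨Ideal.span w, ⟨w, rfl⟩, Ideal.span_le.mpr hw, ?_⟩
    rw [Ideal.map_span]
    rw [Finset.coe_image] at hxt
    exact hxt
  choose J hJfg hJle hJ using hmem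
  refine Algebra.FinitePresentation.of_surjective hf ?_
  have hK : RingHom.ker f.toRingHom = ⨆ x, J x := by
    refine le_antisymm (fun v hv => ?_) (iSup_le hJle)
    rw [← Ideal.Quotient.eq_zero_iff_mem]
    refine eq_zero_of_one_tmul h ?_
    let q := Ideal.Quotient.mkₐ R (⨆ x, J x)
    have hle : Ideal.span (T : Set (S ⊗[R] MvPolynomial (Fin n) R)) ≤
        RingHom.ker (Algebra.TensorProduct.map (AlgHom.id S S) q) := by
      rw [Ideal.span_le]
      intro x hx
      refine (Ideal.map_le_iff_le_comap.mpr ?_) (hJ ⟨x, hx⟩)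
      intro z hz
      have hz0 : q z = 0 := Ideal.Quotient.eq_zero_iff_mem.mpr (le_iSup J ⟨x, hx⟩ hz)
      simp [iota, hz0]
    have h1 : iota v ∈ RingHom.ker fT := hker ▸ Ideal.mem_map_of_mem _ hv
    rw [← hT] at h1
    exact hle h1
  change (RingHom.ker f.toRingHom).FG
  rw [hK]
  exact Submodule.fg_iSup _ hJfg

end Groth.L27.UnivInj
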