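import Groth.Agent.L27.UnivInj
import Mathlib.RingTheory.Flat.Basic
import Mathlib.LinearAlgebra.TensorProduct.Tower
import Mathlib.Algebra.Module.CharacterModule
import Mathlib.RingTheory.Smooth.Fiber
import Mathlib.RingTheory.Kaehler.TensorProduct

/-! Flatness and etaleness descend along universally injective ring maps. -/

set_option autoImplicit false
universe u
open TensorProduct

namespace Groth.L27.UnivInj

variable {R S : Type u} [CommRing R] [CommRing S] [Algebra R S]

theorem exists_section_dual (h : Pi1.UnivInjective R S) :
    ∃ σ : CharacterModule R →ₗ[R] CharacterModule S,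
      ∀ (χ : CharacterModule R) (r : R), σ χ (algebraMap R S r) = χ r := by
  let f := LinearMap.lTensor (CharacterModule R) (Algebra.linearMap R S)
  obtain ⟨e, he⟩ := CharacterModule.dual_surjective_of_injective f (h _)
    (CharacterModule.uncurry LinearMap.id)
  exact ⟨CharacterModule.curry e, fun χ r => DFunLike.congr_fun he (χ ⊗ₜ r)⟩

theorem flat (h : Pi1.UnivInjective R S) (M : Type u) [AddCommGroup M] [Module R M]
    [Module.Flat S (S ⊗[R] M)] : Module.Flat R M := by
  classical
  rw [Module.Flat.iff_rTensor_injective']
  intro I
  let J : Ideal S := I.map (algebraMap R S)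
  let incl : I →ₗ[R] J :=
    { toFun := fun i => ⟨algebraMap R S i, Ideal.mem_map_of_mem _ i.2⟩
      map_add' := fun a b => Subtype.ext (map_add _ _ _)
      map_smul' := fun r a => Subtype.ext (by simp [Algebra.smul_def]) }
  let Js : J →ₗ[R] S := (Submodule.subtype J).restrictScalars R
  -- `J ⊗ M → S ⊗ M` is injective
  have hJ : Function.Injective (Js.rTensor M) := by
    have h1 := Module.Flat.rTensor_preserves_injective_linearMap (M := S ⊗[R] M) (Submodule.subtype J)
      Subtype.val_injective
    let eJ := AlgebraTensorModule.cancelBaseChange R S S J M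
    let eS := AlgebraTensorModule.cancelBaseChange R S S S M
    have key : ∀ t, Js.rTensor M t = eS ((Submodule.subtype J).rTensor (S ⊗[R] M) (eJ.symm t)) := by
      intro t
      induction t with
      | zero => simp
      | tmul j m => simp [eJ, eS, Js]
      | add a b ha hb => simp only [map_add, ha, hb]
    intro a b hab
    rw [key, key] at hab
    exact eJ.symm.injective (h1 (eS.injective hab))
  -- `I ⊗ M → J ⊗ M` is injective
  have hI : Function.Injective (incl.rTensor M) := by
    obtain ⟨σ, hσ⟩ := exists_section_dual h
    choose χ hχ using CharacterModule.dual_surjective_of_injective (Submodule.subtype I) Subtype.val_injective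
    have hχ' : ∀ (θ : CharacterModule I) (i : I), χ θ (i : R) = θ i := fun θ i => DFunLike.congr_fun (hχ θ) i
    have hzero : ∀ δ : CharacterModule R, (∀ i : I, δ (i : R) = 0) → ∀ j : J, σ δ (j : S) = 0 := by
      intro δ hδ j
      have hspan : (j : S) ∈ Submodule.span S (algebraMap R S '' (I : Set R)) := j.2
      suffices ∀ s : S, σ δ (s * (j : S)) = 0 by simpa using this 1
      generalize (j : S) = y at hspan ⊢
      induction hspan using Submodule.span_induction with
      | mem y hy =>
        obtain ⟨i, hi, rfl⟩ := hy
        intro s
        have h0 : i • δ = 0 := DFunLike.ext _ _ fun r =>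
          hδ ⟨i • r, by rw [smul_eq_mul]; exact Ideal.mul_mem_right _ _ hi⟩
        have h1 : (i • σ δ) s = 0 := by rw [← map_smul, h0, map_zero]; rfl
        rw [mul_comm, ← Algebra.smul_def]
        exact h1
      | zero => intro s; rw [mul_zero]; exact map_zero _
      | add a b _ _ ha hb => intro s; rw [mul_add, map_add, ha, hb, add_zero]
      | smul t a _ ha => intro s; rw [smul_eq_mul, ← mul_assoc]; exact ha _
    have hcongr : ∀ δ δ' : CharacterModule R, (∀ i : I, δ (i : R) = δ' (i : R)) →
        ∀ j : J, σ δ (j : S) = σ δ' (j : S) := fun δ δ' hd j => by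
      have h1 := hzero (δ - δ') (fun i => sub_eq_zero.2 (hd i)) j
      rw [map_sub] at h1
      exact sub_eq_zero.1 h1
    rw [rTensor_injective_iff_lcomp_surjective]
    intro g
    let θ : M → CharacterModule I := fun x => AddMonoidHom.mk' (fun i => g i x)
      fun a b => by rw [map_add]; rfl
    let a : M → CharacterModule S := fun x => σ (χ (θ x))
    have hadd : ∀ (j : J) (x y : M), a (x + y) (j : S) = a x (j : S) + a y (j : S) := fun j x y => by
      have := hcongr (χ (θ (x + y))) (χ (θ x) + χ (θ y)) (fun i => by
        change _ = χ (θ x) (i : R) + χ (θ y) (i : R)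
        rw [hχ', hχ', hχ']
        exact map_add (g i) x y) j
      rw [map_add] at this
      exact this
    let G : J →ₗ[R] CharacterModule M :=
      { toFun := fun j => AddMonoidHom.mk' (fun x => a x (j : S)) (hadd j)
        map_add' := fun j j' => DFunLike.ext _ _ fun x => map_add (a x) _ _
        map_smul' := fun r j => DFunLike.ext _ _ fun x => by
          change a x (r • (j : S)) = a (r • x) (j : S)
          have := hcongr (r • χ (θ x)) (χ (θ (r • x))) (fun i => by
            rw [CharacterModule.smul_apply, hχ']
            change χ (θ x) ((r • i : I) : R) = _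
            rw [hχ']
            exact congr($(g.map_smul r i) x)) j
          rw [map_smul] at this
          exact this }
    refine ⟨G, LinearMap.ext fun i => DFunLike.ext _ _ fun x => ?_⟩
    exact (hσ (χ (θ x)) (i : R)).trans (hχ' (θ x) i)
  have key : ∀ t, (Submodule.subtype I).rTensor M t = 0 → Js.rTensor M (incl.rTensor M t) = 0 := by
    intro t ht
    have : (Algebra.linearMap R S).rTensor M ((Submodule.subtype I).rTensor M t) =
        Js.rTensor M (incl.rTensor M t) := by
      rw [← LinearMap.rTensor_comp_apply, ← LinearMap.rTensor_comp_apply]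
      rfl
    rw [← this, ht, map_zero]
  rw [injective_iff_map_eq_zero]
  intro t ht
  exact hI (hJ (by rw [key t ht, map_zero, map_zero]))

attribute [local instance] Algebra.TensorProduct.rightAlgebra in
theorem etale (h : Pi1.UnivInjective R S) (A : Type u) [CommRing A] [Algebra R A]
    [Algebra.Etale S (S ⊗[R] A)] : Algebra.Etale R A := by
  have : Algebra.FinitePresentation R A := algFinitePresentation h A
  have : Module.Flat R A := flat h A
  have : Algebra.FormallyUnramified R A := by
    refine ⟨⟨fun a b => ?_⟩⟩
    have : Subsingleton (S ⊗[R] Ω[A⁄R]) :=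
      (KaehlerDifferential.tensorKaehlerEquivBase R S A (S ⊗[R] A)).injective.subsingleton
    exact one_tmul_injective h _ (Subsingleton.elim _ _)
  exact Algebra.Etale.of_formallyUnramified_of_flat

end Groth.L27.UnivInj
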