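import Groth.Agent.L27.IndEtalePerm
import Mathlib.RingTheory.Etale.Pi
import Mathlib.FieldTheory.IsAlgClosed.AlgebraicClosure
import Mathlib.RingTheory.Jacobson.Ring

/-! The tensor product of all faithfully flat etale algebras. -/

set_option autoImplicit false
set_option linter.style.haveILetI false
universe u

open TensorProduct MvPolynomial

namespace Groth.L27.UniversalCover

variable {A : Type u} [CommRing A] {ι : Type u} (n : ι → ℕ)
  (I : ∀ i, Ideal (MvPolynomial (Fin (n i)) A))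

/-- The renaming of the variables of one factor. -/
noncomputable def ren (i : ι) : MvPolynomial (Fin (n i)) A →ₐ[A] MvPolynomial (Σ i, Fin (n i)) A :=
  rename fun j => ⟨i, j⟩

/-- The relations of a tensor product of presented algebras. -/
noncomputable def rel : Ideal (MvPolynomial (Σ i, Fin (n i)) A) :=
  ⨆ i, (I i).map (ren n i)

/-- A tensor product of presented algebras. -/
abbrev Tens : Type u := MvPolynomial (Σ i, Fin (n i)) A ⧸ rel n I

/-- The inclusion of a factor. -/
noncomputable def incl (i : ι) : (MvPolynomial (Fin (n i)) A ⧸ I i) →ₐ[A] Tens n I :=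
  Ideal.Quotient.liftₐ (I i) ((Ideal.Quotient.mkₐ A _).comp (ren n i)) fun _ hx =>
    Ideal.Quotient.eq_zero_iff_mem.mpr (Ideal.mem_iSup_of_mem i (Ideal.mem_map_of_mem _ hx))

variable {n I} {R : Type u} [CommRing R] [Algebra A R]

theorem incl_mk (i : ι) (j : Fin (n i)) :
    incl n I i (Ideal.Quotient.mk (I i) (X j)) = Ideal.Quotient.mk _ (X (⟨i, j⟩ : Σ i, Fin (n i))) := by
  change Ideal.Quotient.mk _ (ren n i (X j)) = _
  rw [ren, rename_X]

theorem hom_ext {f g : Tens n I →ₐ[A] R} (h : ∀ i, f.comp (incl n I i) = g.comp (incl n I i)) :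
    f = g := by
  refine Ideal.Quotient.algHom_ext A (MvPolynomial.algHom_ext fun ⟨i, j⟩ => ?_)
  have := AlgHom.congr_fun (h i) (Ideal.Quotient.mk (I i) (X j))
  simp only [AlgHom.comp_apply, incl_mk] at this
  simpa using this

theorem exists_lift (f : ∀ i, (MvPolynomial (Fin (n i)) A ⧸ I i) →ₐ[A] R) :
    ∃ F : Tens n I →ₐ[A] R, ∀ i, F.comp (incl n I i) = f i := by
  let G : MvPolynomial (Σ i, Fin (n i)) A →ₐ[A] R :=
    aeval fun x => f x.1 (Ideal.Quotient.mk _ (X x.2))
  have hG : ∀ i, G.comp (ren n i) = (f i).comp (Ideal.Quotient.mkₐ A _) := fun i =>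
    MvPolynomial.algHom_ext fun j => by simp [G, ren]
  have hle : rel n I ≤ RingHom.ker G := iSup_le fun i => Ideal.map_le_iff_le_comap.mpr fun x hx => by
    rw [Ideal.mem_comap, RingHom.mem_ker, ← AlgHom.comp_apply, hG, AlgHom.comp_apply,
      Ideal.Quotient.mkₐ_eq_mk, Ideal.Quotient.eq_zero_iff_mem.mpr hx, map_zero]
  refine ⟨Ideal.Quotient.liftₐ _ G fun x hx => hle hx, fun i => ?_⟩
  refine Ideal.Quotient.algHom_ext A (MvPolynomial.algHom_ext fun j => ?_)
  simp [incl_mk, G]

theorem formallyEtale (h : ∀ i, Algebra.FormallyEtale A (MvPolynomial (Fin (n i)) A ⧸ I i)) :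
    Algebra.FormallyEtale A (Tens n I) := by
  rw [Algebra.FormallyEtale.iff_comp_bijective]
  intro B _ _ J hJ
  refine ⟨fun f g hfg => hom_ext fun i => ?_, fun f => ?_⟩
  · haveI := h i
    refine (Algebra.FormallyEtale.comp_bijective A _ J hJ).1 ?_
    change (Ideal.Quotient.mkₐ A J).comp (f.comp _) = (Ideal.Quotient.mkₐ A J).comp (g.comp _)
    rw [← AlgHom.comp_assoc, ← AlgHom.comp_assoc]
    exact congrArg (fun x => x.comp (incl n I i)) hfg
  · have := fun i => haveI := h i; (Algebra.FormallyEtale.comp_bijective A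
      (MvPolynomial (Fin (n i)) A ⧸ I i) J hJ).2 (f.comp (incl n I i))
    choose g hg using this
    obtain ⟨G, hG⟩ := exists_lift g
    exact ⟨G, hom_ext fun i => by rw [AlgHom.comp_assoc, hG]; exact hg i⟩

theorem etale_of_finite [Finite ι] (h : ∀ i, Algebra.Etale A (MvPolynomial (Fin (n i)) A ⧸ I i)) :
    Algebra.Etale A (Tens n I) := by
  haveI := formallyEtale (n := n) (I := I) fun i => haveI := h i; inferInstance
  have hfg : (rel n I).FG := Submodule.fg_iSup _ fun i => by
    haveI := h i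
    refine Ideal.FG.map ?_ _
    have := Algebra.FinitePresentation.ker_fG_of_surjective (Ideal.Quotient.mkₐ A (I i))
      Ideal.Quotient.mk_surjective
    simpa using this
  haveI : Algebra.FinitePresentation A (Tens n I) := Algebra.FinitePresentation.quotient hfg
  exact {}

theorem indEtale (h : ∀ i, Algebra.Etale A (MvPolynomial (Fin (n i)) A ⧸ I i)) :
    EtPBC.IsIndEtale A (Tens n I) := by
  classical
  rw [IndEtale.isIndEtale_iff_exists_factor]
  intro P _ _ _ φ
  obtain ⟨m, π, hπ, R, hR⟩ := Algebra.FinitePresentation.out (R := A) (A := P)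
  choose q hq using fun k : Fin m => Ideal.Quotient.mk_surjective (φ (π (X k)))
  let g : MvPolynomial (Fin m) A →ₐ[A] MvPolynomial (Σ i, Fin (n i)) A := aeval q
  have hg : (Ideal.Quotient.mkₐ A (rel n I)).comp g = φ.comp π :=
    MvPolynomial.algHom_ext fun k => by simp [g, hq]
  have hgR : ∀ r ∈ R, g r ∈ rel n I := fun r hr => by
    rw [← Ideal.Quotient.eq_zero_iff_mem]
    have := AlgHom.congr_fun hg r
    simp only [AlgHom.comp_apply, Ideal.Quotient.mkₐ_eq_mk] at this
    rw [this, show π r = 0 from hR.le (Ideal.subset_span hr), map_zero]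
  have : ∀ r ∈ R, ∃ t : Finset ι, g r ∈ ⨆ i ∈ t, (I i).map (ren n i) := fun r hr =>
    Submodule.exists_finset_of_mem_iSup _ (hgR r hr)
  choose! t ht using this
  let s : Finset ι := (Finset.univ.biUnion fun k => (q k).vars.image Sigma.fst) ∪ R.biUnion t
  let e : (Σ i : s, Fin (n i.1)) → Σ i, Fin (n i) := fun x => ⟨x.1.1, x.2⟩
  let κ : MvPolynomial (Σ i, Fin (n i)) A →ₐ[A] MvPolynomial (Σ i : s, Fin (n i.1)) A :=
    aeval fun x => if h : x.1 ∈ s then X ⟨⟨x.1, h⟩, x.2⟩ else 0
  let ns : s → ℕ := fun i => n i.1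
  let Is : ∀ i : s, Ideal (MvPolynomial (Fin (ns i)) A) := fun i => I i.1
  haveI := etale_of_finite (n := ns) (I := Is) fun i => h i.1
  obtain ⟨β, hβ⟩ := exists_lift (n := ns) (I := Is) fun i => incl n I i.1
  have hκ : ∀ r ∈ R, κ (g r) ∈ rel ns Is := fun r hr => by
    have hle : (⨆ i ∈ t r, (I i).map (ren n i)) ≤
        (rel ns Is).comap κ := iSup₂_le fun i hi => Ideal.map_le_iff_le_comap.mpr fun x hx => by
      have his : i ∈ s := Finset.mem_union_right _ (Finset.mem_biUnion.mpr ⟨r, hr, hi⟩)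
      have : κ.comp (ren n i) = ren ns (⟨i, his⟩ : s) :=
        MvPolynomial.algHom_ext fun j => by simp [κ, his, ren, ns]
      rw [Ideal.mem_comap, Ideal.mem_comap, ← AlgHom.comp_apply, this]
      exact Ideal.mem_iSup_of_mem (⟨i, his⟩ : s) (Ideal.mem_map_of_mem _ hx)
    exact hle (ht r hr)
  let α₀ : MvPolynomial (Fin m) A →ₐ[A] Tens ns Is := (Ideal.Quotient.mkₐ A _).comp (κ.comp g)
  have hker : RingHom.ker π ≤ RingHom.ker α₀ := hR.ge.trans (Ideal.span_le.mpr fun r hr =>
    Ideal.Quotient.eq_zero_iff_mem.mpr (hκ r hr))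
  refine ⟨Tens ns Is, inferInstance, inferInstance, AlgHom.liftOfSurjective π hπ α₀ hker, β,
    inferInstance, ?_⟩
  suffices hb : β.comp α₀ = φ.comp π by
    refine AlgHom.ext fun x => ?_
    obtain ⟨p, rfl⟩ := hπ x
    rw [AlgHom.comp_apply, show AlgHom.liftOfSurjective π hπ α₀ hker (π p) = α₀ p from
      AlgHom.congr_fun (AlgHom.liftOfSurjective_comp π hπ α₀ hker) p]
    exact AlgHom.congr_fun hb p
  rw [← hg]
  refine MvPolynomial.algHom_ext fun k => ?_
  simp only [α₀, AlgHom.comp_apply, g, aeval_X, Ideal.Quotient.mkₐ_eq_mk]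
  change (β.comp ((Ideal.Quotient.mkₐ A _).comp κ)).toRingHom (q k) =
    (Ideal.Quotient.mkₐ A (rel n I)).toRingHom (q k)
  refine MvPolynomial.hom_congr_vars (RingHom.ext fun c => ?_) (fun x hx _ => ?_) rfl
  · simp only [RingHom.comp_apply]
    exact (AlgHom.commutes _ c).trans (AlgHom.commutes _ c).symm
  · have hxs : x.1 ∈ s := Finset.mem_union_left _
      (Finset.mem_biUnion.mpr ⟨k, Finset.mem_univ _, Finset.mem_image_of_mem _ hx⟩)
    have := AlgHom.congr_fun (hβ ⟨x.1, hxs⟩) (Ideal.Quotient.mk (I x.1) (X x.2))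
    rw [AlgHom.comp_apply, incl_mk] at this
    change β (Ideal.Quotient.mk _ (κ (X x))) = Ideal.Quotient.mk _ (X x)
    rw [show κ (X x) = X ⟨⟨x.1, hxs⟩, x.2⟩ by simp [κ, hxs]]
    exact this.trans (incl_mk (n := n) (I := I) x.1 x.2)

end Groth.L27.UniversalCover
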