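import Groth.Agent.L27.IndZariski
import Groth.Agent.L27.WLocal
import Groth.Agent.L06.Spectral
import Mathlib.Topology.Spectral.Hom

/-! The w-localization along a closed set `V(I)`, as a ring of piecewise fractions. -/

set_option autoImplicit false
set_option linter.style.haveILetI false
set_option linter.unusedSectionVars false
universe u

open Topology

namespace Groth.L27.WConstruction

variable (A : Type u) [CommRing A] (I : Ideal A)

/-- The points of `V(I)`. -/
abbrev Pt : Type u := {z : PrimeSpectrum A // I ≤ z.asIdeal}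

/-- The stratum `D(f) ∩ V(s)`. -/
def str (f : A) (s : Finset A) : Set (PrimeSpectrum A) :=
  {z | f ∉ z.asIdeal ∧ ∀ g ∈ s, g ∈ z.asIdeal}

variable {A I}

theorem mem_str {f : A} {s : Finset A} {z : PrimeSpectrum A} :
    z ∈ str A f s ↔ f ∉ z.asIdeal ∧ ∀ g ∈ s, g ∈ z.asIdeal := Iff.rfl

theorem one_str (z : PrimeSpectrum A) : z ∈ str A 1 ∅ :=
  ⟨z.isPrime.one_notMem, by simp⟩

theorem mul_str [DecidableEq A] (f g : A) (s t : Finset A) :
    str A (f * g) (s ∪ t) = str A f s ∩ str A g t := by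
  ext z
  simp only [mem_str, Set.mem_inter_iff, z.isPrime.mul_mem_iff_mem_or_mem, not_or, Finset.mem_union,
    or_imp, forall_and]
  tauto

theorem exists_str_inter {ι : Type*} (t : Finset ι) (f : ι → A) (s : ι → Finset A) :
    ∃ F : A, ∃ S : Finset A, str A F S = ⋂ i ∈ t, str A (f i) (s i) := by
  classical
  induction t using Finset.induction_on with
  | empty => exact ⟨1, ∅, by ext z; simpa using one_str z⟩
  | insert a t _ ih =>
    obtain ⟨F, S, h⟩ := ih
    exact ⟨f a * F, s a ∪ S, by rw [mul_str, h, Finset.set_biInter_insert]⟩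

theorem exists_str_compl {z : PrimeSpectrum A} {f : A} {s : Finset A} (hz : z ∉ str A f s) :
    ∃ F : A, ∃ S : Finset A, z ∈ str A F S ∧ Disjoint (str A F S) (str A f s) := by
  by_cases hf : f ∈ z.asIdeal
  · exact ⟨1, {f}, ⟨z.isPrime.one_notMem, by simpa using hf⟩,
      Set.disjoint_left.mpr fun w hw hw' => hw'.1 (hw.2 f (by simp))⟩
  · obtain ⟨g, hg, hgz⟩ : ∃ g ∈ s, g ∉ z.asIdeal := by
      by_contra h
      push Not at h
      exact hz ⟨hf, h⟩
    exact ⟨g, ∅, ⟨hgz, by simp⟩, Set.disjoint_left.mpr fun w hw hw' => hw.1 (hw'.2 g hg)⟩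

/-- `V(I)` is compact for the constructible topology. -/
theorem exists_finite_cover (f : Pt A I → A) (s : Pt A I → Finset A)
    (h : ∀ z : Pt A I, z.1 ∈ str A (f z) (s z)) :
    ∃ t : Finset (Pt A I), ∀ z : Pt A I, ∃ i ∈ t, z.1 ∈ str A (f i) (s i) := by
  have hZ : IsClosed[constructibleTopology (PrimeSpectrum A)]
      (PrimeSpectrum.zeroLocus (I : Set A)) :=
    Groth.L06.Spectral.isClosed_cons_of_isClosed (PrimeSpectrum.isClosed_zeroLocus _)
  have hop : ∀ (f : A) (s : Finset A), IsOpen[constructibleTopology (PrimeSpectrum A)] (str A f s) := by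
    intro f s
    have e : str A f s = (PrimeSpectrum.basicOpen f : Set (PrimeSpectrum A)) ∩
        ⋂ g ∈ (s : Set A), (PrimeSpectrum.basicOpen g : Set (PrimeSpectrum A))ᶜ := by
      ext z
      simp [mem_str]
    rw [e]
    exact @IsOpen.inter _ (constructibleTopology (PrimeSpectrum A)) _ _
      ((PrimeSpectrum.isCompact_basicOpen f).isOpen_constructibleTopology_of_isOpen
        (PrimeSpectrum.basicOpen f).isOpen)
      (@Set.Finite.isOpen_biInter _ _ (constructibleTopology (PrimeSpectrum A)) _ _ s.finite_toSet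
        fun g _ => IsCompact.isOpen_constructibleTopology_of_isClosed
          (by rw [compl_compl]; exact PrimeSpectrum.isCompact_basicOpen g)
          (PrimeSpectrum.basicOpen g).isOpen.isClosed_compl)
  obtain ⟨t, ht⟩ := @IsCompact.elim_finite_subcover (PrimeSpectrum A)
    (constructibleTopology (PrimeSpectrum A)) _ _
    (Groth.L06.Spectral.isCompact_cons_of_isClosed hZ) (fun i : Pt A I => str A (f i) (s i))
    (fun i => hop _ _) (fun z hz => Set.mem_iUnion.mpr ⟨⟨z, hz⟩, h ⟨z, hz⟩⟩)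
  refine ⟨t, fun z => ?_⟩
  obtain ⟨i, hi, hzi⟩ := Set.mem_iUnion₂.mp (ht z.2)
  exact ⟨i, hi, hzi⟩

variable (A I)

/-- The piecewise-fraction condition. -/
def IsPiecewise (σ : ∀ z : Pt A I, Localization.AtPrime z.1.asIdeal) : Prop :=
  ∀ z : Pt A I, ∃ (f : A) (s : Finset A) (a b : A), z.1 ∈ str A f s ∧
    ∀ w : Pt A I, w.1 ∈ str A f s → b ∉ w.1.asIdeal ∧
      σ w * algebraMap A _ b = algebraMap A _ a

/-- The w-localization along `V(I)`. -/
noncomputable def W : Subalgebra A (∀ z : Pt A I, Localization.AtPrime z.1.asIdeal) where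
  carrier := {σ | IsPiecewise A I σ}
  algebraMap_mem' c := fun z => ⟨1, ∅, c, 1, one_str _, fun w _ => ⟨w.1.isPrime.one_notMem, by
    rw [map_one, mul_one]; rfl⟩⟩
  mul_mem' {σ τ} hσ hτ := fun z => by
    classical
    obtain ⟨f, s, a, b, hz, h⟩ := hσ z
    obtain ⟨f', s', a', b', hz', h'⟩ := hτ z
    refine ⟨f * f', s ∪ s', a * a', b * b', by rw [mul_str]; exact ⟨hz, hz'⟩, fun w hw => ?_⟩
    rw [mul_str] at hw
    refine ⟨w.1.isPrime.mul_notMem (h w hw.1).1 (h' w hw.2).1, ?_⟩
    rw [map_mul, map_mul, ← (h w hw.1).2, ← (h' w hw.2).2, Pi.mul_apply]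
    ring
  add_mem' {σ τ} hσ hτ := fun z => by
    classical
    obtain ⟨f, s, a, b, hz, h⟩ := hσ z
    obtain ⟨f', s', a', b', hz', h'⟩ := hτ z
    refine ⟨f * f', s ∪ s', a * b' + a' * b, b * b', by rw [mul_str]; exact ⟨hz, hz'⟩, fun w hw => ?_⟩
    rw [mul_str] at hw
    refine ⟨w.1.isPrime.mul_notMem (h w hw.1).1 (h' w hw.2).1, ?_⟩
    rw [map_mul, map_add, map_mul, map_mul, ← (h w hw.1).2, ← (h' w hw.2).2, Pi.add_apply]
    ring

variable {A I}

theorem W_piecewise (σ : W A I) : IsPiecewise A I σ.1 := σ.2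

theorem W_ext {σ τ : W A I} (h : ∀ z, σ.1 z = τ.1 z) : σ = τ := Subtype.ext (funext h)

open Classical in
/-- The idempotent of a stratum. -/
noncomputable def χ (f : A) (s : Finset A) : W A I :=
  ⟨fun z => if z.1 ∈ str A f s then 1 else 0, fun z => by
    by_cases h : z.1 ∈ str A f s
    · exact ⟨f, s, 1, 1, h, fun w hw => ⟨w.1.isPrime.one_notMem, by simp [hw]⟩⟩
    · obtain ⟨F, S, hzF, hd⟩ := exists_str_compl h
      exact ⟨F, S, 0, 1, hzF, fun w hw =>
        ⟨w.1.isPrime.one_notMem, by simp [Set.disjoint_left.mp hd hw]⟩⟩⟩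

open Classical in
/-- `1/b` on `D(b)` and `0` on `V(b)`. -/
noncomputable def inv (b : A) : W A I :=
  ⟨fun z => if h : b ∈ z.1.asIdeal then 0 else
      IsLocalization.mk' (M := z.1.asIdeal.primeCompl) _ 1 ⟨b, h⟩, fun z => by
    by_cases h : b ∈ z.1.asIdeal
    · exact ⟨1, {b}, 0, 1, ⟨z.1.isPrime.one_notMem, by simpa using h⟩, fun w hw =>
        ⟨w.1.isPrime.one_notMem, by simp [hw.2 b (by simp)]⟩⟩
    · exact ⟨b, ∅, 1, b, ⟨h, by simp⟩, fun w hw => ⟨hw.1, by
        simp only [dif_neg hw.1]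
        exact IsLocalization.mk'_spec (M := w.1.asIdeal.primeCompl) _ 1 ⟨b, hw.1⟩⟩⟩⟩

theorem χ_apply_mem {f : A} {s : Finset A} {z : Pt A I} (h : z.1 ∈ str A f s) :
    (χ f s : W A I).1 z = 1 := by
  simp [χ, h]

theorem χ_apply_notMem {f : A} {s : Finset A} {z : Pt A I} (h : z.1 ∉ str A f s) :
    (χ f s : W A I).1 z = 0 := by
  simp [χ, h]

theorem inv_spec {b : A} {z : Pt A I} (h : b ∉ z.1.asIdeal) :
    (inv b : W A I).1 z * algebraMap A _ b = 1 := by
  simp only [inv, dif_neg h]
  rw [IsLocalization.mk'_spec (M := z.1.asIdeal.primeCompl) _ 1 ⟨b, h⟩, map_one]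

theorem algebraMap_apply (a : A) (z : Pt A I) :
    (algebraMap A (W A I) a).1 z = algebraMap A (Localization.AtPrime z.1.asIdeal) a := rfl

variable (I) in
/-- Evaluation at a point. -/
noncomputable def ev (z : Pt A I) : W A I →ₐ[A] Localization.AtPrime z.1.asIdeal :=
  (Pi.evalAlgHom A (fun z : Pt A I => Localization.AtPrime z.1.asIdeal) z).comp (W A I).val

theorem ev_apply (z : Pt A I) (σ : W A I) : ev I z σ = σ.1 z := rfl

theorem ev_surjective (z : Pt A I) : Function.Surjective (ev I z) := by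
  intro x
  obtain ⟨a, b, rfl⟩ := IsLocalization.exists_mk'_eq z.1.asIdeal.primeCompl x
  refine ⟨algebraMap A (W A I) a * inv (b : A), ?_⟩
  rw [IsLocalization.eq_mk'_iff_mul_eq]
  change (algebraMap A _ a * (inv (b : A) : W A I).1 z) * algebraMap A _ (b : A) = algebraMap A _ a
  rw [mul_assoc, inv_spec (z := z) b.2, mul_one]

variable (I) in
/-- The maximal ideal attached to a point. -/
noncomputable def nIdeal (z : Pt A I) : Ideal (W A I) :=
  (IsLocalRing.maximalIdeal (Localization.AtPrime z.1.asIdeal)).comap (ev I z)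

theorem nIdeal_isMaximal (z : Pt A I) : (nIdeal I z).IsMaximal :=
  Ideal.comap_isMaximal_of_surjective _ (ev_surjective z)

theorem nIdeal_comap (z : Pt A I) : (nIdeal I z).comap (algebraMap A (W A I)) = z.1.asIdeal := by
  ext a
  rw [Ideal.mem_comap]
  change ev I z (algebraMap A (W A I) a) ∈ IsLocalRing.maximalIdeal _ ↔ _
  rw [(ev I z).commutes, IsLocalization.AtPrime.to_map_mem_maximal_iff (Localization.AtPrime z.1.asIdeal) z.1.asIdeal]

/-- Every prime contains the kernel of an evaluation map. -/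
theorem exists_ker_le (q : Ideal (W A I)) [hq : q.IsPrime] :
    ∃ z : Pt A I, RingHom.ker (ev I z) ≤ q := by
  classical
  suffices ∃ z : Pt A I, ∀ f s, z.1 ∈ str A f s → χ f s ∉ q by
    obtain ⟨z, hz⟩ := this
    refine ⟨z, fun σ hσ => ?_⟩
    obtain ⟨f, s, a, b, hzC, h⟩ := W_piecewise σ z
    have ha : algebraMap A (Localization.AtPrime z.1.asIdeal) a = 0 := by
      rw [← (h z hzC).2, show σ.1 z = 0 from hσ, zero_mul]
    obtain ⟨t, ht⟩ := (IsLocalization.map_eq_zero_iff z.1.asIdeal.primeCompl _ a).mp ha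
    have hmem : z.1 ∈ str A (f * t) s := ⟨z.1.isPrime.mul_notMem hzC.1 t.2, hzC.2⟩
    have h0 : σ * χ (f * t) s = 0 := by
      refine W_ext fun w => ?_
      change σ.1 w * (χ (f * t) s : W A I).1 w = 0
      by_cases hw : w.1 ∈ str A (f * t) s
      · rw [χ_apply_mem hw, mul_one]
        have hwC : w.1 ∈ str A f s := ⟨fun hf => hw.1 (Ideal.mul_mem_right _ _ hf), hw.2⟩
        have htw : (t : A) ∉ w.1.asIdeal := fun ht' => hw.1 (Ideal.mul_mem_left _ _ ht')
        have ha' : algebraMap A (Localization.AtPrime w.1.asIdeal) a = 0 :=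
          (IsLocalization.map_eq_zero_iff w.1.asIdeal.primeCompl _ a).mpr ⟨⟨t, htw⟩, ht⟩
        have := (h w hwC).2
        rw [ha'] at this
        exact ((IsLocalization.map_units (Localization.AtPrime w.1.asIdeal)
          (⟨b, (h w hwC).1⟩ : w.1.asIdeal.primeCompl)).mul_left_eq_zero).mp this
      · rw [χ_apply_notMem hw, mul_zero]
    exact (hq.mem_or_mem (h0 ▸ q.zero_mem)).resolve_right (hz _ _ hmem)
  by_contra hno
  push Not at hno
  choose f s hmem hχ using hno
  obtain ⟨t, ht⟩ := exists_finite_cover f s hmem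
  have h0 : ∏ i ∈ t, (1 - χ (f i) (s i) : W A I) = 0 := by
    refine W_ext fun z => ?_
    obtain ⟨i, hi, hzi⟩ := ht z
    change ev I z (∏ i ∈ t, (1 - χ (f i) (s i))) = 0
    rw [map_prod]
    refine Finset.prod_eq_zero hi ?_
    rw [map_sub, map_one, ev_apply, χ_apply_mem hzi, sub_self]
  obtain ⟨i, hi, hiq⟩ := hq.prod_mem_iff.mp (h0 ▸ q.zero_mem)
  exact hq.one_notMem (by simpa using add_mem hiq (hχ i))

theorem ker_le_unique (q : Ideal (W A I)) [hq : q.IsPrime] {z z' : Pt A I}
    (h : RingHom.ker (ev I z) ≤ q) (h' : RingHom.ker (ev I z') ≤ q) : z = z' := by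
  classical
  by_contra hne
  wlog hgz : ∃ g ∈ z.1.asIdeal, g ∉ z'.1.asIdeal generalizing z z'
  · refine this h' h (Ne.symm hne) ?_
    by_contra hno
    push Not at hno hgz
    exact hne (Subtype.ext (PrimeSpectrum.ext (le_antisymm hgz hno)))
  obtain ⟨g, hg, hg'⟩ := hgz
  have h1 : (χ g ∅ : W A I) ∈ q := h (χ_apply_notMem fun hh => hh.1 hg)
  have h2 : (1 - χ g ∅ : W A I) ∈ q := h' (by
    change ev I z' (1 - χ g ∅) = 0
    rw [map_sub, map_one, ev_apply, χ_apply_mem ⟨hg', by simp⟩, sub_self])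
  exact hq.one_notMem (by simpa using add_mem h1 h2)

theorem ker_le_nIdeal (z : Pt A I) : RingHom.ker (ev I z) ≤ nIdeal I z :=
  fun σ hσ => by
    change ev I z σ ∈ IsLocalRing.maximalIdeal _
    rw [show ev I z σ = 0 from hσ]
    exact zero_mem _

theorem le_nIdeal_of_ker_le (q : Ideal (W A I)) [hq : q.IsPrime] {z : Pt A I}
    (h : RingHom.ker (ev I z) ≤ q) : q ≤ nIdeal I z := by
  have hp : (q.map (ev I z).toRingHom).IsPrime := Ideal.map_isPrime_of_surjective (ev_surjective z) h
  intro σ hσ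
  exact IsLocalRing.le_maximalIdeal hp.ne_top (Ideal.mem_map_of_mem (ev I z).toRingHom hσ)

theorem nIdeal_eq_of_le (q : Ideal (W A I)) [q.IsPrime] {z : Pt A I} (hle : q ≤ nIdeal I z) :
    RingHom.ker (ev I z) ≤ q := by
  obtain ⟨z', hz'⟩ := exists_ker_le q
  haveI := (nIdeal_isMaximal z).isPrime
  exact ker_le_unique (nIdeal I z) (ker_le_nIdeal z) (hz'.trans hle) ▸ hz'

theorem exists_nIdeal_eq (m : Ideal (W A I)) [hm : m.IsMaximal] : ∃ z, m = nIdeal I z := by
  obtain ⟨z, hz⟩ := exists_ker_le m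
  exact ⟨z, hm.eq_of_le (nIdeal_isMaximal z).ne_top (le_nIdeal_of_ker_le m hz)⟩

variable (A I) in
/-- The ideal of elements vanishing at every closed point. -/
noncomputable def N : Ideal (W A I) := ⨅ z : Pt A I, nIdeal I z

theorem eq_nIdeal_of_N_le (q : Ideal (W A I)) [hq : q.IsPrime] (h : N A I ≤ q) :
    ∃ z, q = nIdeal I z := by
  classical
  obtain ⟨z, hz⟩ := exists_ker_le q
  refine ⟨z, le_antisymm (le_nIdeal_of_ker_le q hz) fun σ hσ => ?_⟩
  obtain ⟨f, s, a, b, hzC, hC⟩ := W_piecewise σ z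
  have haz : a ∈ z.1.asIdeal := by
    rw [← IsLocalization.AtPrime.to_map_mem_maximal_iff (Localization.AtPrime z.1.asIdeal) z.1.asIdeal,
      ← (hC z hzC).2]
    exact Ideal.mul_mem_right _ _ hσ
  have hzC' : z.1 ∈ str A f (insert a s) := ⟨hzC.1, by simpa [haz] using hzC.2⟩
  have hN : σ * χ f (insert a s) ∈ N A I := by
    simp only [N, Ideal.mem_iInf]
    intro w
    change ev I w (σ * χ f (insert a s)) ∈ IsLocalRing.maximalIdeal _
    rw [map_mul]
    by_cases hw : w.1 ∈ str A f (insert a s)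
    · have hwC : w.1 ∈ str A f s := ⟨hw.1, fun g hg => hw.2 g (Finset.mem_insert_of_mem hg)⟩
      refine Ideal.mul_mem_right _ _ ?_
      rw [ev_apply, ← Ideal.mul_unit_mem_iff_mem _
        (IsLocalization.map_units (Localization.AtPrime w.1.asIdeal)
          (⟨b, (hC w hwC).1⟩ : w.1.asIdeal.primeCompl)), (hC w hwC).2,
        IsLocalization.AtPrime.to_map_mem_maximal_iff (Localization.AtPrime w.1.asIdeal) w.1.asIdeal]
      exact hw.2 a (Finset.mem_insert_self _ _)
    · rw [ev_apply w (χ f (insert a s)), χ_apply_notMem hw, mul_zero]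
      exact zero_mem _
  refine (hq.mem_or_mem (h hN)).resolve_right fun hmem => hq.one_notMem ?_
  have : (1 - χ f (insert a s) : W A I) ∈ q := hz (by
    change ev I z (1 - χ f (insert a s)) = 0
    rw [map_sub, map_one, ev_apply, χ_apply_mem hzC', sub_self])
  simpa using add_mem hmem this

theorem zeroLocus_N : PrimeSpectrum.zeroLocus (N A I : Set (W A I)) =
    ProEtW.closedPoints (PrimeSpectrum (W A I)) := by
  ext q
  rw [PrimeSpectrum.mem_zeroLocus, ProEtW.closedPoints, Set.mem_ofPred_eq,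
    PrimeSpectrum.isClosed_singleton_iff_isMaximal]
  constructor
  · intro h
    obtain ⟨z, hz⟩ := eq_nIdeal_of_N_le q.asIdeal h
    rw [hz]
    exact nIdeal_isMaximal z
  · intro h
    obtain ⟨z, hz⟩ := exists_nIdeal_eq q.asIdeal
    intro σ hσ
    rw [hz]
    exact (iInf_le _ z : N A I ≤ nIdeal I z) hσ

theorem isWLocal : ProEtW.IsWLocal (PrimeSpectrum (W A I)) := by
  refine ⟨inferInstance, ?_, fun x => ?_⟩
  · have := zeroLocus_N (A := A) (I := I)
    rw [ProEtW.closedPoints] at this
    rw [← this]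
    exact PrimeSpectrum.isClosed_zeroLocus _
  · obtain ⟨z, hz⟩ := exists_ker_le x.asIdeal
    refine ⟨⟨nIdeal I z, (nIdeal_isMaximal z).isPrime⟩,
      ⟨(PrimeSpectrum.isClosed_singleton_iff_isMaximal _).mpr (nIdeal_isMaximal z),
        (PrimeSpectrum.le_iff_specializes _ _).mp (le_nIdeal_of_ker_le _ hz)⟩, ?_⟩
    rintro y ⟨hy, hxy⟩
    haveI := (PrimeSpectrum.isClosed_singleton_iff_isMaximal y).mp hy
    obtain ⟨z', hz'⟩ := exists_nIdeal_eq y.asIdeal
    have hle : x.asIdeal ≤ nIdeal I z' := hz' ▸ (PrimeSpectrum.le_iff_specializes _ _).mpr hxy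
    obtain rfl : z = z' := ker_le_unique x.asIdeal hz (nIdeal_eq_of_le x.asIdeal hle)
    exact PrimeSpectrum.ext hz'

theorem exists_eq_mk' (σ : W A I) (z : Pt A I) :
    ∃ (f : A) (s : Finset A) (a b : A), z.1 ∈ str A f s ∧
      ∀ w : Pt A I, w.1 ∈ str A f s → b ∉ w.1.asIdeal ∧ σ.1 w * algebraMap A _ b = algebraMap A _ a :=
  W_piecewise σ z

variable (A I) in
theorem indZariski : EtPBC.IsIndZariski A (W A I) := by
  classical
  rw [IndZariski.isIndZariski_iff_exists_factor]
  intro P _ _ _ φ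
  obtain ⟨n, π, hπ, R, hR⟩ := Algebra.FinitePresentation.out (R := A) (A := P)
  let x : Fin n → W A I := fun i => φ (π (.X i))
  -- data at each point
  have local_data : ∀ z : Pt A I, ∃ (F : A) (S : Finset A) (h : A) (η : P →ₐ[A] Localization.Away h),
      z.1 ∈ str A F S ∧ ∀ w : Pt A I, w.1 ∈ str A F S → h ∉ w.1.asIdeal ∧
        ∀ (L : Localization.Away h →ₐ[A] Localization.AtPrime w.1.asIdeal) (p : P),
          L (η p) = ev I w (φ p) := by
    intro z
    choose f s a b hzC hC using fun i => exists_eq_mk' (x i) z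
    obtain ⟨F, S, hFS⟩ := exists_str_inter Finset.univ f s
    let B := ∏ i, b i
    have hB : ∀ w : Pt A I, w.1 ∈ str A F S → B ∉ w.1.asIdeal := fun w hw hmem => by
      obtain ⟨i, -, hi⟩ := (w.1.isPrime.prod_mem_iff).mp hmem
      rw [hFS] at hw
      exact (hC i w (Set.mem_iInter₂.mp hw i (Finset.mem_univ i))).1 hi
    have hzFS : z.1 ∈ str A F S := by
      rw [hFS]
      exact Set.mem_iInter₂.mpr fun i _ => hzC i
    let η₀ : MvPolynomial (Fin n) A →ₐ[A] Localization.Away B :=
      MvPolynomial.aeval fun i => algebraMap A _ (a i * ∏ j ∈ Finset.univ.erase i, b j) *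
        IsLocalization.Away.invSelf B
    have hη₀ : ∀ (w : Pt A I), w.1 ∈ str A F S →
        ∀ (L : Localization.Away B →ₐ[A] Localization.AtPrime w.1.asIdeal),
        L.comp η₀ = (ev I w).comp (φ.comp π) := fun w hw L => by
      refine MvPolynomial.algHom_ext fun i => ?_
      have hwC : w.1 ∈ str A (f i) (s i) := by
        rw [hFS] at hw
        exact Set.mem_iInter₂.mp hw i (Finset.mem_univ i)
      have hu : IsUnit (algebraMap A (Localization.AtPrime w.1.asIdeal) B) :=
        IsLocalization.map_units _ (⟨B, hB w hw⟩ : w.1.asIdeal.primeCompl)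
      refine hu.mul_right_cancel ?_
      change L (η₀ (.X i)) * _ = (x i).1 w * _
      rw [show algebraMap A (Localization.AtPrime w.1.asIdeal) B =
          algebraMap A _ (b i) * algebraMap A _ (∏ j ∈ Finset.univ.erase i, b j) by
        rw [← map_mul, Finset.mul_prod_erase _ b (Finset.mem_univ i)]]
      rw [← mul_assoc ((x i).1 w), (hC i w hwC).2]
      simp only [η₀, MvPolynomial.aeval_X, map_mul, AlgHom.commutes]
      have hL : L (IsLocalization.Away.invSelf B) * (algebraMap A (Localization.AtPrime w.1.asIdeal) (b i) *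
          algebraMap A _ (∏ j ∈ Finset.univ.erase i, b j)) = 1 := by
        rw [← map_mul, Finset.mul_prod_erase _ b (Finset.mem_univ i), mul_comm, ← L.commutes, ← map_mul,
          IsLocalization.Away.mul_invSelf, map_one]
      rw [mul_assoc _ (L _), hL, mul_one]
    let LB : ∀ (c : A) (w : Pt A I), c ∉ w.1.asIdeal →
        (Localization.Away c →ₐ[A] Localization.AtPrime w.1.asIdeal) := fun c w hc =>
      IsLocalization.liftAlgHom (M := Submonoid.powers c) (f := Algebra.ofId A _) fun y => by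
        obtain ⟨k, hk⟩ := y.2
        rw [show (y : A) = c ^ k from hk.symm, map_pow]
        exact (IsLocalization.map_units (Localization.AtPrime w.1.asIdeal)
          (⟨c, hc⟩ : w.1.asIdeal.primeCompl)).pow k
    have hkill : ∀ r ∈ R, ∃ t : A, t ∉ z.1.asIdeal ∧ algebraMap A _ t * η₀ r = 0 := by
      intro r hr
      obtain ⟨k, c, hc⟩ := IsLocalization.Away.surj B (η₀ r)
      have h0 : LB B z (hB z hzFS) (η₀ r) = 0 := by
        have := AlgHom.congr_fun (hη₀ z hzFS (LB B z (hB z hzFS))) r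
        simp only [AlgHom.comp_apply] at this
        rw [this, show π r = 0 from hR.le (Ideal.subset_span hr), map_zero, map_zero]
      have hc0 : algebraMap A (Localization.AtPrime z.1.asIdeal) c = 0 := by
        rw [← (LB B z (hB z hzFS)).commutes, ← hc, map_mul, h0, zero_mul]
      obtain ⟨t, ht⟩ := (IsLocalization.map_eq_zero_iff z.1.asIdeal.primeCompl _ c).mp hc0
      refine ⟨t, t.2, ?_⟩
      rw [← ((IsLocalization.Away.algebraMap_isUnit B).pow k).mul_left_eq_zero, mul_assoc, hc, ← map_mul,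
        ht, map_zero]
    choose! t htz ht using hkill
    let T := ∏ r ∈ R, t r
    let h := B * T
    let g : Localization.Away B →ₐ[A] Localization.Away h :=
      IsLocalization.liftAlgHom (M := Submonoid.powers B) (f := Algebra.ofId A _) fun y => by
        obtain ⟨k, hk⟩ := y.2
        rw [show (y : A) = B ^ k from hk.symm, map_pow]
        refine IsUnit.pow k (isUnit_of_mul_isUnit_left (y := algebraMap A (Localization.Away h) T) ?_)
        rw [Algebra.ofId_apply, ← map_mul]
        exact IsLocalization.Away.algebraMap_isUnit h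
    have hT : IsUnit (algebraMap A (Localization.Away h) T) := by
      refine isUnit_of_mul_isUnit_right (x := algebraMap A (Localization.Away h) B) ?_
      rw [← map_mul]
      exact IsLocalization.Away.algebraMap_isUnit h
    have hker : RingHom.ker π ≤ RingHom.ker (g.comp η₀) := by
      refine hR.ge.trans (Ideal.span_le.mpr fun r hr => ?_)
      have hu : IsUnit (algebraMap A (Localization.Away h) (t r)) := by
        refine isUnit_of_mul_isUnit_left (y := algebraMap A (Localization.Away h) (∏ j ∈ R.erase r, t j)) ?_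
        rw [← map_mul, Finset.mul_prod_erase _ _ hr]
        exact hT
      have := congrArg g (ht r hr)
      rw [map_mul, g.commutes, map_zero] at this
      exact hu.mul_right_eq_zero.mp this
    refine ⟨F * T, S, h, AlgHom.liftOfSurjective π hπ (g.comp η₀) hker, ⟨z.1.isPrime.mul_notMem hzFS.1
      (fun hmem => by
        obtain ⟨r, hr, hr'⟩ := (z.1.isPrime.prod_mem_iff).mp hmem
        exact htz r hr hr'), hzFS.2⟩, fun w hw => ?_⟩
    have hwFS : w.1 ∈ str A F S := ⟨fun hF => hw.1 (Ideal.mul_mem_right _ _ hF), hw.2⟩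
    refine ⟨w.1.isPrime.mul_notMem (hB w hwFS) fun hmem => hw.1 (Ideal.mul_mem_left _ _ hmem),
      fun L p => ?_⟩
    obtain ⟨q, rfl⟩ := hπ p
    rw [show AlgHom.liftOfSurjective π hπ (g.comp η₀) hker (π q) = g (η₀ q) from
      AlgHom.congr_fun (AlgHom.liftOfSurjective_comp π hπ (g.comp η₀) hker) q]
    exact AlgHom.congr_fun (hη₀ w hwFS (L.comp g)) q
  choose F S h η hmem hdata using local_data
  obtain ⟨t, ht⟩ := exists_finite_cover F S hmem
  obtain ⟨m, ⟨et⟩⟩ := Finite.exists_equiv_fin t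
  let c : Fin m → Pt A I := fun i => (et.symm i).1
  have hcov : ∀ w : Pt A I, (Finset.univ.filter fun i => w.1 ∈ str A (F (c i)) (S (c i))).Nonempty := by
    intro w
    obtain ⟨i, hi, hwi⟩ := ht w
    exact ⟨et ⟨i, hi⟩, by simp [c, hwi]⟩
  let idx : Pt A I → Fin m := fun w => (Finset.univ.filter fun i => w.1 ∈ str A (F (c i)) (S (c i))).min' (hcov w)
  have hidx : ∀ w, w.1 ∈ str A (F (c (idx w))) (S (c (idx w))) := fun w =>
    (Finset.mem_filter.mp (Finset.min'_mem _ (hcov w))).2
  let L : ∀ w : Pt A I, Localization.Away (h (c (idx w))) →ₐ[A] Localization.AtPrime w.1.asIdeal := fun w =>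
    IsLocalization.liftAlgHom (M := Submonoid.powers (h (c (idx w)))) (f := Algebra.ofId A _) fun y => by
      obtain ⟨k, hk⟩ := y.2
      rw [show (y : A) = h (c (idx w)) ^ k from hk.symm, map_pow]
      exact (IsLocalization.map_units (Localization.AtPrime w.1.asIdeal)
        (⟨_, (hdata _ w (hidx w)).1⟩ : w.1.asIdeal.primeCompl)).pow k
  let E := ∀ i : Fin m, Localization.Away (h (c i))
  haveI : Algebra.IsLocalIso A E :=
    Algebra.IsLocalIso.pi_of_finite A fun i : Fin m => Localization.Away (h (c i))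
  let β₀ : E →ₐ[A] ∀ w : Pt A I, Localization.AtPrime w.1.asIdeal :=
    AlgHom.pi fun w => (L w).comp (Pi.evalAlgHom A _ (idx w))
  have hβ : ∀ e : E, β₀ e ∈ W A I := by
    intro e z
    obtain ⟨k, a, ha⟩ := IsLocalization.Away.surj (h (c (idx z))) (e (idx z))
    have hex : ∀ j : Fin m, ∃ (G : A) (T : Finset A), z.1 ∈ str A G T ∧
        ∀ w ∈ str A G T, (w ∈ str A (F (c j)) (S (c j)) ↔ z.1 ∈ str A (F (c j)) (S (c j))) := by
      intro j
      by_cases hj : z.1 ∈ str A (F (c j)) (S (c j))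
      · exact ⟨_, _, hj, fun w hw => iff_of_true hw hj⟩
      · obtain ⟨G, T, hG, hd⟩ := exists_str_compl hj
        exact ⟨G, T, hG, fun w hw => iff_of_false (Set.disjoint_left.mp hd hw) hj⟩
    choose G T hG hGT using hex
    obtain ⟨G', T', hG'⟩ := exists_str_inter Finset.univ G T
    refine ⟨G', T', a, h (c (idx z)) ^ k, ?_, fun w hw => ?_⟩
    · rw [hG']
      exact Set.mem_iInter₂.mpr fun j _ => hG j
    · rw [hG'] at hw
      have heq : idx w = idx z := by
        simp only [idx]
        congr 1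
        exact Finset.filter_congr fun j _ => hGT j _ (Set.mem_iInter₂.mp hw j (Finset.mem_univ j))
      have key : ∀ i : Fin m, i = idx w →
          h (c i) ∉ w.1.asIdeal ∧ ∀ k a, e i * algebraMap A _ (h (c i)) ^ k = algebraMap A _ a →
            (β₀ e) w * algebraMap A (Localization.AtPrime w.1.asIdeal) (h (c i)) ^ k = algebraMap A _ a := by
        rintro i rfl
        refine ⟨(hdata _ w (hidx w)).1, fun k a ha => ?_⟩
        change L w (e (idx w)) * _ = _
        rw [← (L w).commutes, ← (L w).commutes a, ← map_pow, ← map_mul, ha]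
      obtain ⟨h1, h2⟩ := key (idx z) heq.symm
      refine ⟨fun hmem => h1 (w.1.isPrime.mem_of_pow_mem k hmem), ?_⟩
      rw [map_pow]
      exact h2 k a ha
  refine ⟨E, inferInstance, inferInstance, AlgHom.pi fun i => η (c i), β₀.codRestrict (W A I) hβ,
    inferInstance, ?_⟩
  refine AlgHom.ext fun p => W_ext fun w => ?_
  exact (hdata (c (idx w)) w (hidx w)).2 (L w) p

variable (A I) in
theorem flat : Module.Flat A (W A I) := IndZariski.flat A (W A I) (indZariski A I)

theorem bijOn_closedPoints : Set.BijOn (PrimeSpectrum.comap (algebraMap A (W A I)))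
    (ProEtW.closedPoints (PrimeSpectrum (W A I))) (PrimeSpectrum.zeroLocus (I : Set A)) := by
  refine ⟨fun q hq => ?_, fun q hq q' hq' h => ?_, fun z hz => ?_⟩
  · haveI := (PrimeSpectrum.isClosed_singleton_iff_isMaximal q).mp hq
    obtain ⟨z, hz⟩ := exists_nIdeal_eq q.asIdeal
    change I ≤ q.asIdeal.comap _
    rw [hz, nIdeal_comap]
    exact z.2
  · haveI := (PrimeSpectrum.isClosed_singleton_iff_isMaximal q).mp hq
    haveI := (PrimeSpectrum.isClosed_singleton_iff_isMaximal q').mp hq'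
    obtain ⟨z, hz⟩ := exists_nIdeal_eq q.asIdeal
    obtain ⟨z', hz'⟩ := exists_nIdeal_eq q'.asIdeal
    have := congrArg PrimeSpectrum.asIdeal h
    simp only [PrimeSpectrum.comap_asIdeal, hz, hz', nIdeal_comap] at this
    obtain rfl : z = z' := Subtype.ext (PrimeSpectrum.ext this)
    exact PrimeSpectrum.ext (hz.trans hz'.symm)
  · exact ⟨⟨nIdeal I ⟨z, hz⟩, (nIdeal_isMaximal _).isPrime⟩,
      (PrimeSpectrum.isClosed_singleton_iff_isMaximal _).mpr (nIdeal_isMaximal _),
      PrimeSpectrum.ext (nIdeal_comap _)⟩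

theorem exists_wLocalization (A : Type u) [CommRing A] :
    ∃ (Aw : Type u) (_ : CommRing Aw) (_ : Algebra A Aw), Module.FaithfullyFlat A Aw ∧
      EtPBC.IsIndZariski A Aw ∧ ProEtW.IsWLocal (PrimeSpectrum Aw) ∧
      Set.BijOn (PrimeSpectrum.comap (algebraMap A Aw))
        (ProEtW.closedPoints (PrimeSpectrum Aw)) Set.univ := by
  have hb := bijOn_closedPoints (A := A) (I := ⊥)
  rw [show PrimeSpectrum.zeroLocus ((⊥ : Ideal A) : Set A) = Set.univ by simp] at hb
  haveI := flat A ⊥
  refine ⟨W A ⊥, inferInstance, inferInstance, Module.FaithfullyFlat.of_comap_surjective fun z => ?_,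
    indZariski A ⊥, isWLocal, hb⟩
  obtain ⟨q, -, hq⟩ := hb.surjOn (Set.mem_univ z)
  exact ⟨q, hq⟩

end Groth.L27.WConstruction
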