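import Groth.Agent.L27.WContractible
import Mathlib.RingTheory.Localization.LocalizationLocalization

/-! Localizations of w-contractible rings at closed sets. -/

set_option autoImplicit false
set_option linter.style.haveILetI false
universe u

open Topology

namespace Groth.L27.WContractible

theorem extremallyDisconnected_of_isOpen {X : Type u} [TopologicalSpace X] [ExtremallyDisconnected X]
    {T : Set X} (hT : IsOpen T) : ExtremallyDisconnected T := by
  refine ⟨fun U hU => ?_⟩
  have h1 : IsOpen (Subtype.val '' U) := hT.isOpenMap_subtype_val U hU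
  rw [show closure U = Subtype.val ⁻¹' closure (Subtype.val '' U) from
    Set.ext fun x => closure_subtype]
  exact (ExtremallyDisconnected.open_closure _ h1).preimage continuous_subtype_val

theorem localization_specializing (A B : Type u) [CommRing A] [CommRing B]
    [Algebra A B] (S : Submonoid A) [IsLocalization S B] (E : Finset A)
    (hB : Set.range (PrimeSpectrum.comap (algebraMap A B)) =
      {x | ∃ z : PrimeSpectrum A, z ∈ PrimeSpectrum.zeroLocus (R := A) E ∧ x ⤳ z})
    (hA : EtPBC.IsWContractible A) : EtPBC.IsWContractible B := by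
  classical
  obtain ⟨h1, h2, h3⟩ := (iff_conditions A).mp hA
  haveI := h1.1
  let f := PrimeSpectrum.comap (algebraMap A B)
  have hf : IsEmbedding f := PrimeSpectrum.localization_comap_isEmbedding B S
  let C : Set (PrimeSpectrum A) := {x | IsClosed ({x} : Set (PrimeSpectrum A))}
  have hcl : ∀ q : PrimeSpectrum B, IsClosed ({q} : Set (PrimeSpectrum B)) ↔ f q ∈ C := by
    intro q
    constructor
    · intro hq
      obtain ⟨z, hzE, hqz⟩ := (hB ▸ Set.mem_range_self q : f q ∈ {x | ∃ z : PrimeSpectrum A,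
        z ∈ PrimeSpectrum.zeroLocus (R := A) E ∧ x ⤳ z})
      obtain ⟨c, ⟨hc, hzc⟩, -⟩ := h1.2.2 z
      have hcE : c ∈ PrimeSpectrum.zeroLocus (R := A) E :=
        (PrimeSpectrum.isClosed_zeroLocus _).stableUnderSpecialization hzc hzE
      obtain ⟨r, hr⟩ : c ∈ Set.range f := hB.symm ▸ ⟨c, hcE, specializes_rfl⟩
      have hqr : q ⤳ r := hf.isInducing.specializes_iff.mp (hr ▸ hqz.trans hzc)
      have : r ∈ ({q} : Set (PrimeSpectrum B)) := hq.stableUnderSpecialization hqr rfl
      rw [show q = r from (Set.mem_singleton_iff.mp this).symm, hr]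
      exact hc
    · intro h
      rw [show ({q} : Set (PrimeSpectrum B)) = f ⁻¹' {f q} from
        Set.ext fun r => (hf.injective.eq_iff).symm]
      exact IsClosed.preimage (PrimeSpectrum.continuous_comap _) h
  have hBw : ProEtW.IsWLocal (PrimeSpectrum B) := by
    refine ⟨inferInstance, ?_, fun q => ?_⟩
    · rw [show {q : PrimeSpectrum B | IsClosed ({q} : Set (PrimeSpectrum B))} = f ⁻¹' C from Set.ext hcl]
      exact h1.2.1.preimage (PrimeSpectrum.continuous_comap _)
    · obtain ⟨z, hzE, hqz⟩ := (hB ▸ Set.mem_range_self q : f q ∈ {x | ∃ z : PrimeSpectrum A,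
        z ∈ PrimeSpectrum.zeroLocus (R := A) E ∧ x ⤳ z})
      obtain ⟨c, ⟨hc, hzc⟩, hu⟩ := h1.2.2 z
      obtain ⟨r, hr⟩ : c ∈ Set.range f := hB.symm ▸ ⟨c,
        (PrimeSpectrum.isClosed_zeroLocus _).stableUnderSpecialization hzc hzE, specializes_rfl⟩
      refine ⟨r, ⟨(hcl r).mpr (hr ▸ hc), hf.isInducing.specializes_iff.mp (hr ▸ hqz.trans hzc)⟩, ?_⟩
      rintro w ⟨hw, hqw⟩
      obtain ⟨c', -, hu'⟩ := h1.2.2 (f q)
      refine hf.injective ?_
      rw [hu' (f w) ⟨(hcl w).mp hw, hqw.map (PrimeSpectrum.continuous_comap _)⟩, hr,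
        hu' c ⟨hc, hqz.trans hzc⟩]
  haveI := hBw.1
  haveI : T2Space (ConnectedComponents (PrimeSpectrum A)) := ProfinitePullback.t2_components
  haveI : T2Space (ConnectedComponents (PrimeSpectrum B)) := ProfinitePullback.t2_components
  have bA := Spectral.components_bijective_of_unique_specialization h1.2.1 h1.2.2
  have bB := Spectral.components_bijective_of_unique_specialization hBw.2.1 hBw.2.2
  haveI : SpectralSpace C := WLocal.spectralSpace_closed C h1.2.1
  haveI : T1Space C := ⟨fun x => by
    rw [show ({x} : Set C) = Subtype.val ⁻¹' {(x : PrimeSpectrum A)} from Set.ext fun y => Subtype.ext_iff]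
    exact x.2.preimage continuous_subtype_val⟩
  obtain ⟨hCc, hCt, -⟩ := WLocal.isProfinite_of_t1 C
  let T₀ : Set C := {c | c.1 ∈ PrimeSpectrum.zeroLocus (R := A) E}
  have hT₀ : IsClopen T₀ := by
    refine ⟨(PrimeSpectrum.isClosed_zeroLocus _).preimage continuous_subtype_val, ?_⟩
    rw [show T₀ = ⋂ e ∈ E, {c : C | e ∈ c.1.asIdeal} by
      ext c; simp [T₀, PrimeSpectrum.mem_zeroLocus, Set.subset_def]]
    refine isOpen_biInter_finset fun e _ => ?_
    rw [← isClosed_compl_iff]
    have : IsCompact ({c : C | e ∈ c.1.asIdeal}ᶜ) := by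
      rw [IsEmbedding.subtypeVal.isCompact_iff]
      convert (PrimeSpectrum.isCompact_basicOpen e).inter_right h1.2.1 using 1
      ext x
      constructor
      · rintro ⟨⟨y, hy⟩, hye, rfl⟩
        exact ⟨hye, hy⟩
      · rintro ⟨hxe, hx⟩
        exact ⟨⟨x, hx⟩, hxe, rfl⟩
    exact this.isClosed
  let μ : C → ConnectedComponents (PrimeSpectrum A) := fun c => ConnectedComponents.mk c.1
  have hμc : Continuous μ := ConnectedComponents.continuous_coe.comp continuous_subtype_val
  have hμ : IsClosedEmbedding μ := hμc.isClosedEmbedding bA.1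
  have hT : IsClopen (μ '' T₀) := by
    refine ⟨hμ.isClosedMap _ hT₀.1, ?_⟩
    rw [← isClosed_compl_iff, ← Set.image_compl_eq (f := μ) bA]
    exact hμ.isClosedMap _ hT₀.compl.1
  let g := (PrimeSpectrum.continuous_comap (algebraMap A B)).connectedComponentsMap
  have hg : Continuous g := Continuous.connectedComponentsMap_continuous _
  have hgemb : IsClosedEmbedding g := by
    refine hg.isClosedEmbedding fun a b hab => ?_
    obtain ⟨⟨a, ha⟩, rfl⟩ := bB.2 a
    obtain ⟨⟨b, hb⟩, rfl⟩ := bB.2 b
    have := bA.1 (a₁ := ⟨f a, (hcl a).mp ha⟩) (a₂ := ⟨f b, (hcl b).mp hb⟩) hab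
    obtain rfl : a = b := hf.injective (congrArg Subtype.val this)
    rfl
  have hrange : Set.range g = μ '' T₀ := by
    refine Set.Subset.antisymm ?_ ?_
    · rintro _ ⟨c, rfl⟩
      obtain ⟨⟨q, hq⟩, rfl⟩ := bB.2 c
      obtain ⟨z, hzE, hqz⟩ := (hB ▸ Set.mem_range_self q : f q ∈ {x | ∃ z : PrimeSpectrum A,
        z ∈ PrimeSpectrum.zeroLocus (R := A) E ∧ x ⤳ z})
      have : z = f q := by
        have := ((hcl q).mp hq).stableUnderSpecialization hqz rfl
        exact this
      exact ⟨⟨f q, (hcl q).mp hq⟩, this ▸ hzE, rfl⟩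
    · rintro _ ⟨⟨c, hc⟩, hcE, rfl⟩
      obtain ⟨r, hr⟩ : c ∈ Set.range f := hB.symm ▸ ⟨c, hcE, specializes_rfl⟩
      exact ⟨ConnectedComponents.mk r, congrArg ConnectedComponents.mk hr⟩
  haveI : ExtremallyDisconnected (μ '' T₀) := extremallyDisconnected_of_isOpen hT.2
  refine isWContractible_of_conditions B hBw
    (extremallyDisconnected_of_homeo (hgemb.isEmbedding.toHomeomorph.trans (Homeomorph.setCongr hrange)).symm)
    fun m hm => ?_
  haveI := hm.isPrime
  have hmc : (m.comap (algebraMap A B)).IsMaximal :=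
    (PrimeSpectrum.isClosed_singleton_iff_isMaximal _).mp
      ((hcl ⟨m, hm.isPrime⟩).mp ((PrimeSpectrum.isClosed_singleton_iff_isMaximal _).mpr hm))
  haveI := IsLocalization.isLocalization_isLocalization_atPrime_isLocalization S (Localization.AtPrime m) m
  exact StrictCover.strictlyHenselian_of_ringEquiv
    (IsLocalization.algEquiv (m.comap (algebraMap A B)).primeCompl
      (Localization.AtPrime (m.comap (algebraMap A B))) (Localization.AtPrime m)).toRingEquiv (h3 _)

end Groth.L27.WContractible
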