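import Groth.Agent.L27.IdentifiesLocalRings
import Groth.Agent.L27.Gluing

/-! A w-local map identifying local rings is a quotient of a ring of locally constant functions. -/

set_option autoImplicit false
set_option linter.style.haveILetI false
universe u

open Topology

namespace Groth.L27.WLocalIndZariski

theorem exists_isClopen_components {X : Type*} [TopologicalSpace X] {C : Set X} (hC : IsClopen C) :
    ∃ U : Set (ConnectedComponents X), IsClopen U ∧ ∀ x, ConnectedComponents.mk x ∈ U ↔ x ∈ C := by
  have h : ∀ x, ConnectedComponents.mk x ∈ (ConnectedComponents.mk '' C) ↔ x ∈ C := fun x =>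
    ⟨fun ⟨y, hy, hyx⟩ => hC.connectedComponent_subset hy (ConnectedComponents.coe_eq_coe'.mp hyx.symm),
      fun hx => ⟨x, hx, rfl⟩⟩
  refine ⟨_, ?_, h⟩
  rw [← ConnectedComponents.isQuotientMap_coe.isClopen_preimage]
  rw [show ConnectedComponents.mk ⁻¹' (ConnectedComponents.mk '' C) = C from Set.ext h]
  exact hC

theorem algebraMap_charFn {A : Type u} [CommRing A] {T : Type u} [TopologicalSpace T] {U : Set T}
    (hU : IsClopen U) (a : A) (t : T) [Decidable (t ∈ U)] :
    (algebraMap A (LocallyConstant T A) a * LocallyConstant.charFn A hU : LocallyConstant T A) t =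
      if t ∈ U then a else 0 := by
  split_ifs with h <;> simp [LocallyConstant.coe_charFn, h]

theorem isIndZariski (A B : Type u) [CommRing A] [CommRing B] [Algebra A B]
    (h1 : EtPBC.IdentifiesLocalRings A B) (h2 : ProEtW.IsWLocal (PrimeSpectrum A))
    (h3 : ProEtW.IsWLocal (PrimeSpectrum B))
    (h4 : ProEtW.IsWLocalMap (PrimeSpectrum.comap (algebraMap A B))) :
    EtPBC.IsIndZariski A B := by
  classical
  haveI := h2.1
  haveI := h3.1
  have bB := Spectral.components_bijective_of_unique_specialization h3.2.1 h3.2.2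
  haveI : T2Space (ConnectedComponents (PrimeSpectrum B)) := ProfinitePullback.t2_components
  let T := ConnectedComponents (PrimeSpectrum B)
  let comp : MaximalSpectrum B → T := fun m => ConnectedComponents.mk (Gluing.pt m)
  have hex : ∀ f : LocallyConstant T A, ∃ x : B, ∀ m : MaximalSpectrum B,
      algebraMap B (Localization.AtPrime m.asIdeal) x =
        algebraMap B _ (algebraMap A B (f (comp m))) := by
    intro f
    refine Gluing.exists_glue h3 _ fun m₀ => ⟨ConnectedComponents.mk ⁻¹' (f ⁻¹' {f (comp m₀)}),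
      algebraMap A B (f (comp m₀)), 1,
      (f.isLocallyConstant.isOpen_fiber _).preimage ConnectedComponents.continuous_coe, rfl,
      fun m hm => ⟨m.isMaximal.isPrime.one_notMem, ?_⟩⟩
    rw [map_one, mul_one, show f (comp m) = f (comp m₀) from hm]
  choose F hF using hex
  let ι : LocallyConstant T A →ₐ[A] B :=
    { toFun := F
      map_one' := WConstruction.eq_of_forall_maximal fun m => by simp [hF]
      map_mul' := fun f g => WConstruction.eq_of_forall_maximal fun m => by simp [hF]
      map_zero' := WConstruction.eq_of_forall_maximal fun m => by simp [hF]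
      map_add' := fun f g => WConstruction.eq_of_forall_maximal fun m => by simp [hF]
      commutes' := fun a => WConstruction.eq_of_forall_maximal fun m => by simp [hF] }
  let S : Set (LocallyConstant T A) := {f | IsIdempotentElem f ∧ ι f = 0}
  have hbad : ∀ (p : PrimeSpectrum A) (m : MaximalSpectrum B), IsClosed ({p} : Set (PrimeSpectrum A)) →
      PrimeSpectrum.comap (algebraMap A B) (Gluing.pt m) ≠ p →
      ∃ k ∈ S, k (comp m) ∉ p.asIdeal := by
    intro p m hp hne
    obtain ⟨e, he, hep, heO⟩ := Gluing.exists_idempotent_in_open h2 p hp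
      {PrimeSpectrum.comap (algebraMap A B) (Gluing.pt m)}ᶜ
      (h4.2 _ (Gluing.isClosed_pt m)).isOpen_compl (fun h => hne h.symm)
    have hem : algebraMap A B e ∈ m.asIdeal := by_contra fun h => heO _ h rfl
    have hCl : IsClopen {q : PrimeSpectrum B | algebraMap A B e ∈ q.asIdeal} := by
      rw [← isClopen_compl_iff]
      exact PrimeSpectrum.isClopen_iff.mpr ⟨algebraMap A B e, he.map _, rfl⟩
    obtain ⟨U, hU, hUm⟩ := exists_isClopen_components hCl
    refine ⟨algebraMap A (LocallyConstant T A) e * LocallyConstant.charFn A hU, ⟨?_, ?_⟩, ?_⟩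
    · refine LocallyConstant.ext fun t => ?_
      rw [LocallyConstant.coe_mul, Pi.mul_apply, algebraMap_charFn]
      split_ifs
      exacts [he.eq, zero_mul 0]
    · refine WConstruction.eq_of_forall_maximal fun m' => ?_
      change algebraMap B _ (F _) = _
      rw [hF, algebraMap_charFn, map_zero]
      split_ifs with h
      · exact Gluing.map_eq_zero_of_mem (he.map _) m'.asIdeal ((hUm _).mp h)
      · rw [map_zero, map_zero]
    · rw [algebraMap_charFn, if_pos ((hUm (Gluing.pt m)).mpr hem)]
      exact hep
  have key : ∀ n : Ideal (LocallyConstant T A), n.IsMaximal → ∃ (p : PrimeSpectrum A) (m : MaximalSpectrum B),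
      IsClosed ({p} : Set (PrimeSpectrum A)) ∧ ∀ f, f ∈ n ↔ f (comp m) ∈ p.asIdeal := by
    intro n hn
    obtain ⟨⟨p, t⟩, hpt⟩ := (ClopenQuotient.Φ_bijective A T).2 ⟨n, hn.isPrime⟩
    obtain ⟨⟨q, hq⟩, rfl⟩ := bB.2 t
    refine ⟨p, ⟨q.asIdeal, (PrimeSpectrum.isClosed_singleton_iff_isMaximal _).mp hq⟩, ?_, fun f => ?_⟩
    · rw [PrimeSpectrum.isClosed_singleton_iff_isMaximal]
      obtain ⟨M, hM, hpM⟩ := Ideal.exists_le_maximal _ p.isPrime.ne_top
      have : ClopenQuotient.Φ A T (⟨M, hM.isPrime⟩, ConnectedComponents.mk q) =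
          ClopenQuotient.Φ A T (p, ConnectedComponents.mk q) := by
        refine PrimeSpectrum.ext (Eq.symm ?_)
        rw [hpt]
        refine hn.eq_of_le (ClopenQuotient.Φ A T (⟨M, hM.isPrime⟩, ConnectedComponents.mk q)).isPrime.ne_top
          fun f hf => ?_
        rw [show n = (ClopenQuotient.Φ A T (p, ConnectedComponents.mk q)).asIdeal from
          (congrArg PrimeSpectrum.asIdeal hpt).symm] at hf
        exact hpM hf
      rw [← show (⟨M, hM.isPrime⟩ : PrimeSpectrum A) = p from congrArg Prod.fst ((ClopenQuotient.Φ_bijective A T).1 this)]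
      exact hM
    · rw [← show (ClopenQuotient.Φ A T (p, ConnectedComponents.mk q)).asIdeal = n from
        congrArg PrimeSpectrum.asIdeal hpt]
      rfl
  have hsurj : Function.Surjective ι := by
    intro b
    suffices hK : Ideal.span {f | ι f * b ∈ ι.range} = ⊤ by
      have h1 : (1 : LocallyConstant T A) ∈ Ideal.span {f | ι f * b ∈ ι.range} := hK ▸ trivial
      obtain ⟨x, hx⟩ : ι 1 * b ∈ ι.range := by
        refine Submodule.span_induction (p := fun f _ => ι f * b ∈ ι.range) (fun f hf => hf)
          ⟨0, by simp⟩ (fun f g _ _ hf hg => by rw [map_add, add_mul]; exact add_mem hf hg)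
          (fun r f _ hf => by rw [smul_eq_mul, map_mul, mul_assoc]; exact mul_mem ⟨r, rfl⟩ hf) h1
      exact ⟨x, by rw [map_one, one_mul] at hx; exact hx⟩
    by_contra hne
    obtain ⟨n, hn, hle⟩ := Ideal.exists_le_maximal _ hne
    obtain ⟨p, m, hp, hmem⟩ := key n hn
    by_cases hmp : PrimeSpectrum.comap (algebraMap A B) (Gluing.pt m) = p
    swap
    · obtain ⟨k, hk, hkp⟩ := hbad p m hp hmp
      exact hkp ((hmem k).mp (hle (Ideal.subset_span ⟨0, by simp [hk.2]⟩)))
    · obtain ⟨a, s, t₀, hs, ht₀, e⟩ := IdentifiesLocalRings.surjAt_of_identifies h1 (Gluing.pt m) b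
      obtain ⟨ε, hε, hεm, hεt⟩ := Gluing.exists_idempotent_in_open h3 (Gluing.pt m) (Gluing.isClosed_pt m)
        (PrimeSpectrum.basicOpen t₀) (PrimeSpectrum.basicOpen t₀).isOpen ht₀
      obtain ⟨U, hU, hUm⟩ := exists_isClopen_components
        (PrimeSpectrum.isClopen_iff.mpr ⟨ε, hε, rfl⟩ : IsClopen {q : PrimeSpectrum B | ε ∉ q.asIdeal})
      refine hs ((SetLike.ext_iff.mp (congrArg PrimeSpectrum.asIdeal hmp) s).mpr ?_)
      have := (hmem _).mp (hle (Ideal.subset_span
        (⟨algebraMap A (LocallyConstant T A) a * LocallyConstant.charFn A hU, ?_⟩ :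
          ι (algebraMap A (LocallyConstant T A) s * LocallyConstant.charFn A hU) * b ∈ ι.range)))
      · rwa [algebraMap_charFn, if_pos ((hUm (Gluing.pt m)).mpr hεm)] at this
      refine WConstruction.eq_of_forall_maximal fun m' => ?_
      change algebraMap B _ (F _) = algebraMap B _ (F _ * b)
      rw [map_mul, hF, hF, algebraMap_charFn, algebraMap_charFn]
      split_ifs with h
      · refine (IsLocalization.map_units (Localization.AtPrime m'.asIdeal)
          (⟨t₀, hεt _ ((hUm _).mp h)⟩ : m'.asIdeal.primeCompl)).mul_left_cancel ?_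
        rw [← map_mul, ← map_mul, ← map_mul]
        exact congrArg _ (by linear_combination -e)
      · simp
  have hker : RingHom.ker ι = Ideal.span S := by
    refine le_antisymm (fun f hf => ?_) (Ideal.span_le.mpr fun k hk => hk.2)
    rw [RingHom.mem_ker] at hf
    suffices hK : (Submodule.colon (Ideal.span S) ({f} : Set (LocallyConstant T A))) = ⊤ by
      have h1 : (1 : LocallyConstant T A) ∈ Submodule.colon (Ideal.span S) ({f} : Set _) := hK ▸ trivial
      simpa using Submodule.mem_colon_singleton.mp h1
    by_contra hne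
    obtain ⟨n, hn, hle⟩ := Ideal.exists_le_maximal _ hne
    obtain ⟨p, m, hp, hmem⟩ := key n hn
    by_cases hmp : PrimeSpectrum.comap (algebraMap A B) (Gluing.pt m) = p
    swap
    · obtain ⟨k, hk, hkp⟩ := hbad p m hp hmp
      exact hkp ((hmem k).mp (hle (Submodule.mem_colon_singleton.mpr
        (Ideal.mul_mem_right _ _ (Ideal.subset_span hk)))))
    · have h0 := hF f m
      rw [show F f = 0 from hf, map_zero, eq_comm, IsLocalization.map_eq_zero_iff m.asIdeal.primeCompl] at h0
      obtain ⟨⟨t₀, ht₀⟩, e⟩ := h0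
      obtain ⟨c, hc, hca⟩ :=
        IdentifiesLocalRings.injAt_of_identifies h1 (Gluing.pt m) (f (comp m)) t₀ ht₀ e
      have hU : IsClopen (f ⁻¹' {f (comp m)}) := f.isLocallyConstant.isClopen_fiber _
      refine hc ((SetLike.ext_iff.mp (congrArg PrimeSpectrum.asIdeal hmp) c).mpr ?_)
      have := (hmem _).mp (hle (Submodule.mem_colon_singleton.mpr
        (show (algebraMap A (LocallyConstant T A) c * LocallyConstant.charFn A hU) • f ∈ Ideal.span S from ?_)))
      · rwa [algebraMap_charFn, if_pos (show comp m ∈ f ⁻¹' {f (comp m)} from rfl)] at this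
      convert (Ideal.span S).zero_mem using 1
      refine LocallyConstant.ext fun t => ?_
      rw [smul_eq_mul, LocallyConstant.coe_mul, Pi.mul_apply, algebraMap_charFn]
      split_ifs with h
      · rw [show f t = f (comp m) from h, hca]; rfl
      · rw [zero_mul]; rfl
  exact IndZariski.of_algEquiv A (Ideal.quotientKerAlgEquivOfSurjective hsurj)
    (IndZariski.quotient_idempotents A (LocallyConstant T A)
      (ClopenQuotient.indZariski_locallyConstant A T) _ ⟨S, fun k hk => hk.1, hker⟩)

end Groth.L27.WLocalIndZariski
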