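import Groth.Agent.L27.WConstruction
import Groth.Agent.L27.ProfinitePullback
import Mathlib.RingTheory.Localization.Ideal

/-! Universal property of the w-localization; the w-localization along a profinite closed set. -/

set_option autoImplicit false
set_option linter.style.haveILetI false
set_option linter.unusedSectionVars false
universe u

open Topology

namespace Groth.L27.WConstruction

theorem isSpectralMap_comap {R S : Type u} [CommRing R] [CommRing S] (f : R →+* S) :
    IsSpectralMap (PrimeSpectrum.comap f) := by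
  refine ⟨PrimeSpectrum.continuous_comap f, fun s hs hsc => ?_⟩
  classical
  obtain ⟨t, rfl⟩ := PrimeSpectrum.isCompact_isOpen_iff.mp ⟨hsc, hs⟩
  refine (PrimeSpectrum.isCompact_isOpen_iff.mpr ⟨t.image f, ?_⟩).1
  rw [Set.preimage_compl, PrimeSpectrum.preimage_comap_zeroLocus, Finset.coe_image]

/-- In a w-local spectrum a finite pattern at a closed point is realised by a clopen. -/
theorem exists_idempotent_of_pattern {B : Type u} [CommRing B]
    (hB : ProEtW.IsWLocal (PrimeSpectrum B)) (m : PrimeSpectrum B)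
    (hm : IsClosed ({m} : Set (PrimeSpectrum B))) (f : B) (s : Finset B)
    (hf : f ∉ m.asIdeal) (hs : ∀ g ∈ s, g ∈ m.asIdeal) :
    ∃ e : B, IsIdempotentElem e ∧ e ∉ m.asIdeal ∧
      ∀ m' : PrimeSpectrum B, IsClosed ({m'} : Set (PrimeSpectrum B)) → e ∉ m'.asIdeal →
        f ∉ m'.asIdeal ∧ ∀ g ∈ s, g ∈ m'.asIdeal := by
  let M : Set (PrimeSpectrum B) := {x | IsClosed ({x} : Set (PrimeSpectrum B))}
  let O : Set (PrimeSpectrum B) := (PrimeSpectrum.basicOpen f : Set (PrimeSpectrum B)) ∩
    ⋂ g ∈ (s : Set B), (M ∩ ⋂₀ {(PrimeSpectrum.basicOpen g : Set (PrimeSpectrum B))})ᶜ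
  have hO : IsOpen O := (PrimeSpectrum.basicOpen f).isOpen.inter
    (s.finite_toSet.isOpen_biInter fun g _ => by
      refine (Spectral.isClosed_inter_sInter hB.2.1 _ ?_ ?_).isOpen_compl
      · rintro W rfl
        exact ⟨(PrimeSpectrum.basicOpen g).isOpen, PrimeSpectrum.isCompact_basicOpen g⟩
      · intro x y hxy hx
        have : y ∈ closure ({x} : Set (PrimeSpectrum B)) := specializes_iff_mem_closure.mp hxy
        rw [(hx.1 : IsClosed ({x} : Set (PrimeSpectrum B))).closure_eq, Set.mem_singleton_iff] at this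
        exact this ▸ hx)
  have hmO : m ∈ O := ⟨hf, Set.mem_iInter₂.mpr fun g hg h => h.2 _ rfl (hs g hg)⟩
  have hsub : connectedComponent m ⊆ O := by
    intro y hy
    obtain ⟨w, ⟨hwc, hyw⟩, -⟩ := hB.2.2 y
    have hw : w ∈ connectedComponent y :=
      isPreconnected_singleton.closure.subset_connectedComponent (subset_closure rfl)
        (specializes_iff_mem_closure.mp hyw)
    haveI := hB.1
    have := (Spectral.components_bijective_of_unique_specialization hB.2.1 hB.2.2).1
      (a₁ := ⟨w, hwc⟩) (a₂ := ⟨m, hm⟩)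
      ((ConnectedComponents.coe_eq_coe'.mpr hw).trans (ConnectedComponents.coe_eq_coe'.mpr hy))
    obtain rfl : w = m := congrArg Subtype.val this
    exact hyw.mem_open hO hmO
  haveI := hB.1
  obtain ⟨U, hU, hmU, hUO⟩ := Spectral.exists_clopen_subset_of_component_subset hO hsub
  obtain ⟨e, e', hee, hee', rfl⟩ := PrimeSpectrum.isClopen_iff_mul_add.mp hU
  refine ⟨e, by change e * e = e; linear_combination -hee + e * hee', hmU, fun m' hm' he => ?_⟩
  obtain ⟨h1, h2⟩ := hUO he
  refine ⟨h1, fun g hg => by_contra fun hgm => Set.mem_iInter₂.mp h2 g hg ⟨hm', ?_⟩⟩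
  rintro W rfl
  exact hgm

section universal

variable {A B : Type u} [CommRing A] [CommRing B] [Algebra A B]

/-- The point under a maximal ideal. -/
def θ (m : MaximalSpectrum B) : Pt A ⊥ :=
  ⟨PrimeSpectrum.comap (algebraMap A B) ⟨m.asIdeal, m.isMaximal.isPrime⟩, bot_le⟩

instance (m : MaximalSpectrum B) : m.asIdeal.IsPrime := m.isMaximal.isPrime

/-- The local map at a maximal ideal. -/
noncomputable def L (m : MaximalSpectrum B) :
    Localization.AtPrime (θ (A := A) m).1.asIdeal →+* Localization.AtPrime m.asIdeal :=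
  Localization.localRingHom (θ (A := A) m).1.asIdeal m.asIdeal (algebraMap A B) rfl

theorem L_algebraMap (m : MaximalSpectrum B) (a : A) :
    L (A := A) m (algebraMap A _ a) = algebraMap B _ (algebraMap A B a) :=
  Localization.localRingHom_to_map _ _ _ _ _

theorem eq_of_forall_maximal {x y : B}
    (h : ∀ m : MaximalSpectrum B, algebraMap B (Localization.AtPrime m.asIdeal) x = algebraMap B _ y) :
    x = y := by
  rw [← sub_eq_zero]
  by_contra hne
  have : (Ideal.span {x - y} : Submodule B B).annihilator ≠ ⊤ := by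
    rw [Ne, Submodule.annihilator_eq_top_iff]
    simpa using hne
  obtain ⟨n, hn, hle⟩ := Ideal.exists_le_maximal _ this
  obtain ⟨t, ht⟩ := (IsLocalization.eq_iff_exists n.primeCompl (Localization.AtPrime n)).mp (h ⟨n, hn⟩)
  exact t.2 (hle (by
    rw [Submodule.mem_annihilator_span_singleton, smul_eq_mul, mul_sub, ht, sub_self]))

variable (hB : ProEtW.IsWLocal (PrimeSpectrum B))
include hB

theorem exists_glue (σ : W A ⊥) : ∃ x : B, ∀ m : MaximalSpectrum B,
    algebraMap B (Localization.AtPrime m.asIdeal) x = L (A := A) m (σ.1 (θ m)) := by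
  classical
  let K : Ideal B :=
    { carrier := {c | ∃ x : B, ∀ m : MaximalSpectrum B,
        algebraMap B (Localization.AtPrime m.asIdeal) x = algebraMap B _ c * L (A := A) m (σ.1 (θ m))}
      zero_mem' := ⟨0, fun m => by simp⟩
      add_mem' := fun ⟨x, hx⟩ ⟨y, hy⟩ => ⟨x + y, fun m => by rw [map_add, map_add, hx, hy, add_mul]⟩
      smul_mem' := fun r c ⟨x, hx⟩ => ⟨r * x, fun m => by
        rw [map_mul, hx, smul_eq_mul, map_mul, mul_assoc]⟩ }
  suffices hK : K = ⊤ by
    obtain ⟨x, hx⟩ : (1 : B) ∈ K := hK ▸ trivial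
    exact ⟨x, fun m => by rw [hx, map_one, one_mul]⟩
  by_contra hne
  obtain ⟨n, hn, hKn⟩ := Ideal.exists_le_maximal _ hne
  obtain ⟨f, s, a, b, hC, h⟩ := W_piecewise σ (θ (A := A) ⟨n, hn⟩)
  obtain ⟨e, he, hen, hpat⟩ := exists_idempotent_of_pattern hB ⟨n, hn.isPrime⟩
    ((PrimeSpectrum.isClosed_singleton_iff_isMaximal _).mpr hn)
    (algebraMap A B f) (s.image (algebraMap A B)) hC.1 (by
      intro g hg
      obtain ⟨g', hg', rfl⟩ := Finset.mem_image.mp hg
      exact hC.2 g' hg')
  have hθ : ∀ m : MaximalSpectrum B, e ∉ m.asIdeal → (θ (A := A) m).1 ∈ str A f s := fun m hm => by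
    obtain ⟨h1, h2⟩ := hpat ⟨m.asIdeal, m.isMaximal.isPrime⟩
      ((PrimeSpectrum.isClosed_singleton_iff_isMaximal _).mpr m.isMaximal) hm
    exact ⟨h1, fun g hg => h2 _ (Finset.mem_image_of_mem _ hg)⟩
  have hu : IsUnit (algebraMap A B b * e + (1 - e)) := by
    by_contra hu
    obtain ⟨m, hm, hmem⟩ := exists_max_ideal_of_mem_nonunits hu
    by_cases hem : e ∈ m
    · refine hm.ne_top ((Ideal.eq_top_iff_one _).mpr ?_)
      have := add_mem (sub_mem hmem (Ideal.mul_mem_left _ (algebraMap A B b) hem)) hem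
      simpa using this
    · have h1e : 1 - e ∈ m := (hm.isPrime.mem_or_mem (by
        rw [mul_sub, mul_one, he.eq, sub_self]; exact m.zero_mem : e * (1 - e) ∈ m)).resolve_left hem
      have := (hm.isPrime.mem_or_mem (show algebraMap A B b * e ∈ m by
        simpa using sub_mem hmem h1e)).resolve_right hem
      exact (h _ (hθ ⟨m, hm⟩ hem)).1 this
  obtain ⟨u, hu⟩ := hu
  refine hen (hKn ⟨algebraMap A B a * e * ↑u⁻¹, fun m => ?_⟩)
  by_cases hem : e ∈ m.asIdeal
  · have : algebraMap B (Localization.AtPrime m.asIdeal) e = 0 :=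
      (IsLocalization.map_eq_zero_iff m.asIdeal.primeCompl _ e).mpr ⟨⟨1 - e, fun h1 =>
        m.isMaximal.ne_top ((Ideal.eq_top_iff_one _).mpr (by simpa using add_mem h1 hem))⟩,
        by change (1 - e) * e = 0; rw [sub_mul, one_mul, he.eq, sub_self]⟩
    rw [map_mul, map_mul, this, mul_zero, zero_mul, zero_mul]
  · have he1 : algebraMap B (Localization.AtPrime m.asIdeal) e = 1 := by
      refine (IsLocalization.map_units (Localization.AtPrime m.asIdeal)
        (⟨e, hem⟩ : m.asIdeal.primeCompl)).mul_left_cancel ?_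
      rw [mul_one, ← map_mul, he.eq]
    have hub : algebraMap B (Localization.AtPrime m.asIdeal) ↑u⁻¹ *
        algebraMap B _ (algebraMap A B b) = 1 := by
      rw [← map_one (algebraMap B (Localization.AtPrime m.asIdeal)), ← u.inv_mul, map_mul, hu,
        map_add, map_mul, map_sub, he1, map_one, mul_one, sub_self, add_zero]
    rw [map_mul, map_mul, he1, mul_one, one_mul, ← L_algebraMap, ← (h _ (hθ m hem)).2,
      map_mul, L_algebraMap, mul_assoc, mul_comm (algebraMap B _ (algebraMap A B b)), hub, mul_one]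

/-- The universal map. -/
noncomputable def toWLocal : W A ⊥ →ₐ[A] B where
  toFun σ := (exists_glue hB σ).choose
  map_one' := eq_of_forall_maximal fun m => by
    rw [(exists_glue hB 1).choose_spec m, map_one]
    exact map_one _
  map_mul' σ τ := eq_of_forall_maximal fun m => by
    rw [map_mul, (exists_glue hB _).choose_spec m, (exists_glue hB _).choose_spec m,
      (exists_glue hB _).choose_spec m, ← map_mul]
    rfl
  map_zero' := eq_of_forall_maximal fun m => by
    rw [(exists_glue hB 0).choose_spec m, map_zero]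
    exact map_zero _
  map_add' σ τ := eq_of_forall_maximal fun m => by
    rw [map_add, (exists_glue hB _).choose_spec m, (exists_glue hB _).choose_spec m,
      (exists_glue hB _).choose_spec m, ← map_add]
    rfl
  commutes' a := eq_of_forall_maximal fun m => by
    rw [(exists_glue hB _).choose_spec m, ← L_algebraMap]
    rfl

theorem toWLocal_spec (σ : W A ⊥) (m : MaximalSpectrum B) :
    algebraMap B (Localization.AtPrime m.asIdeal) (toWLocal hB σ) = L (A := A) m (σ.1 (θ m)) :=
  (exists_glue hB σ).choose_spec m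

theorem existsUnique_toWLocal :
    ∃! φ : W A ⊥ →ₐ[A] B, ProEtW.IsWLocalMap (PrimeSpectrum.comap φ.toRingHom) := by
  classical
  refine ⟨toWLocal hB, ⟨isSpectralMap_comap _, fun q hq => ?_⟩, fun ψ hψ => ?_⟩
  · haveI := (PrimeSpectrum.isClosed_singleton_iff_isMaximal q).mp hq
    let m : MaximalSpectrum B := ⟨q.asIdeal, inferInstance⟩
    have : (PrimeSpectrum.comap (toWLocal hB).toRingHom q).asIdeal = nIdeal ⊥ (θ (A := A) m) := by
      ext σ
      change toWLocal hB σ ∈ m.asIdeal ↔
        ev ⊥ (θ (A := A) m) σ ∈ IsLocalRing.maximalIdeal _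
      rw [← IsLocalization.AtPrime.to_map_mem_maximal_iff (Localization.AtPrime m.asIdeal) m.asIdeal,
        toWLocal_spec]
      haveI : IsLocalHom (L (A := A) m) := Localization.isLocalHom_localRingHom _ _ _ _
      simp only [IsLocalRing.mem_maximalIdeal, mem_nonunits_iff]
      exact not_congr ⟨fun h => isUnit_of_map_unit _ _ h, fun h => h.map _⟩
    rw [PrimeSpectrum.isClosed_singleton_iff_isMaximal, this]
    exact nIdeal_isMaximal _
  · refine AlgHom.ext fun σ => eq_of_forall_maximal fun m => ?_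
    rw [toWLocal_spec]
    obtain ⟨f, s, a, b, hC, h⟩ := W_piecewise σ (θ (A := A) m)
    have hcl := hψ.2 ⟨m.asIdeal, m.isMaximal.isPrime⟩
      ((PrimeSpectrum.isClosed_singleton_iff_isMaximal _).mpr m.isMaximal)
    haveI := (PrimeSpectrum.isClosed_singleton_iff_isMaximal _).mp hcl
    obtain ⟨z, hz⟩ := exists_nIdeal_eq (PrimeSpectrum.comap ψ.toRingHom
      ⟨m.asIdeal, m.isMaximal.isPrime⟩).asIdeal
    have hzθ : z = θ m := by
      refine Subtype.ext (PrimeSpectrum.ext ?_)
      rw [← nIdeal_comap z, ← hz]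
      ext x
      change ψ (algebraMap A _ x) ∈ m.asIdeal ↔ algebraMap A B x ∈ m.asIdeal
      rw [ψ.commutes]
    subst hzθ
    have hχ : IsUnit (algebraMap B (Localization.AtPrime m.asIdeal) (ψ (χ f s))) := by
      refine IsLocalization.map_units (Localization.AtPrime m.asIdeal)
        (⟨ψ (χ f s), fun hmem => ?_⟩ : m.asIdeal.primeCompl)
      have : χ f s ∈ nIdeal ⊥ (θ (A := A) m) := hz ▸ hmem
      change ev ⊥ (θ (A := A) m) (χ f s) ∈ IsLocalRing.maximalIdeal _ at this
      rw [ev_apply, χ_apply_mem hC] at this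
      exact IsLocalRing.notMem_maximalIdeal.mpr isUnit_one this
    have key : σ * algebraMap A (W A ⊥) b * χ f s = algebraMap A (W A ⊥) a * χ f s := by
      refine W_ext fun w => ?_
      change σ.1 w * algebraMap A _ b * (χ f s : W A ⊥).1 w =
        algebraMap A _ a * (χ f s : W A ⊥).1 w
      by_cases hw : w.1 ∈ str A f s
      · rw [(h w hw).2]
      · rw [χ_apply_notMem hw, mul_zero, mul_zero]
    have := congrArg (fun x => algebraMap B (Localization.AtPrime m.asIdeal) (ψ x)) key
    simp only [map_mul, AlgHom.commutes] at this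
    replace this := hχ.mul_right_cancel this
    have hb : IsUnit (algebraMap B (Localization.AtPrime m.asIdeal) (algebraMap A B b)) :=
      IsLocalization.map_units (Localization.AtPrime m.asIdeal)
        (⟨algebraMap A B b, (h _ hC).1⟩ : m.asIdeal.primeCompl)
    refine hb.mul_right_cancel ?_
    rw [this, ← L_algebraMap, ← L_algebraMap, ← map_mul, (h _ hC).2]

end universal

theorem exists_wLocalization_universal (A : Type u) [CommRing A] :
    ∃ (Aw : Type u) (_ : CommRing Aw) (_ : Algebra A Aw), Module.FaithfullyFlat A Aw ∧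
      EtPBC.IsIndZariski A Aw ∧ ProEtW.IsWLocal (PrimeSpectrum Aw) ∧
      ∀ (B : Type u) [CommRing B] [Algebra A B], ProEtW.IsWLocal (PrimeSpectrum B) →
        ∃! φ : Aw →ₐ[A] B, ProEtW.IsWLocalMap (PrimeSpectrum.comap φ.toRingHom) := by
  have hb := bijOn_closedPoints (A := A) (I := ⊥)
  haveI := flat A ⊥
  refine ⟨W A ⊥, inferInstance, inferInstance, Module.FaithfullyFlat.of_comap_surjective fun z => ?_,
    indZariski A ⊥, isWLocal, fun B _ _ hB => existsUnique_toWLocal hB⟩
  obtain ⟨q, -, hq⟩ := hb.surjOn (fun x (hx : x ∈ ((⊥ : Ideal A) : Set A)) => by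
    rw [show x = 0 from hx]; exact z.asIdeal.zero_mem : z ∈ PrimeSpectrum.zeroLocus ((⊥ : Ideal A) : Set A))
  exact ⟨q, hq⟩

section profinite

variable {A : Type u} [CommRing A] {I : Ideal A}

theorem mem_map_of_pointwise (τ : W A I)
    (h : ∀ z : Pt A I, τ.1 z ∈ I.map (algebraMap A (Localization.AtPrime z.1.asIdeal))) :
    τ ∈ I.map (algebraMap A (W A I)) := by
  classical
  let K : Ideal (W A I) :=
    { carrier := {c | c * τ ∈ I.map (algebraMap A (W A I))}
      zero_mem' := by simp
      add_mem' := fun {x y} hx hy => by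
        simp only [Set.mem_ofPred_eq, add_mul] at *
        exact add_mem hx hy
      smul_mem' := fun r x hx => by
        simp only [Set.mem_ofPred_eq, smul_eq_mul, mul_assoc] at *
        exact Ideal.mul_mem_left _ _ hx }
  suffices hK : K = ⊤ by
    have : (1 : W A I) ∈ K := hK ▸ trivial
    simpa [K] using this
  by_contra hne
  obtain ⟨n, hn, hKn⟩ := Ideal.exists_le_maximal _ hne
  obtain ⟨z, rfl⟩ := exists_nIdeal_eq n
  obtain ⟨f, s, a, b, hC, hC'⟩ := W_piecewise τ z
  have ha : algebraMap A (Localization.AtPrime z.1.asIdeal) a ∈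
      I.map (algebraMap A (Localization.AtPrime z.1.asIdeal)) := by
    rw [← (hC' z hC).2]
    exact Ideal.mul_mem_right _ _ (h z)
  obtain ⟨t, ht, hta⟩ :=
    (IsLocalization.algebraMap_mem_map_algebraMap_iff z.1.asIdeal.primeCompl _ I a).mp ha
  have hmem : z.1 ∈ str A (f * t) s := ⟨z.1.isPrime.mul_notMem hC.1 ht, hC.2⟩
  have hχ : χ (f * t) s ∈ K := by
    have : χ (f * t) s * τ = algebraMap A (W A I) (t * a) * (inv (b * t) * χ (f * t) s) := by
      refine W_ext fun w => ?_
      change (χ (f * t) s : W A I).1 w * τ.1 w = algebraMap A _ (t * a) *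
        ((inv (b * t) : W A I).1 w * (χ (f * t) s : W A I).1 w)
      by_cases hw : w.1 ∈ str A (f * t) s
      · have hwC : w.1 ∈ str A f s := ⟨fun hf => hw.1 (Ideal.mul_mem_right _ _ hf), hw.2⟩
        have hbt : b * t ∉ w.1.asIdeal :=
          w.1.isPrime.mul_notMem (hC' w hwC).1 fun ht' => hw.1 (Ideal.mul_mem_left _ _ ht')
        rw [χ_apply_mem hw, one_mul, mul_one]
        have e1 := inv_spec (z := w) hbt
        have e2 := (hC' w hwC).2
        rw [map_mul] at e1 ⊢
        linear_combination (-τ.1 w) * e1 +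
          ((inv (b * t) : W A I).1 w * algebraMap A _ t) * e2
      · rw [χ_apply_notMem hw, zero_mul, mul_zero, mul_zero]
    change χ (f * t) s * τ ∈ I.map (algebraMap A (W A I))
    rw [this]
    exact Ideal.mul_mem_right _ _ (Ideal.mem_map_of_mem _ hta)
  have := hKn hχ
  change ev I z (χ (f * t) s) ∈ IsLocalRing.maximalIdeal _ at this
  rw [ev_apply, χ_apply_mem hmem] at this
  exact IsLocalRing.notMem_maximalIdeal.mpr isUnit_one this

theorem eq_nIdeal_of_map_le (hmax : ∀ z : Pt A I, z.1.asIdeal.IsMaximal) (q : Ideal (W A I))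
    [hq : q.IsPrime] (h : I.map (algebraMap A (W A I)) ≤ q) : ∃ z, q = nIdeal I z := by
  obtain ⟨z, hz⟩ := exists_ker_le q
  have hle := le_nIdeal_of_ker_le q hz
  have hpI : I ≤ q.comap (algebraMap A (W A I)) := Ideal.map_le_iff_le_comap.mp h
  haveI := hmax ⟨⟨q.comap (algebraMap A (W A I)), inferInstance⟩, hpI⟩
  have hpz : q.comap (algebraMap A (W A I)) = z.1.asIdeal :=
    this.eq_of_le z.1.isPrime.ne_top (nIdeal_comap z ▸ Ideal.comap_mono hle)
  refine ⟨z, le_antisymm hle fun σ hσ => ?_⟩
  obtain ⟨f, s, a, b, hC, hC'⟩ := W_piecewise σ z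
  have haz : a ∈ z.1.asIdeal := by
    rw [← IsLocalization.AtPrime.to_map_mem_maximal_iff (Localization.AtPrime z.1.asIdeal) z.1.asIdeal,
      ← (hC' z hC).2]
    exact Ideal.mul_mem_right _ _ hσ
  have key : σ * (algebraMap A (W A I) b * χ f s) = algebraMap A (W A I) a * χ f s := by
    refine W_ext fun w => ?_
    change σ.1 w * (algebraMap A _ b * (χ f s : W A I).1 w) = algebraMap A _ a * (χ f s : W A I).1 w
    by_cases hw : w.1 ∈ str A f s
    · rw [← mul_assoc, (hC' w hw).2]
    · rw [χ_apply_notMem hw, mul_zero, mul_zero, mul_zero]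
  have hmem : σ * (algebraMap A (W A I) b * χ f s) ∈ q := by
    rw [key]
    exact Ideal.mul_mem_right _ _ (hpz.ge haz : a ∈ q.comap (algebraMap A (W A I)))
  refine (hq.mem_or_mem hmem).resolve_right fun h2 => ?_
  rcases hq.mem_or_mem h2 with h3 | h3
  · exact (hC' z hC).1 (hpz.le h3)
  · have : (1 - χ f s : W A I) ∈ q := hz (by
      change ev I z (1 - χ f s) = 0
      rw [map_sub, map_one, ev_apply, χ_apply_mem hC, sub_self])
    exact hq.one_notMem (by simpa using add_mem h3 this)

theorem closedPoints_eq (hmax : ∀ z : Pt A I, z.1.asIdeal.IsMaximal) :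
    ProEtW.closedPoints (PrimeSpectrum (W A I)) =
      PrimeSpectrum.zeroLocus (I.map (algebraMap A (W A I))) := by
  ext q
  rw [PrimeSpectrum.mem_zeroLocus, ProEtW.closedPoints, Set.mem_ofPred_eq,
    PrimeSpectrum.isClosed_singleton_iff_isMaximal]
  constructor
  · intro h
    obtain ⟨z, hz⟩ := exists_nIdeal_eq q.asIdeal
    rw [hz, SetLike.coe_subset_coe, Ideal.map_le_iff_le_comap, nIdeal_comap]
    exact z.2
  · intro h
    obtain ⟨z, hz⟩ := eq_nIdeal_of_map_le hmax q.asIdeal h
    rw [hz]
    exact nIdeal_isMaximal z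

theorem quotientMap_bijective (hT2 : T2Space (PrimeSpectrum (A ⧸ I))) :
    Function.Bijective (Ideal.quotientMap (I.map (algebraMap A (W A I))) (algebraMap A (W A I))
      Ideal.le_comap_map) := by
  classical
  constructor
  · rw [injective_iff_map_eq_zero]
    intro x hx
    obtain ⟨a, rfl⟩ := Ideal.Quotient.mk_surjective x
    rw [Ideal.quotientMap_mk, Ideal.Quotient.eq_zero_iff_mem] at hx
    rw [Ideal.Quotient.eq_zero_iff_mem]
    by_contra ha
    have hne : (Submodule.comap (LinearMap.mulRight A a) I : Ideal A) ≠ ⊤ := fun h => ha (by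
      have : (1 : A) ∈ Submodule.comap (LinearMap.mulRight A a) I := h.ge trivial
      simpa using this)
    obtain ⟨n, hn, hle⟩ := Ideal.exists_le_maximal _ hne
    have hIn : I ≤ n := fun i hi => hle (Ideal.mul_mem_right a I hi)
    let z : Pt A I := ⟨⟨n, hn.isPrime⟩, hIn⟩
    have h1 := Ideal.mem_map_of_mem (ev I z).toRingHom hx
    rw [Ideal.map_map] at h1
    have h2 : (ev I z).toRingHom.comp (algebraMap A (W A I)) = algebraMap A _ := (ev I z).comp_algebraMap
    change ev I z (algebraMap A _ a) ∈ I.map ((ev I z).toRingHom.comp (algebraMap A (W A I))) at h1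
    rw [h2, (ev I z).commutes] at h1
    obtain ⟨t, ht, hta⟩ := (IsLocalization.algebraMap_mem_map_algebraMap_iff n.primeCompl _ I a).mp h1
    exact ht (hle (by simpa using hta))
  · intro y
    obtain ⟨σ, rfl⟩ := Ideal.Quotient.mk_surjective y
    let J := I.map (algebraMap A (W A I))
    let K : Ideal A :=
      { carrier := {c | ∃ x : A, σ * algebraMap A (W A I) c - algebraMap A (W A I) x ∈ J}
        zero_mem' := ⟨0, by simp⟩
        add_mem' := fun {c d} ⟨x, hx⟩ ⟨y, hy⟩ => ⟨x + y, by
          have := add_mem hx hy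
          convert this using 1
          simp only [map_add]
          ring⟩
        smul_mem' := fun r c ⟨x, hx⟩ => ⟨r * x, by
          have := J.mul_mem_left (algebraMap A (W A I) r) hx
          convert this using 1
          simp only [smul_eq_mul, map_mul]
          ring⟩ }
    suffices hK : K = ⊤ by
      obtain ⟨x, hx⟩ : (1 : A) ∈ K := hK ▸ trivial
      refine ⟨Ideal.Quotient.mk I x, ?_⟩
      rw [Ideal.quotientMap_mk, Ideal.Quotient.mk_eq_mk_iff_sub_mem]
      have := neg_mem hx
      simpa using this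
    by_contra hne
    obtain ⟨n, hn, hKn⟩ := Ideal.exists_le_maximal _ hne
    have hIn : I ≤ n := fun i hi => hKn ⟨0, by
      rw [map_zero, sub_zero]
      exact J.mul_mem_left _ (Ideal.mem_map_of_mem _ hi)⟩
    let z : Pt A I := ⟨⟨n, hn.isPrime⟩, hIn⟩
    obtain ⟨f, s, a, b, hC, hC'⟩ := W_piecewise σ z
    have hclopen : IsClopen ((PrimeSpectrum.basicOpen (Ideal.Quotient.mk I f) : Set (PrimeSpectrum (A ⧸ I))) ∩
        ⋂ g ∈ (s : Set A), (PrimeSpectrum.basicOpen (Ideal.Quotient.mk I g) : Set (PrimeSpectrum (A ⧸ I)))ᶜ) := by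
      have hb : ∀ g, IsClopen (PrimeSpectrum.basicOpen (Ideal.Quotient.mk I g) : Set (PrimeSpectrum (A ⧸ I))) :=
        fun g => ⟨(PrimeSpectrum.isCompact_basicOpen _).isClosed, (PrimeSpectrum.basicOpen _).isOpen⟩
      exact (hb f).inter (s.finite_toSet.isClopen_biInter fun g _ => (hb g).compl)
    obtain ⟨e, e', hee, hee', hset⟩ := PrimeSpectrum.isClopen_iff_mul_add.mp hclopen
    have hpt : ∀ w : Pt A I, ∀ c : A, Ideal.Quotient.mk I c = e → (c ∉ w.1.asIdeal ↔ w.1 ∈ str A f s) := by
      intro w c hc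
      let wb : PrimeSpectrum (A ⧸ I) := ⟨w.1.asIdeal.map (Ideal.Quotient.mk I),
        Ideal.map_isPrime_of_surjective Ideal.Quotient.mk_surjective (by rw [Ideal.mk_ker]; exact w.2)⟩
      have hwb : ∀ x : A, Ideal.Quotient.mk I x ∈ wb.asIdeal ↔ x ∈ w.1.asIdeal := fun x => by
        change x ∈ (w.1.asIdeal.map (Ideal.Quotient.mk I)).comap (Ideal.Quotient.mk I) ↔ _
        rw [Ideal.comap_map_of_surjective _ Ideal.Quotient.mk_surjective, ← RingHom.ker_eq_comap_bot,
          Ideal.mk_ker, sup_eq_left.mpr w.2]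
      have := Set.ext_iff.mp hset wb
      simp only [Set.mem_inter_iff, Set.mem_iInter, Set.mem_compl_iff, SetLike.mem_coe,
        PrimeSpectrum.mem_basicOpen, not_not, hwb, ← hc] at this
      exact this.symm
    obtain ⟨c, hc⟩ := Ideal.Quotient.mk_surjective e
    have hid : c - c * c ∈ I := by
      rw [← Ideal.Quotient.eq_zero_iff_mem, map_sub, map_mul, hc]
      linear_combination hee - e * hee'
    have hu : IsUnit (Ideal.Quotient.mk I (b * c + (1 - c))) := by
      by_contra hu
      obtain ⟨m, hm, hmem⟩ := exists_max_ideal_of_mem_nonunits hu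
      let w : Pt A I := ⟨⟨m.comap (Ideal.Quotient.mk I), inferInstance⟩,
        fun i hi => by
          change Ideal.Quotient.mk I i ∈ m
          rw [Ideal.Quotient.eq_zero_iff_mem.mpr hi]
          exact m.zero_mem⟩
      replace hmem : b * c + (1 - c) ∈ w.1.asIdeal := hmem
      by_cases hcw : c ∈ w.1.asIdeal
      · refine w.1.isPrime.one_notMem ?_
        simpa using add_mem (sub_mem hmem (Ideal.mul_mem_left _ b hcw)) hcw
      · have h1c : 1 - c ∈ w.1.asIdeal := (w.1.isPrime.mem_or_mem (by
          convert w.2 hid using 1; ring : c * (1 - c) ∈ w.1.asIdeal)).resolve_left hcw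
        have := (w.1.isPrime.mem_or_mem (show b * c ∈ w.1.asIdeal by
          simpa using sub_mem hmem h1c)).resolve_right hcw
        exact (hC' w ((hpt w c hc).mp hcw)).1 this
    obtain ⟨v, hv⟩ := Ideal.Quotient.mk_surjective (hu.unit⁻¹ : (A ⧸ I)ˣ).1
    have hvbc : c - c * (v * b) ∈ I := by
      have h1 : Ideal.Quotient.mk I v * Ideal.Quotient.mk I (b * c + (1 - c)) = 1 := by
        rw [hv]; exact hu.val_inv_mul
      rw [← Ideal.Quotient.eq_zero_iff_mem]
      have h2 := Ideal.Quotient.eq_zero_iff_mem.mpr hid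
      simp only [map_sub, map_mul, map_add, map_one] at h1 h2 ⊢
      linear_combination (-Ideal.Quotient.mk I c) * h1 +
        (Ideal.Quotient.mk I v * (1 - Ideal.Quotient.mk I b)) * h2
    have hcn : c ∉ n := (hpt z c hc).mpr hC
    refine hcn (hKn ⟨a * c * v, mem_map_of_pointwise _ fun w => ?_⟩)
    change σ.1 w * algebraMap A _ c - algebraMap A _ (a * c * v) ∈ _
    by_cases hcw : c ∈ w.1.asIdeal
    · have h1c : 1 - c ∉ w.1.asIdeal := fun h1 => w.1.isPrime.one_notMem (by simpa using add_mem h1 hcw)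
      have hc' : algebraMap A (Localization.AtPrime w.1.asIdeal) c ∈ I.map (algebraMap A _) :=
        (IsLocalization.algebraMap_mem_map_algebraMap_iff w.1.asIdeal.primeCompl _ I c).mpr
          ⟨1 - c, h1c, by convert hid using 1; ring⟩
      rw [map_mul, map_mul]
      exact sub_mem (Ideal.mul_mem_left _ _ hc') (Ideal.mul_mem_right _ _ (Ideal.mul_mem_left _ _ hc'))
    · have hwC := (hpt w c hc).mp hcw
      rw [← Ideal.mul_unit_mem_iff_mem _ (IsLocalization.map_units (Localization.AtPrime w.1.asIdeal)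
        (⟨b, (hC' w hwC).1⟩ : w.1.asIdeal.primeCompl))]
      have e2 := (hC' w hwC).2
      have : (σ.1 w * algebraMap A _ c - algebraMap A (Localization.AtPrime w.1.asIdeal) (a * c * v)) *
          algebraMap A _ b = algebraMap A _ (a * (c - c * (v * b))) := by
        simp only [map_mul, map_sub]
        linear_combination (algebraMap A (Localization.AtPrime w.1.asIdeal) c) * e2
      rw [this]
      exact Ideal.mem_map_of_mem _ (I.mul_mem_left _ hvbc)

theorem exists_wLocal_along (A : Type u) [CommRing A] (I : Ideal A)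
    (hI : ProEtW.IsProfinite (PrimeSpectrum.zeroLocus (R := A) I)) :
    ∃ (B : Type u) (_ : CommRing B) (_ : Algebra A B), EtPBC.IsIndZariski A B ∧
      ProEtW.IsWLocal (PrimeSpectrum B) ∧
      ProEtW.closedPoints (PrimeSpectrum B) = PrimeSpectrum.zeroLocus (I.map (algebraMap A B)) ∧
      Function.Bijective (Ideal.quotientMap (I.map (algebraMap A B)) (algebraMap A B) Ideal.le_comap_map) := by
  obtain ⟨-, hT2, -⟩ := hI
  have hmax : ∀ z : Pt A I, z.1.asIdeal.IsMaximal := fun z => by
    rw [← PrimeSpectrum.isClosed_singleton_iff_isMaximal]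
    have := (PrimeSpectrum.isClosed_zeroLocus (I : Set A)).isClosedEmbedding_subtypeVal.isClosedMap _
      (isClosed_singleton (x := (⟨z.1, z.2⟩ : PrimeSpectrum.zeroLocus (I : Set A))))
    simpa using this
  have hemb := PrimeSpectrum.isClosedEmbedding_comap_of_surjective _ _ (Ideal.Quotient.mk_surjective (I := I))
  have hT2' : T2Space (PrimeSpectrum (A ⧸ I)) :=
    T2Space.of_injective_continuous
      (f := fun x => (⟨PrimeSpectrum.comap (Ideal.Quotient.mk I) x, fun i hi => by
        change Ideal.Quotient.mk I i ∈ x.asIdeal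
        rw [Ideal.Quotient.eq_zero_iff_mem.mpr hi]
        exact x.asIdeal.zero_mem⟩ : PrimeSpectrum.zeroLocus (I : Set A)))
      (fun x y h => hemb.injective (congrArg Subtype.val h))
      ((PrimeSpectrum.continuous_comap _).subtype_mk _)
  exact ⟨W A I, inferInstance, inferInstance, indZariski A I, isWLocal, closedPoints_eq hmax,
    quotientMap_bijective hT2'⟩

theorem exists_of_algebraicResidue (A B : Type u) [CommRing A] [CommRing B] [Algebra A B]
    (I : Ideal A) (hI0 : PrimeSpectrum.zeroLocus (R := A) I = ProEtW.closedPoints (PrimeSpectrum A))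
    (h : ProEtW.AlgebraicResidueExtensions A B) :
    PrimeSpectrum.zeroLocus (R := B) (I.map (algebraMap A B)) ⊆ ProEtW.closedPoints (PrimeSpectrum B) ∧
      ∃ (C : Type u) (_ : CommRing C) (_ : Algebra B C) (_ : Algebra A C) (_ : IsScalarTower A B C),
        EtPBC.IsIndZariski B C ∧
        Function.Bijective (Ideal.quotientMap ((I.map (algebraMap A B)).map (algebraMap B C))
          (algebraMap B C) Ideal.le_comap_map) ∧
        ProEtW.IsWLocal (PrimeSpectrum C) ∧
        ProEtW.IsWLocalMap (PrimeSpectrum.comap (algebraMap A C)) ∧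
        ProEtW.closedPoints (PrimeSpectrum C) =
          PrimeSpectrum.comap (algebraMap A C) ⁻¹' ProEtW.closedPoints (PrimeSpectrum A) := by
  let J := I.map (algebraMap A B)
  have hmax : ∀ q : PrimeSpectrum B, J ≤ q.asIdeal → q.asIdeal.IsMaximal := by
    intro q hq
    obtain ⟨M, hM, hqM⟩ := q.asIdeal.exists_le_maximal q.2.ne_top
    let m : PrimeSpectrum B := ⟨M, hM.isPrime⟩
    have h1 : PrimeSpectrum.comap (algebraMap A B) q ∈ ProEtW.closedPoints (PrimeSpectrum A) :=
      hI0 ▸ (Ideal.map_le_iff_le_comap.mp hq :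
        I ≤ (PrimeSpectrum.comap (algebraMap A B) q).asIdeal)
    have h1' := (PrimeSpectrum.isClosed_singleton_iff_isMaximal _).mp h1
    have he := h1'.eq_of_le (PrimeSpectrum.comap (algebraMap A B) m).isPrime.ne_top (Ideal.comap_mono hqM)
    have := WLocal.incomparable_of_algebraic A B h q m he hqM
    rw [this]; exact hM
  refine ⟨fun q hq => (PrimeSpectrum.isClosed_singleton_iff_isMaximal q).mpr (hmax q hq), ?_⟩
  have hT1 : T1Space (PrimeSpectrum (B ⧸ J)) := ⟨fun x => by
    rw [PrimeSpectrum.isClosed_singleton_iff_isMaximal]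
    have := hmax (PrimeSpectrum.comap (Ideal.Quotient.mk J) x) fun i hi => by
      change Ideal.Quotient.mk J i ∈ x.asIdeal
      rw [Ideal.Quotient.eq_zero_iff_mem.mpr hi]
      exact x.asIdeal.zero_mem
    rw [← Ideal.map_comap_of_surjective _ Ideal.Quotient.mk_surjective x.asIdeal]
    haveI : (x.asIdeal.comap (Ideal.Quotient.mk J)).IsMaximal := this
    refine (Ideal.map_eq_top_or_isMaximal_of_surjective _ Ideal.Quotient.mk_surjective
      this).resolve_left ?_
    rw [Ideal.map_comap_of_surjective _ Ideal.Quotient.mk_surjective]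
    exact x.isPrime.ne_top⟩
  have hT2 : T2Space (PrimeSpectrum (B ⧸ J)) := (WLocal.isProfinite_of_t1 _).2.1
  letI : Algebra A (W B J) := ((algebraMap B (W B J)).comp (algebraMap A B)).toAlgebra
  haveI : IsScalarTower A B (W B J) := .of_algebraMap_eq' rfl
  have hcp : ProEtW.closedPoints (PrimeSpectrum (W B J)) =
      PrimeSpectrum.comap (algebraMap A (W B J)) ⁻¹' ProEtW.closedPoints (PrimeSpectrum A) := by
    rw [closedPoints_eq (fun z => hmax z.1 z.2), ← hI0]
    ext q
    simp only [PrimeSpectrum.mem_zeroLocus, Set.mem_preimage, SetLike.coe_subset_coe,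
      PrimeSpectrum.comap_asIdeal, ← Ideal.map_le_iff_le_comap, J, Ideal.map_map]
    rfl
  refine ⟨W B J, inferInstance, inferInstance, inferInstance, inferInstance, indZariski B J,
    quotientMap_bijective hT2, isWLocal, ⟨isSpectralMap_comap _, fun q hq => ?_⟩, hcp⟩
  have : q ∈ ProEtW.closedPoints (PrimeSpectrum (W B J)) := hq
  rw [hcp] at this
  exact this

end profinite

end Groth.L27.WConstruction
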